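import Groth.Agent.TFOneLib.Simple

/-!
Non-scalar endomorphisms of torsion-free rank one sheaves decompose them along subcurves.
-/

set_option autoImplicit false
set_option linter.style.haveILetI false
set_option linter.unusedSectionVars false
set_option backward.isDefEq.respectTransparency false

universe u

open CategoryTheory CategoryTheory.Limits AlgebraicGeometry TopologicalSpace Opposite
open Groth.Agent.WeakAssLib (mgerm mgerm_res stalkHom stalkHom_germ stalkHom_smul stalkHom_injective)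

noncomputable section

namespace Groth.Agent.TFOneLib

variable {X : Scheme.{u}} {k : Type u} [Field k] [X.Over (Spec (CommRingCat.of k))]

theorem stalkHom_sub {F G : X.Modules} (f g : F ⟶ G) (x : X) (m : F.presheaf.stalk x) :
    stalkHom (f - g) x m = stalkHom f x m - stalkHom g x m := by
  rw [sub_eq_add_neg, stalkHom_add, stalkHom_neg, ← sub_eq_add_neg]

/-- Lagrange interpolation in an endomorphism with scalar stalks. -/
theorem exists_indicator {M : X.Modules} (φ : M ⟶ M) (c : X → k)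
    (hc : ∀ η ∈ genericPoints X, ∀ m, stalkHom φ η m = kst X k η (c η) • m) (c₀ : k) (s : Finset k)
    (hs : c₀ ∉ s) : ∃ e : M ⟶ M, ∀ η ∈ genericPoints X,
      (c η = c₀ → ∀ m, stalkHom e η m = m) ∧ (c η ∈ s → ∀ m, stalkHom e η m = 0) := by
  classical
  induction s using Finset.induction_on with
  | empty => exact ⟨𝟙 M, fun η _ => ⟨fun _ m => stalkHom_id M η m, fun h => absurd h (Finset.notMem_empty _)⟩⟩
  | insert a s ha ih =>
    rw [Finset.mem_insert, not_or] at hs
    obtain ⟨e, he⟩ := ih hs.2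
    refine ⟨e ≫ ((c₀ - a)⁻¹ • (φ - a • 𝟙 M)), fun η hη => ?_⟩
    have hval : ∀ m, stalkHom (e ≫ ((c₀ - a)⁻¹ • (φ - a • 𝟙 M))) η m =
        kst X k η ((c₀ - a)⁻¹ * (c η - a)) • stalkHom e η m := fun m => by
      rw [stalkHom_comp, stalkHom_smul', stalkHom_sub, stalkHom_smul', stalkHom_id, hc η hη, ← sub_smul,
        ← map_sub, smul_smul, ← map_mul]
    refine ⟨fun h m => ?_, fun h m => ?_⟩
    · rw [hval, (he η hη).1 h, h, inv_mul_cancel₀ (sub_ne_zero.2 hs.1), map_one, one_smul]
    · rw [hval]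
      rcases Finset.mem_insert.1 h with h | h
      · rw [h, sub_self, mul_zero, map_zero, zero_smul]
      · rw [(he η hη).2 h, smul_zero]

theorem isTorsionFree_of_mono {A B : X.Modules} (j : A ⟶ B) [Mono j] (hB : TorSh.IsTorsionFree B) :
    TorSh.IsTorsionFree A := fun x => by
  refine ⟨fun r hr a b hab => stalkHom_injective j x ?_⟩
  have h := congrArg (stalkHom j x) hab
  simp only [stalkHom_smul] at h
  exact (hB x).isSMulRegular hr h

/-- The kernel of a complementary idempotent is a torsion-free quotient on the components where it is one. -/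
theorem quot_of_idem [IsLocallyNoetherian X] [IsReduced X] [NoetherianSpace X] {M : X.Modules}
    (hM : TFOne.IsTF1 X M) (e : M ⟶ M) (he : e ≫ (𝟙 M - e) = 0) (P : X → Prop)
    (hP : ∀ η ∈ genericPoints X, (P η → ∀ m, stalkHom e η m = m) ∧ (¬ P η → ∀ m, stalkHom e η m = 0)) :
    TFOne.IsQuotOn X M (⋃₀ {C | C ∈ irreducibleComponents (X : Type u) ∧
      ∃ η ∈ genericPoints X, C = closure {η} ∧ P η}) (kernel (𝟙 M - e)) (kernel.lift _ e he) := by
  have hG : Coh.IsCoh (kernel (𝟙 M - e)) := Groth.Agent.QC.isCoh_kernel hM.1 hM.1.1 _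
  have htf := isTorsionFree_of_mono (kernel.ι (𝟙 M - e)) hM.2.1
  refine ⟨?_, hG, htf, ?_⟩
  · have h0 : kernel.ι (𝟙 M - e) ≫ e = kernel.ι (𝟙 M - e) := by
      have := kernel.condition (𝟙 M - e)
      rw [Preadditive.comp_sub, Category.comp_id, sub_eq_zero] at this
      exact this.symm
    haveI : IsSplitEpi (kernel.lift (𝟙 M - e) e he) := IsSplitEpi.mk' ⟨kernel.ι _, by
      rw [← cancel_mono (kernel.ι (𝟙 M - e)), Category.assoc, kernel.lift_ι, Category.id_comp, h0]⟩
    infer_instance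
  · have hiff : ∀ η ∈ genericPoints X, (η ∈ CohB1.support (kernel (𝟙 M - e)) ↔ P η) := by
      intro η hη
      constructor
      · intro h
        by_contra hPη
        refine h ⟨fun a b => ?_⟩
        suffices hz : ∀ v : (kernel (𝟙 M - e)).presheaf.stalk η, v = 0 from (hz a).trans (hz b).symm
        intro v
        refine stalkHom_injective (kernel.ι (𝟙 M - e)) η ?_
        have := congrArg (fun f => stalkHom f η v) (kernel.condition (𝟙 M - e))
        simp only [stalkHom_comp, stalkHom_sub, stalkHom_id, stalkHom_zero, (hP η hη).2 hPη, sub_zero] at this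
        rw [this, map_zero]
      · intro hPη
        obtain ⟨m, hm⟩ := exists_ne_zero hM.2.2 hη
        intro hsub
        refine hm ?_
        rw [← (hP η hη).1 hPη m, ← kernel.lift_ι (𝟙 M - e) e he, stalkHom_comp,
          @Subsingleton.elim _ hsub (stalkHom (kernel.lift (𝟙 M - e) e he) η m) 0, map_zero]
    rw [support_eq hG htf]
    refine congrArg Set.sUnion (Set.ext fun C => and_congr_right fun _ =>
      ⟨fun ⟨η, hη, hC, h⟩ => ⟨η, hη, hC, (hiff η hη).1 h⟩, fun ⟨η, hη, hC, h⟩ => ⟨η, hη, hC, (hiff η hη).2 h⟩⟩)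

/-- A module with support a nonempty union of components is nonzero. -/
theorem not_isZero_of_support {G : X.Modules} {Y : Set X} (hY : VecSt.IsSubcurve X Y)
    (h : CohB1.support G = Y) : ¬ IsZero G := fun hz => by
  obtain ⟨𝒮, h𝒮, ⟨C, hC⟩, rfl⟩ := hY
  obtain ⟨x, hx⟩ := (h𝒮 hC).1.nonempty
  have hxs : x ∈ CohB1.support G := h ▸ ⟨C, hC, hx⟩
  refine hxs ⟨fun a b => ?_⟩
  rw [← stalkHom_id G x a, ← stalkHom_id G x b, hz.eq_of_src (𝟙 G) 0, stalkHom_zero, stalkHom_zero]

variable [IsProper (X ↘ Spec (CommRingCat.of k))] [IsReduced X]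

/-- Simple or decomposable. -/
theorem exists_decomp [Nonempty X] {I : X.Modules} (hI : TFOne.IsTF1 X I)
    (hgi : ∀ (C : Set X) (hC : C ∈ irreducibleComponents (X : Type u)), GeometricallyIntegral
      (VecSt.subschι X C (isClosed_of_mem_irreducibleComponents C hC) ≫ (X ↘ Spec (CommRingCat.of k))))
    (hns : ¬ TFOne.IsSimple X k (X ↘ Spec (CommRingCat.of k)) I) :
    ∃ (Y Z : Set X) (_ : IsClosed Y) (_ : IsClosed Z) (GY GZ : X.Modules) (πY : I ⟶ GY) (πZ : I ⟶ GZ),
      VecSt.IsSubcurve X Y ∧ VecSt.IsSubcurve X Z ∧ Y ≠ Set.univ ∧ Z ≠ Set.univ ∧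
        TFOne.IsQuotOn X I Y GY πY ∧ TFOne.IsQuotOn X I Z GZ πZ ∧ IsIso (biprod.lift πY πZ) := by
  classical
  haveI := CurveRR.isNoetherian_of_proper k X
  obtain ⟨x⟩ := ‹Nonempty X›
  obtain ⟨ζ, hζ, -⟩ := exists_generic x
  obtain ⟨φ, hφ⟩ : ∃ φ : I ⟶ I, ∀ c : k, φ ≠ Formal.smulMod k I c := by
    by_contra! h
    exact hns ⟨not_isZero hI.2.2 hζ, h⟩
  have hall : ∀ η : X, ∃ c : k, η ∈ genericPoints X → ∀ m, stalkHom φ η m = kst X k η c • m := fun η => by
    by_cases hη : η ∈ genericPoints X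
    · obtain ⟨c, hc⟩ := exists_scalar (k := k) hI φ hη hgi
      exact ⟨c, fun _ => hc⟩
    · exact ⟨0, fun h => absurd h hη⟩
  choose c hc using hall
  obtain ⟨ζ', hζ', hne⟩ : ∃ η ∈ genericPoints X, c η ≠ c ζ := by
    by_contra! h
    refine hφ (c ζ) (sub_eq_zero.1 (hom_eq_zero hI.1.1 hI.2.1 _ fun η hη m => ?_))
    rw [stalkHom_sub, stalkHom_smulMod, hc η hη, h η hη, sub_self]
  have hfin : (genericPoints X).Finite := Set.Finite.of_finite_image (f := fun η => closure ({η} : Set X))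
    (NoetherianSpace.finite_irreducibleComponents.subset (by rintro _ ⟨η, hη, rfl⟩; exact hη))
    fun a _ b hb h => eq_of_specializes hb (specializes_iff_mem_closure.2 (by rw [show closure {a} = closure {b} from h]; exact subset_closure rfl))
  obtain ⟨e, he⟩ := exists_indicator φ c hc (c ζ) ((hfin.toFinset.image c).erase (c ζ)) (Finset.notMem_erase _ _)
  have h1 : ∀ η ∈ genericPoints X, c η = c ζ → ∀ m, stalkHom e η m = m := fun η hη h => (he η hη).1 h
  have h0 : ∀ η ∈ genericPoints X, c η ≠ c ζ → ∀ m, stalkHom e η m = 0 := fun η hη h =>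
    (he η hη).2 (Finset.mem_erase.2 ⟨h, Finset.mem_image.2 ⟨η, hfin.mem_toFinset.2 hη, rfl⟩⟩)
  have hidem : e ≫ e = e := sub_eq_zero.1 (hom_eq_zero hI.1.1 hI.2.1 _ fun η hη m => by
    rw [stalkHom_sub, stalkHom_comp, sub_eq_zero]
    by_cases h : c η = c ζ
    · rw [h1 η hη h]
    · rw [h0 η hη h m, map_zero])
  have hw : e ≫ (𝟙 I - e) = 0 := by rw [Preadditive.comp_sub, Category.comp_id, hidem, sub_self]
  have hw' : (𝟙 I - e) ≫ (𝟙 I - (𝟙 I - e)) = 0 := by
    rw [sub_sub_cancel, Preadditive.sub_comp, Category.id_comp, hidem, sub_self]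
  have hY := quot_of_idem hI e hw (fun η => c η = c ζ) fun η hη => ⟨h1 η hη, h0 η hη⟩
  have hZ := quot_of_idem hI (𝟙 I - e) hw' (fun η => ¬ c η = c ζ) fun η hη =>
    ⟨fun h m => by rw [stalkHom_sub, stalkHom_id, h0 η hη h, sub_zero],
      fun h m => by rw [stalkHom_sub, stalkHom_id, h1 η hη (not_not.1 h), sub_self]⟩
  have hsub : ∀ (P : X → Prop) (a : X), a ∈ genericPoints X → P a → VecSt.IsSubcurve X
      (⋃₀ {C | C ∈ irreducibleComponents (X : Type u) ∧ ∃ η ∈ genericPoints X, C = closure {η} ∧ P η}) :=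
    fun P a ha hPa => ⟨{C | C ∈ irreducibleComponents (X : Type u) ∧
      ∃ η ∈ genericPoints X, C = closure {η} ∧ P η}, fun C hC => hC.1, ⟨closure {a}, ha, a, ha, rfl, hPa⟩, rfl⟩
  have hne' : ∀ (P : X → Prop) (a : X), a ∈ genericPoints X → ¬ P a →
      ⋃₀ {C | C ∈ irreducibleComponents (X : Type u) ∧ ∃ η ∈ genericPoints X, C = closure {η} ∧ P η} ≠ Set.univ := by
    intro P a ha hPa h
    obtain ⟨C, ⟨-, η, hη, rfl, hPη⟩, haC⟩ := h.ge (Set.mem_univ a)
    exact hPa (eq_of_specializes ha (specializes_iff_mem_closure.2 haC) ▸ hPη)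
  have hcl : ∀ {G : X.Modules} {π : I ⟶ G} {S : Set X}, TFOne.IsQuotOn X I S G π → IsClosed S := fun h => by
    rw [← h.2.2.2]; exact Groth.Agent.QC.isClosed_support h.2.1.2
  refine ⟨_, _, hcl hY, hcl hZ, _, _, _, _, hsub _ ζ hζ rfl, hsub (fun η => ¬ c η = c ζ) ζ' hζ' hne,
    hne' _ ζ' hζ' hne, hne' _ ζ hζ (fun h => h rfl), hY, hZ, ?_⟩
  refine ⟨biprod.desc (kernel.ι _) (kernel.ι _), ?_, ?_⟩
  · rw [biprod.lift_desc, kernel.lift_ι, kernel.lift_ι, add_sub_cancel]
  · have ka : kernel.ι (𝟙 I - e) ≫ e = kernel.ι (𝟙 I - e) := by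
      have := kernel.condition (𝟙 I - e)
      rw [Preadditive.comp_sub, Category.comp_id, sub_eq_zero] at this
      exact this.symm
    have kb : kernel.ι (𝟙 I - (𝟙 I - e)) ≫ e = 0 := by
      have := kernel.condition (𝟙 I - (𝟙 I - e))
      simpa [sub_sub_cancel] using this
    apply biprod.hom_ext' <;> apply biprod.hom_ext <;>
      simp only [Category.assoc, biprod.lift_fst, biprod.lift_snd, biprod.inl_desc_assoc, biprod.inr_desc_assoc,
        Category.comp_id, biprod.inl_fst, biprod.inl_snd, biprod.inr_fst, biprod.inr_snd] <;>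
      rw [← cancel_mono (kernel.ι _), Category.assoc, kernel.lift_ι]
    · rw [ka, Category.id_comp]
    · rw [Preadditive.comp_sub, Category.comp_id, ka, sub_self, zero_comp]
    · rw [kb, zero_comp]
    · rw [Preadditive.comp_sub, Category.comp_id, kb, sub_zero, Category.id_comp]

end Groth.Agent.TFOneLib
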