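import Groth.Agent.TFOneLib.Basic
import Groth.Agent.CurveRR.Pencil

/-!
The inclusion-exclusion inequality for Euler characteristics of torsion-free quotients.
-/

set_option autoImplicit false
set_option linter.style.haveILetI false
set_option linter.unusedSectionVars false
set_option backward.isDefEq.respectTransparency false

universe u

open CategoryTheory CategoryTheory.Limits AlgebraicGeometry TopologicalSpace Opposite
open Groth.Agent.WeakAssLib (mgerm mgerm_res stalkHom stalkHom_germ stalkHom_smul stalk_exact stalkHom_injective)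

noncomputable section

namespace Groth.Agent.TFOneLib

variable {X : Scheme.{u}}

theorem stalkHom_add {F G : X.Modules} (f g : F ⟶ G) (x : X) (m : F.presheaf.stalk x) :
    stalkHom (f + g) x m = stalkHom f x m + stalkHom g x m := by
  obtain ⟨V, hxV, s, rfl⟩ := F.presheaf.exists_germ_eq (x := x) m
  change stalkHom (f + g) x (mgerm F hxV s) = stalkHom f x (mgerm F hxV s) + stalkHom g x (mgerm F hxV s)
  rw [stalkHom_germ, stalkHom_germ, stalkHom_germ, ← map_add]
  rfl

theorem stalkHom_neg {F G : X.Modules} (f : F ⟶ G) (x : X) (m : F.presheaf.stalk x) :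
    stalkHom (-f) x m = -stalkHom f x m := by
  rw [eq_neg_iff_add_eq_zero, ← stalkHom_add, neg_add_cancel, stalkHom_zero]

theorem stalkHom_id (F : X.Modules) (x : X) (m : F.presheaf.stalk x) : stalkHom (𝟙 F) x m = m := by
  obtain ⟨V, hxV, s, rfl⟩ := F.presheaf.exists_germ_eq (x := x) m
  change stalkHom (𝟙 F) x (mgerm F hxV s) = mgerm F hxV s
  rw [stalkHom_germ]
  rfl

theorem stalk_biprod_ext {A B : X.Modules} {x : X} (a b : (A ⊞ B).presheaf.stalk x)
    (h₁ : stalkHom (biprod.fst : A ⊞ B ⟶ A) x a = stalkHom (biprod.fst : A ⊞ B ⟶ A) x b)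
    (h₂ : stalkHom (biprod.snd : A ⊞ B ⟶ B) x a = stalkHom (biprod.snd : A ⊞ B ⟶ B) x b) : a = b := by
  have e : ∀ c : (A ⊞ B).presheaf.stalk x, c =
      stalkHom (biprod.inl : A ⟶ A ⊞ B) x (stalkHom (biprod.fst : A ⊞ B ⟶ A) x c) +
        stalkHom (biprod.inr : B ⟶ A ⊞ B) x (stalkHom (biprod.snd : A ⊞ B ⟶ B) x c) := fun c => by
    rw [← stalkHom_comp, ← stalkHom_comp, ← stalkHom_add, biprod.total, stalkHom_id]
  rw [e a, e b, h₁, h₂]

theorem stalkHom_desc {A B C : X.Modules} (f : A ⟶ C) (g : B ⟶ C) (x : X) (a : (A ⊞ B).presheaf.stalk x) :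
    stalkHom (biprod.desc f g) x a = stalkHom f x (stalkHom (biprod.fst : A ⊞ B ⟶ A) x a) +
      stalkHom g x (stalkHom (biprod.snd : A ⊞ B ⟶ B) x a) := by
  rw [← stalkHom_comp, ← stalkHom_comp, ← stalkHom_add, biprod.desc_eq]

/-- A closed set avoiding the generic points of a space of dimension one is zero-dimensional. -/
theorem dim_le_zero_of_generic (hdim : topologicalKrullDim X ≤ 1) {Z : Set X} (hZ : IsClosed Z)
    (hne : ∀ η ∈ genericPoints X, η ∉ Z) : topologicalKrullDim Z ≤ 0 := by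
  haveI : QuasiSober Z := hZ.isClosedEmbedding_subtypeVal.quasiSober
  refine le_of_le_of_eq ?_ (Nat.cast_zero (R := WithBot ℕ∞))
  refine Groth.Agent.Unibranch.topologicalKrullDim_le_natCast fun l c hc => ?_
  obtain ⟨η, hη, hs⟩ := exists_generic (c 0).1
  have h1 := Groth.Agent.Unibranch.natCast_le_topologicalKrullDim
    (Fin.cons η fun i => (c i).1) fun i => by
      refine Fin.cases ?_ (fun j => ?_) i
      · refine ⟨hs, fun h => hne η hη ?_⟩
        simp only [Fin.castSucc_zero, Fin.cons_zero, Fin.cons_succ] at h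
        exact h ▸ (c 0).2
      · simp only [← Fin.succ_castSucc, Fin.cons_succ]
        exact ⟨(subtype_specializes_iff _ _).mp (hc j).1, fun h => (hc j).2 (Subtype.ext h)⟩
  have h2 := h1.trans hdim
  exact Nat.succ_le_succ_iff.mp (CartierDim.natCast_le_withBot.mp (h2.trans_eq Nat.cast_one.symm))

/-- A space all of whose components have dimension one has dimension at most one. -/
theorem dim_le_one (hpure : ∀ C ∈ irreducibleComponents (X : Type u), topologicalKrullDim C = 1) :
    topologicalKrullDim X ≤ 1 := by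
  refine le_of_le_of_eq ?_ (Nat.cast_one (R := WithBot ℕ∞))
  refine Groth.Agent.Unibranch.topologicalKrullDim_le_natCast fun l c hc => ?_
  obtain ⟨η, hη, hs⟩ := exists_generic (c 0)
  let C : Set X := closure {η}
  haveI : QuasiSober C := (isClosed_closure (s := ({η} : Set X))).isClosedEmbedding_subtypeVal.quasiSober
  have hmem : ∀ i, c i ∈ C := by
    intro i
    refine specializes_iff_mem_closure.1 ?_
    induction i using Fin.induction with
    | zero => exact hs
    | succ j ih => exact ih.trans (hc j).1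
  have h1 := Groth.Agent.Unibranch.natCast_le_topologicalKrullDim (fun i => (⟨c i, hmem i⟩ : C))
    fun i => ⟨(subtype_specializes_iff _ _).mpr (hc i).1, fun h => (hc i).2 (congrArg Subtype.val h)⟩
  rw [hpure C hη] at h1
  exact CartierDim.natCast_le_withBot.mp (h1.trans_eq Nat.cast_one.symm)

section Proper

variable {k : Type u} [Field k] [X.Over (Spec (CommRingCat.of k))] [IsProper (X ↘ Spec (CommRingCat.of k))]

/-- A coherent module vanishing at the generic points of a curve has nonnegative Euler characteristic, zero only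
when it vanishes. -/
theorem euler_torsion (hdim : topologicalKrullDim X ≤ 1) {Q : X.Modules} (hQ : Coh.IsCoh Q)
    (h : ∀ η ∈ genericPoints X, Subsingleton (Q.presheaf.stalk η)) :
    0 ≤ Curv2.euler k X Q ∧ (Curv2.euler k X Q = 0 → IsZero Q) := by
  haveI := CurveRR.isNoetherian_of_proper k X
  have hcl := Groth.Agent.QC.isClosed_support hQ.2
  have hd := dim_le_zero_of_generic hdim hcl fun η hη =>
    notMem_support (h η hη)
  have hQ' : Curv2.euler k X Q = CurveRR.h k Q 0 := CurveRR.euler_eq_h0 fun i hi =>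
    SuppZero.subsingleton_hh_of_supported hcl hd _ (fun _ hy => hy) i hi
  rw [hQ']
  refine ⟨by positivity, fun he => ?_⟩
  haveI := Groth.Agent.CohFinite.finite_proper k X _ hQ 0
  haveI : Subsingleton (Coh.HH X Q 0) := Module.finrank_zero_iff.1 (by simpa [CurveRR.h] using he)
  exact CurveRR.isZero_of_h0 (k := k) hcl hd le_rfl (CurveRR.secH0 (k := k) Q).toEquiv.subsingleton

theorem euler_biprod {A B : X.Modules} (hA : Coh.IsCoh A) (hB : Coh.IsCoh B) :
    Curv2.euler k X (A ⊞ B) = Curv2.euler k X A + Curv2.euler k X B := by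
  haveI := CurveRR.isNoetherian_of_proper k X
  exact CurveRR.euler_add (S := ShortComplex.mk (biprod.inl : A ⟶ A ⊞ B) biprod.snd biprod.inl_snd)
    (ShortComplex.Splitting.ofHasBinaryBiproduct A B).shortExact hA (CurveRR.isCoh_biprod2 hA hB) hB

variable [IsReduced X]

/-- `χ(M_{Y∪Z}) + χ(M_W) + χ(K) = χ(M_Y) + χ(M_Z)` with `K` torsion. -/
theorem euler_defect (hdim : topologicalKrullDim X ≤ 1) {M : X.Modules} (hM : TFOne.IsTF1 X M)
    {Y Z U W : Set X} (hU : ∀ η ∈ genericPoints X, (η ∈ U ↔ η ∈ Y ∨ η ∈ Z))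
    (hW : ∀ η ∈ genericPoints X, (η ∈ W ↔ η ∈ Y ∧ η ∈ Z)) {GY GZ GU GW : X.Modules}
    {πY : M ⟶ GY} {πZ : M ⟶ GZ} {πU : M ⟶ GU} {πW : M ⟶ GW}
    (hGY : TFOne.IsQuotOn X M Y GY πY) (hGZ : TFOne.IsQuotOn X M Z GZ πZ)
    (hGU : TFOne.IsQuotOn X M U GU πU) (hGW : TFOne.IsQuotOn X M W GW πW) :
    Curv2.euler k X GU + Curv2.euler k X GW ≤ Curv2.euler k X GY + Curv2.euler k X GZ := by
  haveI := CurveRR.isNoetherian_of_proper k X
  have hr := hM.2.2
  haveI := hGU.1; haveI := hGY.1; haveI := hGZ.1; haveI := hGW.1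
  obtain ⟨pY, hpY, _⟩ := exists_desc hr hGU hGY fun η hη h => (hU η hη).2 (Or.inl h)
  obtain ⟨pZ, hpZ, _⟩ := exists_desc hr hGU hGZ fun η hη h => (hU η hη).2 (Or.inr h)
  obtain ⟨qY, hqY, hqY'⟩ := exists_desc hr hGY hGW fun η hη h => ((hW η hη).1 h).1
  obtain ⟨qZ, hqZ, _⟩ := exists_desc hr hGZ hGW fun η hη h => ((hW η hη).1 h).2
  haveI := hqY'
  let φ : GU ⟶ GY ⊞ GZ := biprod.lift pY pZ
  let ψ : GY ⊞ GZ ⟶ GW := biprod.desc qY (-qZ)
  have hw : φ ≫ ψ = 0 := by
    simp only [φ, ψ, biprod.lift_desc]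
    rw [← cancel_epi πU]
    simp [← Category.assoc, hpY, hpZ, hqY, hqZ]
  haveI hmono : Mono φ := by
    refine Preadditive.mono_of_kernel_zero (hom_eq_zero hGU.2.1.1 hGU.2.2.1 _ fun η hη m => ?_)
    have h0 : stalkHom φ η (stalkHom (kernel.ι φ) η m) = 0 := by
      rw [← stalkHom_comp, kernel.condition, stalkHom_zero]
    obtain ⟨c, hc⟩ := stalkHom_surjective πU η (stalkHom (kernel.ι φ) η m)
    rw [← hc] at h0 ⊢
    have hY0 : stalkHom πY η c = 0 := by
      have := congrArg (stalkHom (biprod.fst : GY ⊞ GZ ⟶ GY) η) h0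
      rw [map_zero, ← stalkHom_comp, ← stalkHom_comp, biprod.lift_fst, hpY] at this
      exact this
    have hZ0 : stalkHom πZ η c = 0 := by
      have := congrArg (stalkHom (biprod.snd : GY ⊞ GZ ⟶ GZ) η) h0
      rw [map_zero, ← stalkHom_comp, ← stalkHom_comp, biprod.lift_snd, hpZ] at this
      exact this
    by_cases hηU : η ∈ U
    · rcases (hU η hη).1 hηU with h | h
      · rw [(injective_iff_map_eq_zero _).1 (stalkHom_injective_of_quot hr hGY hη h) c hY0, map_zero]
      · rw [(injective_iff_map_eq_zero _).1 (stalkHom_injective_of_quot hr hGZ hη h) c hZ0, map_zero]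
    · haveI := subsingleton_of_notMem (G := GU) (x := η) (by rw [hGU.2.2.2]; exact hηU)
      exact Subsingleton.elim _ _
  haveI : Epi ψ := epi_of_epi_fac (f := (biprod.inl : GY ⟶ GY ⊞ GZ)) (h := qY) (biprod.inl_desc _ _)
  have hB := CurveRR.isCoh_biprod2 hGY.2.1 hGZ.2.1
  have hC : Coh.IsCoh (cokernel φ) := Groth.Agent.QC.isCoh_cokernel hGU.2.1.1 hB φ
  let g : cokernel φ ⟶ GW := cokernel.desc φ ψ hw
  haveI : Epi g := epi_of_epi_fac (f := cokernel.π φ) (h := ψ) (cokernel.π_desc _ _ _)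
  have hK : Coh.IsCoh (kernel g) := Groth.Agent.QC.isCoh_kernel hC hGW.2.1.1 g
  have hS₁ : (ShortComplex.mk φ (cokernel.π φ) (cokernel.condition φ)).ShortExact :=
    { exact := ShortComplex.exact_cokernel φ }
  have e₁ := CurveRR.euler_add (k := k) hS₁ hGU.2.1 hB hC
  have e₂ := CurveRR.euler_add (k := k) (CurveRR.shortExact_ker g) hK hC hGW.2.1
  have e₃ := euler_biprod (k := k) hGY.2.1 hGZ.2.1
  have hnn := (euler_torsion (k := k) hdim hK fun η hη => ?_).1
  · simp only at e₁ e₂
    omega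
  refine ⟨fun a b => ?_⟩
  suffices h : ∀ m : (kernel g).presheaf.stalk η, m = 0 from (h a).trans (h b).symm
  intro m
  refine stalkHom_injective (kernel.ι g) η ?_
  rw [map_zero]
  obtain ⟨v, hv⟩ := stalkHom_surjective (cokernel.π φ) η (stalkHom (kernel.ι g) η m)
  have hψ : stalkHom ψ η v = 0 := by
    rw [← cokernel.π_desc φ ψ hw, stalkHom_comp, hv, ← stalkHom_comp, kernel.condition, stalkHom_zero]
  suffices hv' : ∃ c, stalkHom φ η c = v by
    obtain ⟨c, rfl⟩ := hv'
    rw [← hv, ← stalkHom_comp, cokernel.condition, stalkHom_zero]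
  rw [stalkHom_desc, stalkHom_neg] at hψ
  by_cases hηY : η ∈ Y
  · obtain ⟨c, hc⟩ := stalkHom_surjective πY η (stalkHom (biprod.fst : GY ⊞ GZ ⟶ GY) η v)
    refine ⟨stalkHom πU η c, stalk_biprod_ext _ _ ?_ ?_⟩
    · rw [← stalkHom_comp, ← stalkHom_comp, biprod.lift_fst, hpY, hc]
    · rw [← stalkHom_comp, ← stalkHom_comp, biprod.lift_snd, hpZ]
      by_cases hηZ : η ∈ Z
      · obtain ⟨d, hd⟩ := stalkHom_surjective πZ η (stalkHom (biprod.snd : GY ⊞ GZ ⟶ GZ) η v)
        rw [← hd, ← hc, ← stalkHom_comp, ← stalkHom_comp, hqY, hqZ, ← sub_eq_add_neg, sub_eq_zero] at hψ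
        rw [stalkHom_injective_of_quot hr hGW hη ((hW η hη).2 ⟨hηY, hηZ⟩) hψ, hd]
      · haveI := subsingleton_of_notMem (G := GZ) (x := η) (by rw [hGZ.2.2.2]; exact hηZ)
        exact Subsingleton.elim _ _
  · obtain ⟨c, hc⟩ := stalkHom_surjective πZ η (stalkHom (biprod.snd : GY ⊞ GZ ⟶ GZ) η v)
    refine ⟨stalkHom πU η c, stalk_biprod_ext _ _ ?_ ?_⟩
    · haveI := subsingleton_of_notMem (G := GY) (x := η) (by rw [hGY.2.2.2]; exact hηY)
      exact Subsingleton.elim _ _
    · rw [← stalkHom_comp, ← stalkHom_comp, biprod.lift_snd, hpZ, hc]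

end Proper

end Groth.Agent.TFOneLib
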