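import Groth.Agent.TFOneLib.Beta
import Groth.Agent.TFOneLib.Euler
import Groth.Agent.W7Cech.FlatBCSep
import Groth.Agent.BettiNN.Basic
import Groth.Agent.Nakai.AlgEquiv
import Groth.Agent.KFlat.PullTensor

/-!
`β` as an Euler characteristic, and Euler characteristics in families and under field extension.
-/

set_option autoImplicit false
set_option linter.style.haveILetI false
set_option linter.unusedSectionVars false
set_option backward.isDefEq.respectTransparency false
set_option backward.isDefEq.respectTransparency.types false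

universe u

open CategoryTheory CategoryTheory.Limits AlgebraicGeometry TopologicalSpace Opposite

noncomputable section

namespace Groth.Agent.TFOneLib

/-- Euler characteristics do not change under extension of the field. -/
theorem euler_pullback {k Ω : Type u} [Field k] [Field Ω] [Algebra k Ω] {X Y : Scheme.{u}}
    [X.Over (Spec (CommRingCat.of k))] [IsProper (X ↘ Spec (CommRingCat.of k))]
    [Y.Over (Spec (CommRingCat.of Ω))] (g : Y ⟶ X)
    (sq : IsPullback g (Y ↘ Spec (CommRingCat.of Ω)) (X ↘ Spec (CommRingCat.of k))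
      (Spec.map (CommRingCat.ofHom (algebraMap k Ω)))) (F : X.Modules) (hF : Coh.IsQCoh F) :
    Curv2.euler Ω Y ((Scheme.Modules.pullback g).obj F) = Curv2.euler k X F := by
  haveI : CompactSpace X := QuasiCompact.compactSpace_of_compactSpace (X ↘ Spec (CommRingCat.of k))
  haveI : X.IsSeparated := by
    constructor
    rw [← terminal.comp_from (X ↘ Spec (CommRingCat.of k))]
    infer_instance
  unfold Curv2.euler
  refine finsum_congr fun i => ?_
  obtain ⟨e⟩ := W7Cech.nonempty_hh_flatBC k Ω g sq F hF i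
  rw [← e.finrank_eq, Module.finrank_baseChange]

/-- The Euler characteristic on a field-valued fibre is the fibre Euler characteristic. -/
theorem euler_eq_eulerChar {X S : Scheme.{u}} (f : X ⟶ S) [IsProper f] {Ω : Type u} [Field Ω]
    (t : Spec (CommRingCat.of Ω) ⟶ S) {Y : Scheme.{u}} [Y.Over (Spec (CommRingCat.of Ω))] (i : Y ⟶ X)
    (sq : IsPullback i (Y ↘ Spec (CommRingCat.of Ω)) f t) (F : X.Modules) (hF : Coh.IsQCoh F) :
    Curv2.euler Ω Y ((Scheme.Modules.pullback i).obj F) =
      PerfAux.eulerChar f F (t (IsLocalRing.closedPoint Ω)) := by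
  let s := t (IsLocalRing.closedPoint Ω)
  let d : S.residueField s ⟶ CommRingCat.of Ω := S.descResidueField (Scheme.stalkClosedPointTo t)
  have ht : Spec.map d ≫ S.fromSpecResidueField s = t :=
    Scheme.descResidueField_stalkClosedPointTo_fromSpecResidueField Ω S t
  let k := S.residueField s
  letI : Algebra k Ω := d.hom.toAlgebra
  letI : (f.fiber s).Over (Spec (CommRingCat.of ↥k)) := ⟨f.fiberToSpecResidueField s⟩
  haveI : IsProper (f.fiber s ↘ Spec (CommRingCat.of ↥k)) := inferInstanceAs (IsProper (pullback.snd f _))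
  let γ : Y ⟶ f.fiber s := pullback.lift i ((Y ↘ Spec (CommRingCat.of Ω)) ≫ Spec.map d)
    (by rw [Category.assoc, ht]; exact sq.w)
  have hγ : γ ≫ f.fiberι s = i := pullback.lift_fst _ _ _
  have sqγ : IsPullback γ (Y ↘ Spec (CommRingCat.of Ω)) (f.fiber s ↘ Spec (CommRingCat.of ↥k))
      (Spec.map (CommRingCat.ofHom (algebraMap k Ω))) :=
    IsPullback.of_right (h₁₂ := pullback.fst f (S.fromSpecResidueField s)) (v₁₃ := f)
      (h₂₂ := S.fromSpecResidueField s)
      (cast (congrArg₂ (fun a b => IsPullback a (Y ↘ Spec (CommRingCat.of Ω)) f b)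
        (pullback.lift_fst _ _ _).symm ht.symm) sq)
      (pullback.lift_snd _ _ _) (IsPullback.of_hasPullback _ _)
  have h1 := euler_pullback (k := k) (Ω := Ω) γ sqγ ((Scheme.Modules.pullback (f.fiberι s)).obj F)
    (QC.isQCoh_pullback _ hF)
  exact (CurveRR.euler_eq_of_iso ((Scheme.Modules.pullbackComp γ (f.fiberι s)).app F ≪≫
    (Scheme.Modules.pullbackCongr hγ).app F).symm).trans h1

/-- In a flat proper family over a local base all fibres have the same Euler characteristic. -/
theorem euler_family {R : Type u} [CommRing R] [IsLocalRing R] [IsNoetherianRing R] {X : Scheme.{u}}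
    (f : X ⟶ Spec (CommRingCat.of R)) [IsProper f] (F : X.Modules) (hF : Coh.IsCoh F)
    (hfl : FlatMod.IsFlatOver f F) {Ω Ω' : Type u} [Field Ω] [Field Ω']
    (t : Spec (CommRingCat.of Ω) ⟶ Spec (CommRingCat.of R)) (t' : Spec (CommRingCat.of Ω') ⟶ Spec (CommRingCat.of R))
    {Y Y' : Scheme.{u}} [Y.Over (Spec (CommRingCat.of Ω))] [Y'.Over (Spec (CommRingCat.of Ω'))]
    (i : Y ⟶ X) (i' : Y' ⟶ X) (sq : IsPullback i (Y ↘ Spec (CommRingCat.of Ω)) f t)
    (sq' : IsPullback i' (Y' ↘ Spec (CommRingCat.of Ω')) f t') :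
    Curv2.euler Ω Y ((Scheme.Modules.pullback i).obj F) = Curv2.euler Ω' Y' ((Scheme.Modules.pullback i').obj F) := by
  haveI : IsLocallyNoetherian X := LocallyOfFiniteType.isLocallyNoetherian f
  have hFP : CohB1.IsFP F := QC.isFP_of_isQCoh_of_isFT (hM := hF.1) hF.2
  haveI : LocallyOfFinitePresentation f := inferInstance
  have hlc := BettiNN.isLocallyConstant_eulerChar f hFP hfl
  rw [euler_eq_eulerChar f t i sq F hF.1, euler_eq_eulerChar f t' i' sq' F hF.1]
  have hc : ∀ x : Spec (CommRingCat.of R),
      PerfAux.eulerChar f F x = PerfAux.eulerChar f F (IsLocalRing.closedPoint R) := fun x =>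
    (IsLocalRing.specializes_closedPoint (R := R) x).mem_open (hlc.isOpen_fiber _) rfl
  rw [hc, hc (t' _)]

section Beta

variable {k : Type u} [Field k] {X : Scheme.{u}} [X.Over (Spec (CommRingCat.of k))]
  [IsProper (X ↘ Spec (CommRingCat.of k))] [IsReduced X]
  (hpure : ∀ C ∈ irreducibleComponents (X : Type u), topologicalKrullDim C = 1) {r : ℕ} {E : X.Modules}
  (hE : FlatMod.IsFinLocFreeOfRank r E)

include hpure hE

/-- `β` is the Euler characteristic of the twist. -/
theorem rBeta_eq_euler {M G : X.Modules} {T : Set X} {π : M ⟶ G} (hM : TFOne.IsRkOne X M)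
    (hG : TFOne.IsQuotOn X M T G π) (hT : IsClosed T) :
    TFOne.rBeta X k (X ↘ Spec (CommRingCat.of k)) T hT E r G = Curv2.euler k X (CohB1.tensorMod G E) := by
  haveI := CurveRR.isNoetherian_of_proper k X
  haveI := hG.1
  have h := D_eq_dsum k hpure hE hG.2.1 (T := T) fun η hη => ⟨fun hηT => ?_, fun h => by rwa [hG.2.2.2]⟩
  · rw [rBeta_eq k hpure hE, ← h, CurveRR.Multi.D]
    ring
  obtain ⟨e⟩ := hM η hη
  let f : M.presheaf.stalk η →ₗ[X.presheaf.stalk η] G.presheaf.stalk η :=
    { toFun := WeakAssLib.stalkHom π η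
      map_add' := map_add _
      map_smul' := WeakAssLib.stalkHom_smul _ η }
  let e' := (LinearEquiv.ofBijective f ⟨stalkHom_injective_of_quot hM hG hη hηT, stalkHom_surjective π η⟩).symm.trans e
  letI := (isField_stalk hη).toField
  rw [CurveRR.Multi.lenAt, e'.length_eq, Module.length_eq_one]
  rfl

/-- The twist of a quotient which is not torsion-free still bounds `β`. -/
theorem rBeta_le_euler {M Q G : X.Modules} {T : Set X} {π : M ⟶ G} (hM : TFOne.IsRkOne X M)
    (hG : TFOne.IsQuotOn X M T G π) (hT : IsClosed T) (hQ : Coh.IsCoh Q) (q : Q ⟶ G) [Epi q]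
    (h : ∀ η ∈ genericPoints X, Function.Injective (WeakAssLib.stalkHom q η)) :
    TFOne.rBeta X k (X ↘ Spec (CommRingCat.of k)) T hT E r G ≤ Curv2.euler k X (CohB1.tensorMod Q E) := by
  haveI := CurveRR.isNoetherian_of_proper k X
  rw [rBeta_eq_euler hpure hE hM hG hT]
  have hS := CurveRR.shortExact_ker q
  have hK : Coh.IsCoh (kernel q) := QC.isCoh_kernel hQ hG.2.1.1 q
  have hKE : Coh.IsCoh (CohB1.tensorMod (kernel q) E) := CurveRR.isCoh_tensor' hK (CurveRR.isCoh_of_rank hE)
  have e := CurveRR.euler_add (k := k) (CurveRR.shortExact_tmapR (CurveRR.hasFrames_of_rank hE) hS) hKE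
    (CurveRR.isCoh_tensor' hQ (CurveRR.isCoh_of_rank hE)) (CurveRR.isCoh_tensor' hG.2.1 (CurveRR.isCoh_of_rank hE))
  have h0 := euler_torsion (k := k) (dim_le_one hpure) hKE fun η hη => ?_
  · simp only [ShortComplex.mk] at e
    change Curv2.euler k X (CohB1.tensorMod Q E) = Curv2.euler k X (CohB1.tensorMod (kernel q) E) +
      Curv2.euler k X (CohB1.tensorMod G E) at e
    omega
  haveI hsub : Subsingleton ((DerSch.stalkFunctor X η).obj (kernel q)) := ⟨fun a b => WeakAssLib.stalkHom_injective (kernel.ι q) η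
    (h η hη (by
      refine (stalkHom_comp (kernel.ι q) q η a).symm.trans ?_
      rw [← stalkHom_comp, kernel.condition, stalkHom_zero, stalkHom_zero]))⟩
  let e := KFlat.stTensorIso (kernel q) E η
  haveI : Subsingleton (TensorProduct (X.presheaf.stalk η) ((DerSch.stalkFunctor X η).obj (kernel q))
      ((DerSch.stalkFunctor X η).obj E)) := ⟨fun a b => by
    suffices hall : ∀ c : TensorProduct (X.presheaf.stalk η) ((DerSch.stalkFunctor X η).obj (kernel q))
        ((DerSch.stalkFunctor X η).obj E), c = 0 from (hall a).trans (hall b).symm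
    intro c
    induction c using TensorProduct.induction_on with
    | zero => rfl
    | tmul a m => rw [Subsingleton.elim a 0, TensorProduct.zero_tmul]
    | add a b ha hb => rw [ha, hb, add_zero]⟩
  exact e.toLinearEquiv.toEquiv.subsingleton_congr.1 this

end Beta

/-- Pullback commutes with twisting. -/
theorem euler_pullback_tensor {k Ω : Type u} [Field k] [Field Ω] [Algebra k Ω] {X Y : Scheme.{u}}
    [X.Over (Spec (CommRingCat.of k))] [IsProper (X ↘ Spec (CommRingCat.of k))]
    [Y.Over (Spec (CommRingCat.of Ω))] (g : Y ⟶ X)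
    (sq : IsPullback g (Y ↘ Spec (CommRingCat.of Ω)) (X ↘ Spec (CommRingCat.of k))
      (Spec.map (CommRingCat.ofHom (algebraMap k Ω)))) (G E : X.Modules) (hG : Coh.IsCoh G) (hE : Coh.IsCoh E) :
    Curv2.euler Ω Y (CohB1.tensorMod ((Scheme.Modules.pullback g).obj G) ((Scheme.Modules.pullback g).obj E)) =
      Curv2.euler k X (CohB1.tensorMod G E) :=
  (CurveRR.euler_eq_of_iso (KFlat.pullTensorIso g G E)).trans (euler_pullback g sq _ (CurveRR.isCoh_tensor' hG hE).1)

end Groth.Agent.TFOneLib
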