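import Groth.Agent.TFOneLib.Scalars

/-!
Endomorphisms of torsion-free rank one sheaves, their scalars at the generic points, and splittings.
-/

set_option autoImplicit false
set_option linter.style.haveILetI false
set_option linter.unusedSectionVars false
set_option backward.isDefEq.respectTransparency false

universe u

open CategoryTheory CategoryTheory.Limits AlgebraicGeometry TopologicalSpace Opposite
open Groth.Agent.WeakAssLib (mgerm mgerm_res mgerm_smul stalkHom stalkHom_germ stalkHom_smul stalkHom_injective)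

noncomputable section

namespace Groth.Agent.TFOneLib

variable {X : Scheme.{u}} {k : Type u} [Field k] [X.Over (Spec (CommRingCat.of k))]

variable (X) (k) in
/-- The constants in a stalk of a scheme over `k`. -/
abbrev kst (x : X) : k →+* X.presheaf.stalk x := cstStalk k (X ↘ Spec (CommRingCat.of k)) x

theorem stalkHom_smulMod (F : X.Modules) (a : k) (x : X) (m : F.presheaf.stalk x) :
    stalkHom (Formal.smulMod k F a) x m = kst X k x a • m := by
  obtain ⟨V, hxV, s, rfl⟩ := F.presheaf.exists_germ_eq (x := x) m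
  change stalkHom (Formal.smulMod k F a) x (mgerm F hxV s) = _ • mgerm F hxV s
  rw [stalkHom_germ]
  change mgerm F hxV ((Formal.smulModΓ F _).app V s) = _
  rw [KLin.smulModΓ_app_apply, mgerm_smul]
  congr 1
  exact X.presheaf.germ_res_apply (homOfLE (le_top : V ≤ ⊤)) x hxV _

theorem stalkHom_smul' {F G : X.Modules} (a : k) (f : F ⟶ G) (x : X) (m : F.presheaf.stalk x) :
    stalkHom (a • f) x m = kst X k x a • stalkHom f x m := by
  rw [KLin.smul_def, stalkHom_comp, stalkHom_smulMod, stalkHom_smul]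

theorem kst_injective [IsReduced X] (x : X) : Function.Injective (kst X k x) :=
  (kst X k x).injective

/-- `M` has a nonzero stalk element at every generic point. -/
theorem exists_ne_zero [IsReduced X] {M : X.Modules} (hM : TFOne.IsRkOne X M) {η : X} (hη : η ∈ genericPoints X) :
    ∃ m : M.presheaf.stalk η, m ≠ 0 := by
  obtain ⟨e⟩ := hM η hη
  exact ⟨e.symm 1, fun h => one_ne_zero (e.symm.map_eq_zero_iff.1 h)⟩

theorem scalar_unique [IsReduced X] {M : X.Modules} (hM : TFOne.IsRkOne X M) {η : X} (hη : η ∈ genericPoints X)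
    {a b : k} (h : ∀ m : M.presheaf.stalk η, kst X k η a • m = kst X k η b • m) : a = b := by
  obtain ⟨e⟩ := hM η hη
  refine kst_injective η ?_
  simpa using congrArg e (h (e.symm 1))

theorem not_isZero [IsReduced X] {M : X.Modules} (hM : TFOne.IsRkOne X M) {η : X} (hη : η ∈ genericPoints X) :
    ¬ IsZero M := fun h => by
  obtain ⟨m, hm⟩ := exists_ne_zero hM hη
  refine hm ?_
  rw [← stalkHom_id M η m, h.eq_of_src (𝟙 M) 0, stalkHom_zero]

/-- Two subcurves covering `X` with a common component: endomorphisms scalar on both are scalar. -/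
theorem isSimple_of_two [IsLocallyNoetherian X] [IsReduced X] {M : X.Modules} (hM : TFOne.IsTF1 X M) {Y Z : Set X}
    (hcov : ∀ η ∈ genericPoints X, η ∈ Y ∨ η ∈ Z) {η₀ : X} (hη₀ : η₀ ∈ genericPoints X) (hY₀ : η₀ ∈ Y)
    (hZ₀ : η₀ ∈ Z) {GY GZ : X.Modules} {πY : M ⟶ GY} {πZ : M ⟶ GZ} (hGY : TFOne.IsQuotOn X M Y GY πY)
    (hGZ : TFOne.IsQuotOn X M Z GZ πZ) (hsY : TFOne.IsSimple X k (X ↘ Spec (CommRingCat.of k)) GY)
    (hsZ : TFOne.IsSimple X k (X ↘ Spec (CommRingCat.of k)) GZ) :
    TFOne.IsSimple X k (X ↘ Spec (CommRingCat.of k)) M := by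
  have key : ∀ (φ : M ⟶ M) {T : Set X} {G : X.Modules} {π : M ⟶ G}, TFOne.IsQuotOn X M T G π →
      TFOne.IsSimple X k (X ↘ Spec (CommRingCat.of k)) G →
      ∃ c : k, ∀ η ∈ genericPoints X, η ∈ T → ∀ m, stalkHom φ η m = kst X k η c • m := by
    intro φ T G π hG hs
    haveI := hG.1
    have h0 : kernel.ι π ≫ φ ≫ π = 0 := by
      refine hom_eq_zero hG.2.1.1 hG.2.2.1 _ fun η hη m => ?_
      rw [stalkHom_comp]
      by_cases hηT : η ∈ T
      · have h1 : stalkHom π η (stalkHom (kernel.ι π) η m) = 0 := by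
          rw [← stalkHom_comp, kernel.condition, stalkHom_zero]
        rw [(injective_iff_map_eq_zero _).1 (stalkHom_injective_of_quot hM.2.2 hG hη hηT) _ h1, map_zero]
      · haveI := subsingleton_of_notMem (G := G) (x := η) (by rw [hG.2.2.2]; exact hηT)
        exact Subsingleton.elim _ _
    obtain ⟨c, hc⟩ := hs.2 (Abelian.epiDesc π (φ ≫ π) h0)
    refine ⟨c, fun η hη hηT m => stalkHom_injective_of_quot hM.2.2 hG hη hηT ?_⟩
    rw [← stalkHom_comp, ← Abelian.comp_epiDesc π (φ ≫ π) h0, hc, stalkHom_comp, stalkHom_smulMod, stalkHom_smul]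
    rfl
  refine ⟨not_isZero hM.2.2 hη₀, fun φ => ?_⟩
  obtain ⟨c, hc⟩ := key φ hGY hsY
  obtain ⟨d, hd⟩ := key φ hGZ hsZ
  have hcd : c = d := scalar_unique hM.2.2 hη₀ fun m => (hc η₀ hη₀ hY₀ m).symm.trans (hd η₀ hη₀ hZ₀ m)
  refine ⟨c, sub_eq_zero.1 (hom_eq_zero hM.1.1 hM.2.1 _ fun η hη m => ?_)⟩
  rw [sub_eq_add_neg, stalkHom_add, stalkHom_neg, stalkHom_smulMod, ← sub_eq_add_neg, sub_eq_zero]
  rcases hcov η hη with h | h
  · exact hc η hη h m
  · rw [hcd]; exact hd η hη h m

/-- A simple module has no nontrivial idempotents. -/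
theorem idem_eq {M : X.Modules} (hs : TFOne.IsSimple X k (X ↘ Spec (CommRingCat.of k)) M) (e : M ⟶ M)
    (he : e ≫ e = e) : e = 0 ∨ e = 𝟙 M := by
  obtain ⟨c, hc⟩ := hs.2 e
  have hc' : e = c • 𝟙 M := hc.trans (KLin.smul_id M c).symm
  have h : (c * c) • 𝟙 M = c • 𝟙 M := by
    rw [mul_smul]
    calc c • c • 𝟙 M = e ≫ e := by rw [hc', Linear.smul_comp, Category.id_comp]
      _ = c • 𝟙 M := by rw [he, hc']
  by_cases h0 : c = 0
  · exact Or.inl (by rw [hc', h0, zero_smul])
  · refine Or.inr ?_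
    have := congrArg (fun f => c⁻¹ • f) h
    simp only [← mul_smul, inv_mul_cancel₀ h0, one_smul, inv_mul_cancel_left₀ h0] at this
    rw [hc', this]

/-- A simple module is not the biproduct of two nonzero modules. -/
theorem not_isIso_lift {M A B : X.Modules} (hs : TFOne.IsSimple X k (X ↘ Spec (CommRingCat.of k)) M)
    (f : M ⟶ A) (g : M ⟶ B) (hA : ¬ IsZero A) (hB : ¬ IsZero B) : ¬ IsIso (biprod.lift f g) := by
  intro hiso
  let e : M ⟶ M := f ≫ biprod.inl ≫ inv (biprod.lift f g)
  have hef : e ≫ f = f := by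
    simp only [e, Category.assoc]
    rw [show inv (biprod.lift f g) ≫ f = biprod.fst by rw [IsIso.inv_comp_eq, biprod.lift_fst], biprod.inl_fst,
      Category.comp_id]
  have heg : e ≫ g = 0 := by
    simp only [e, Category.assoc]
    rw [show inv (biprod.lift f g) ≫ g = biprod.snd by rw [IsIso.inv_comp_eq, biprod.lift_snd], biprod.inl_snd,
      comp_zero]
  have he : e ≫ e = e := by
    rw [← cancel_mono (biprod.lift f g)]
    apply biprod.hom_ext <;> simp [hef, heg]
  rcases idem_eq hs e he with h | h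
  · rw [h, zero_comp] at hef
    refine hA ((IsZero.iff_id_eq_zero A).2 ?_)
    have h1 : (biprod.inl : A ⟶ A ⊞ B) ≫ inv (biprod.lift f g) ≫ f = 𝟙 A := by
      rw [show inv (biprod.lift f g) ≫ f = biprod.fst by rw [IsIso.inv_comp_eq, biprod.lift_fst], biprod.inl_fst]
    exact h1.symm.trans ((congrArg (fun t => (biprod.inl : A ⟶ A ⊞ B) ≫ inv (biprod.lift f g) ≫ t) hef.symm).trans
      (by simp))
  · rw [h, Category.id_comp] at heg
    refine hB ((IsZero.iff_id_eq_zero B).2 ?_)
    have h1 : (biprod.inr : B ⟶ A ⊞ B) ≫ inv (biprod.lift f g) ≫ g = 𝟙 B := by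
      rw [show inv (biprod.lift f g) ≫ g = biprod.snd by rw [IsIso.inv_comp_eq, biprod.lift_snd], biprod.inr_snd]
    exact h1.symm.trans ((congrArg (fun t => (biprod.inr : B ⟶ A ⊞ B) ≫ inv (biprod.lift f g) ≫ t) heg).trans
      (by simp))

/-- At the image of the generic point of a geometrically integral scheme an endomorphism acts by a constant. -/
theorem exists_scalar_aux [IsProper (X ↘ Spec (CommRingCat.of k))] [IsReduced X] {M : X.Modules}
    (hM : TFOne.IsTF1 X M) (φ : M ⟶ M) {C : Scheme.{u}} (ι : C ⟶ X) [IsIntegral C]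
    [GeometricallyIntegral (ι ≫ (X ↘ Spec (CommRingCat.of k)))] (hη : ι (genericPoint C) ∈ genericPoints X) :
    ∃ c : k, ∀ m, stalkHom φ (ι (genericPoint C)) m = kst X k (ι (genericPoint C)) c • m := by
  letI : C.Over (Spec (CommRingCat.of k)) := ⟨ι ≫ (X ↘ Spec (CommRingCat.of k))⟩
  haveI : GeometricallyIntegral (C ↘ Spec (CommRingCat.of k)) := ‹_›
  generalize hηd : ι (genericPoint C) = η at hη ⊢
  obtain ⟨e⟩ := hM.2.2 η hη
  letI : Algebra k (X.presheaf.stalk η) := (kst X k η).toAlgebra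
  let Θ : (M ⟶ M) →ₗ[k] X.presheaf.stalk η :=
    { toFun := fun ψ => e (stalkHom ψ η (e.symm 1))
      map_add' := fun a b => by rw [stalkHom_add, map_add]
      map_smul' := fun a ψ => by
        rw [stalkHom_smul', map_smul]
        rfl }
  have hΘ : ∀ (ψ : M ⟶ M) m, stalkHom ψ η m = Θ ψ • m := fun ψ m => by
    apply e.injective
    rw [map_smul, smul_eq_mul]
    change _ = e (stalkHom ψ η (e.symm 1)) * e m
    rw [mul_comm, ← smul_eq_mul, ← map_smul e, ← stalkHom_smul, ← map_smul e.symm, smul_eq_mul, mul_one,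
      e.symm_apply_apply]
  have hcomp : ∀ a b : M ⟶ M, Θ (a ≫ b) = Θ a * Θ b := fun a b => by
    change e (stalkHom (a ≫ b) η (e.symm 1)) = _
    rw [stalkHom_comp, hΘ b, map_smul, smul_eq_mul, mul_comm]
    rfl
  have hone : Θ (𝟙 M) = 1 := by
    change e (stalkHom (𝟙 M) η (e.symm 1)) = 1
    rw [stalkHom_id, e.apply_symm_apply]
  let S : Subalgebra k (X.presheaf.stalk η) := (LinearMap.range Θ).toSubalgebra ⟨𝟙 M, hone⟩
    (by rintro _ _ ⟨a, rfl⟩ ⟨b, rfl⟩; exact ⟨a ≫ b, hcomp a b⟩)
  haveI : Module.Finite k (M ⟶ M) := KrullSch.finite_hom (k := k) hM.1 hM.1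
  have hfg : S.toSubmodule.FG := by
    change (LinearMap.range Θ).FG
    rw [LinearMap.range_eq_map]
    exact Module.Finite.fg_top.map Θ
  have hint : IsIntegral k (Θ φ) := IsIntegral.of_mem_of_fg S hfg _ ⟨φ, rfl⟩
  letI := (isField_stalk hη).toField
  have hp := minpoly.irreducible hint
  subst hηd
  let σ := (ι.stalkMap (genericPoint C)).hom
  obtain ⟨c, hc⟩ := exists_cst_of_root (k := k) (X := C) hp (minpoly.monic hint) (σ (Θ φ)) (by
    have h := congrArg σ (minpoly.aeval k (Θ φ))
    rw [map_zero, Polynomial.aeval_def, Polynomial.hom_eval₂] at h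
    refine Eq.trans ?_ h
    congr 1
    ext a
    exact (stalkMap_cstStalk ι (X ↘ Spec (CommRingCat.of k)) (genericPoint C) a).symm)
  refine ⟨c, fun m => ?_⟩
  rw [hΘ]
  congr 1
  refine σ.injective ?_
  rw [hc]
  exact (stalkMap_cstStalk ι (X ↘ Spec (CommRingCat.of k)) (genericPoint C) c).symm

/-- On a geometrically integral component an endomorphism acts by a constant. -/
theorem exists_scalar [IsProper (X ↘ Spec (CommRingCat.of k))] [IsReduced X] {M : X.Modules} (hM : TFOne.IsTF1 X M)
    (φ : M ⟶ M) {η : X} (hη : η ∈ genericPoints X)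
    (hgi : ∀ (C : Set X) (hC : C ∈ irreducibleComponents (X : Type u)), GeometricallyIntegral
      (VecSt.subschι X C (isClosed_of_mem_irreducibleComponents C hC) ≫ (X ↘ Spec (CommRingCat.of k)))) :
    ∃ c : k, ∀ m, stalkHom φ η m = kst X k η c • m := by
  have hC : closure {η} ∈ irreducibleComponents (X : Type u) := hη
  let ι := VecSt.subschι X (closure {η}) (isClosed_of_mem_irreducibleComponents _ hC)
  haveI hgi' : GeometricallyIntegral (ι ≫ (X ↘ Spec (CommRingCat.of k))) := hgi _ hC
  haveI : IsIntegral (VecSt.subsch X (closure {η}) (isClosed_of_mem_irreducibleComponents _ hC)) :=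
    GeometricallyIntegral.isIntegral_of_subsingleton (ι ≫ (X ↘ Spec (CommRingCat.of k)))
  have hη' : ι (genericPoint (VecSt.subsch X (closure {η}) (isClosed_of_mem_irreducibleComponents _ hC))) = η := by
    have h1 : IsGenericPoint
        (ι (genericPoint (VecSt.subsch X (closure {η}) (isClosed_of_mem_irreducibleComponents _ hC))))
        (closure {η}) := by
      have h2 := (genericPoint_spec
        (VecSt.subsch X (closure {η}) (isClosed_of_mem_irreducibleComponents _ hC))).image ι.continuous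
      rwa [Set.image_univ, Scheme.IdealSheafData.range_subschemeι,
        Scheme.IdealSheafData.coe_support_vanishingIdeal, Closeds.coe_mk, closure_closure] at h2
    exact h1.eq isGenericPoint_closure
  have h := exists_scalar_aux (k := k) hM φ ι (by rw [hη']; exact hη)
  rw [hη'] at h
  exact h

/-- The support of a coherent torsion-free module is a union of components. -/
theorem support_eq [IsLocallyNoetherian X] [IsReduced X] [NoetherianSpace X] {G : X.Modules} (hG : Coh.IsCoh G)
    (htf : TorSh.IsTorsionFree G) :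
    CohB1.support G = ⋃₀ {C | C ∈ irreducibleComponents (X : Type u) ∧
      ∃ η ∈ genericPoints X, C = closure {η} ∧ η ∈ CohB1.support G} := by
  haveI : G.IsQuasicoherent := hG.1
  refine Set.Subset.antisymm (fun x hx => ?_) ?_
  · by_contra hc
    let 𝒮 := {C | C ∈ irreducibleComponents (X : Type u) ∧
      ∃ η ∈ genericPoints X, C = closure {η} ∧ η ∈ CohB1.support G}
    have hcl : IsClosed (⋃₀ 𝒮) := by
      rw [Set.sUnion_eq_biUnion]
      exact (NoetherianSpace.finite_irreducibleComponents.subset fun C hC => hC.1).isClosed_biUnion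
        fun C hC => isClosed_of_mem_irreducibleComponents C hC.1
    refine hx ⟨fun a b => ?_⟩
    suffices h : ∀ m : G.presheaf.stalk x, m = 0 from (h a).trans (h b).symm
    intro m
    obtain ⟨V, hxV, s, rfl⟩ := G.presheaf.exists_germ_eq (x := x) m
    have hxW : x ∈ V ⊓ ⟨(⋃₀ 𝒮)ᶜ, hcl.isOpen_compl⟩ := ⟨hxV, hc⟩
    change mgerm G hxV s = 0
    rw [← mgerm_res G (inf_le_left : V ⊓ ⟨(⋃₀ 𝒮)ᶜ, hcl.isOpen_compl⟩ ≤ V) hxW s]
    rw [section_eq_zero htf (Groth.Agent.QC.res G inf_le_left s) fun η hη hηW => ?_, map_zero]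
    haveI := subsingleton_of_notMem (G := G) (x := η) fun hηs =>
      hηW.2 ⟨closure {η}, ⟨hη, η, hη, rfl, hηs⟩, subset_closure rfl⟩
    exact Subsingleton.elim _ _
  · rintro x ⟨C, ⟨-, η, -, rfl, hηs⟩, hx⟩
    exact closure_minimal (Set.singleton_subset_iff.2 hηs) (Groth.Agent.QC.isClosed_support hG.2) hx

end Groth.Agent.TFOneLib
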