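import Groth.Agent.TFOneLib.Ext
import Groth.Agent.TFOneLib.EulerFam
import Groth.Agent.TFOneLib.Simple
import Groth.Agent.RelPCS.FlatBase

/-!
(Semi)stability and simplicity under extension of the field and under isomorphisms.
-/

set_option autoImplicit false
set_option linter.style.haveILetI false
set_option linter.unusedSectionVars false
set_option backward.isDefEq.respectTransparency false
set_option backward.isDefEq.respectTransparency.types false

universe u

open CategoryTheory CategoryTheory.Limits AlgebraicGeometry TopologicalSpace Opposite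
open Groth.Agent.WeakAssLib (stalkHom)

noncomputable section

namespace Groth.Agent.TFOneLib

section Iso

variable {X : Scheme.{u}}

theorem isQuotOn_of_iso {M M' G : X.Modules} (e : M ≅ M') {Z : Set X} {π : M' ⟶ G}
    (h : TFOne.IsQuotOn X M' Z G π) : TFOne.IsQuotOn X M Z G (e.hom ≫ π) :=
  ⟨haveI := h.1; epi_comp _ _, h.2⟩

/-- Torsion-free rank one is invariant under isomorphisms. -/
theorem isTF1_of_iso {M M' : X.Modules} (e : M ≅ M') (h : TFOne.IsTF1 X M) : TFOne.IsTF1 X M' := by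
  refine ⟨K0Coh.isCoh_of_iso e h.1, isTorsionFree_of_mono e.inv h.2.1, fun η hη => ?_⟩
  obtain ⟨e0⟩ := h.2.2 η hη
  exact ⟨((DerSch.stalkFunctor X η).mapIso e.symm).toLinearEquiv.trans e0⟩

theorem rBeta_iso {k : Type u} [Field k] (q : X ⟶ Spec (CommRingCat.of k)) {T : Set X} (hT : IsClosed T)
    {E E' : X.Modules} (eE : E ≅ E') (r : ℕ) (G : X.Modules) :
    TFOne.rBeta X k q T hT E r G = TFOne.rBeta X k q T hT E' r G := by
  unfold TFOne.rBeta Curv2.deg
  letI : (VecSt.subsch X T hT).Over (Spec (CommRingCat.of k)) := ⟨VecSt.subschι X T hT ≫ q⟩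
  rw [CurveRR.euler_eq_of_iso (k := k) ((Scheme.Modules.pullback (VecSt.subschι X T hT)).mapIso eE)]

theorem isSemistable_of_iso {k : Type u} [Field k] (q : X ⟶ Spec (CommRingCat.of k)) {M M' E E' : X.Modules}
    (e : M ≅ M') (eE : E ≅ E') {r : ℕ} (h : TFOne.IsSemistable X k q M E r) :
    TFOne.IsSemistable X k q M' E' r :=
  ⟨isTF1_of_iso e h.1, fun Z hZ hZs hne G π hG =>
    (rBeta_iso q hZ eE r G) ▸ h.2 Z hZ hZs hne G _ (isQuotOn_of_iso e hG)⟩

theorem isQuasistableAtPt_of_iso {k : Type u} [Field k] (q : X ⟶ Spec (CommRingCat.of k)) {M M' E E' : X.Modules}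
    (e : M ≅ M') (eE : E ≅ E') {r : ℕ} {p : X} (h : TFOne.IsQuasistableAtPt X k q M E r p) :
    TFOne.IsQuasistableAtPt X k q M' E' r p :=
  ⟨isSemistable_of_iso q e eE h.1, fun Z hZ hZs hne hp G π hG =>
    (rBeta_iso q hZ eE r G) ▸ h.2 Z hZ hZs hne hp G _ (isQuotOn_of_iso e hG)⟩

theorem isSimple_of_iso {k : Type u} [Field k] (q : X ⟶ Spec (CommRingCat.of k)) {M M' : X.Modules}
    (e : M ≅ M') (h : TFOne.IsSimple X k q M) : TFOne.IsSimple X k q M' := by
  letI : X.Over (Spec (CommRingCat.of k)) := ⟨q⟩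
  refine ⟨fun hz => h.1 (hz.of_iso e), fun φ => ?_⟩
  obtain ⟨c, hc⟩ := h.2 (e.hom ≫ φ ≫ e.inv)
  exact ⟨c, by rw [← cancel_epi e.hom, ← W7Cech.smulMod_natural, ← hc]; simp⟩

/-- Two torsion-free quotients with the same generic support are isomorphic under the module. -/
theorem quot_iso [IsLocallyNoetherian X] [IsReduced X] {F G H : X.Modules} (hF : TFOne.IsRkOne X F) {S T : Set X}
    {u : F ⟶ G} {v : F ⟶ H} (hG : TFOne.IsQuotOn X F S G u) (hH : TFOne.IsQuotOn X F T H v)
    (h : ∀ η ∈ genericPoints X, (η ∈ S ↔ η ∈ T)) : ∃ e : G ≅ H, u ≫ e.hom = v := by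
  obtain ⟨a, ha, -⟩ := exists_desc hF hG hH fun η hη hT => (h η hη).2 hT
  obtain ⟨b, hb, -⟩ := exists_desc hF hH hG fun η hη hS => (h η hη).1 hS
  haveI := hG.1; haveI := hH.1
  exact ⟨⟨a, b, by rw [← cancel_epi u, ← Category.assoc, ha, hb, Category.comp_id],
    by rw [← cancel_epi v, ← Category.assoc, hb, ha, Category.comp_id]⟩, ha⟩

end Iso

section Ext

variable {k Ω : Type u} [Field k] [Field Ω] [Algebra k Ω] {X Y : Scheme.{u}} [X.Over (Spec (CommRingCat.of k))]
  [IsProper (X ↘ Spec (CommRingCat.of k))] [IsReduced X]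
  (hgi : ∀ (C : Set X) (hC : C ∈ irreducibleComponents (X : Type u)), GeometricallyIntegral
    (VecSt.subschι X C (isClosed_of_mem_irreducibleComponents C hC) ≫ (X ↘ Spec (CommRingCat.of k))))
  {g : Y ⟶ X} {qY : Y ⟶ Spec (CommRingCat.of Ω)}
  (sq : IsPullback g qY (X ↘ Spec (CommRingCat.of k)) (Spec.map (CommRingCat.ofHom (algebraMap k Ω))))

include hgi sq

section Beta

variable (hpure : ∀ C ∈ irreducibleComponents (X : Type u), topologicalKrullDim C = 1) {r : ℕ} {M E : X.Modules}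
  (hE : FlatMod.IsFinLocFreeOfRank r E) (hM : TFOne.IsTF1 X M)

include hpure hE hM

/-- `β` of a subcurve of the extension is `β` of its image. -/
theorem ext_rBeta {Z : Set X} (hZ : IsClosed Z) {G : X.Modules} {π : M ⟶ G} (hG : TFOne.IsQuotOn X M Z G π)
    (hZ' : IsClosed (g ⁻¹' Z)) {G' : Y.Modules} {π' : (Scheme.Modules.pullback g).obj M ⟶ G'}
    (hG' : TFOne.IsQuotOn Y ((Scheme.Modules.pullback g).obj M) (g ⁻¹' Z) G' π') :
    TFOne.rBeta Y Ω qY (g ⁻¹' Z) hZ' ((Scheme.Modules.pullback g).obj E) r G' =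
      TFOne.rBeta X k (X ↘ Spec (CommRingCat.of k)) Z hZ E r G := by
  letI : Y.Over (Spec (CommRingCat.of Ω)) := ⟨qY⟩
  haveI : IsProper (Y ↘ Spec (CommRingCat.of Ω)) := ext_proper sq
  haveI := ext_noetherian sq
  haveI := ext_reduced hgi sq
  have hp := ext_pure hgi sq hpure
  have hE' := CurveRR.Multi.isFinLocFreeOfRank_pullback g hE
  have hM' := isTF1_pullback hgi sq hM
  have hP := isQuotOn_pullback hgi sq hM.2.2 hG
  obtain ⟨e, -⟩ := quot_iso hM'.2.2 hG' hP fun _ _ => Iff.rfl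
  change TFOne.rBeta Y Ω (Y ↘ Spec (CommRingCat.of Ω)) _ hZ' _ r G' = _
  rw [rBeta_eq Ω hp hE' _ hZ' G', CurveRR.euler_eq_of_iso e, ← rBeta_eq Ω hp hE' _ hZ',
    rBeta_eq_euler hp hE' hM'.2.2 hP hZ', euler_pullback_tensor (k := k) (Ω := Ω) g sq G E hG.2.1 (CurveRR.isCoh_of_rank hE),
    rBeta_eq_euler hpure hE hM.2.2 hG hZ]

theorem ext_semistable (h : TFOne.IsSemistable X k (X ↘ Spec (CommRingCat.of k)) M E r) :
    TFOne.IsSemistable Y Ω qY ((Scheme.Modules.pullback g).obj M) ((Scheme.Modules.pullback g).obj E) r := by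
  haveI := CurveRR.isNoetherian_of_proper k X
  refine ⟨isTF1_pullback hgi sq hM, fun Z' hZ' hZ's hne G' π' hG' => ?_⟩
  obtain ⟨Z, hZ, hZs, rfl⟩ := exists_subcurve hgi sq hZ's
  obtain ⟨G, π, hG⟩ := exists_quot_sub hM (Or.inl hZs)
  rw [ext_rBeta hgi sq hpure hE hM hZ hG hZ' hG']
  exact h.2 Z hZ hZs (fun e => hne (by rw [e, Set.preimage_univ])) G π hG

theorem ext_quasistableAtPt {y : Y} (h : TFOne.IsQuasistableAtPt X k (X ↘ Spec (CommRingCat.of k)) M E r (g y)) :
    TFOne.IsQuasistableAtPt Y Ω qY ((Scheme.Modules.pullback g).obj M) ((Scheme.Modules.pullback g).obj E) r y := by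
  haveI := CurveRR.isNoetherian_of_proper k X
  refine ⟨ext_semistable hgi sq hpure hE hM h.1, fun Z' hZ' hZ's hne hy G' π' hG' => ?_⟩
  obtain ⟨Z, hZ, hZs, rfl⟩ := exists_subcurve hgi sq hZ's
  obtain ⟨G, π, hG⟩ := exists_quot_sub hM (Or.inl hZs)
  rw [ext_rBeta hgi sq hpure hE hM hZ hG hZ' hG']
  exact h.2 Z hZ hZs (fun e => hne (by rw [e, Set.preimage_univ])) hy G π hG

end Beta

/-- Extension of the field detects vanishing. -/
theorem ext_isZero {K : X.Modules} (hK : Coh.IsCoh K) (h : IsZero ((Scheme.Modules.pullback g).obj K)) : IsZero K := by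
  haveI : Coh.IsQCoh K := hK.1
  refine KFlat.isZero_of_stalks K fun x => ?_
  obtain ⟨y, rfl⟩ := (ext_surjective sq).surj x
  haveI : Subsingleton (K.presheaf.stalk (g y)) := by
    refine subsingleton_of_notMem fun hy => ?_
    have hs := SupportLib.support_pullback g K hK.2
    have hmem : y ∈ CohB1.support ((Scheme.Modules.pullback g).obj K) := by rw [hs]; exact hy
    exact hmem ⟨fun a b => by
      rw [← stalkHom_id _ y a, ← stalkHom_id _ y b, h.eq_of_src (𝟙 _) 0, stalkHom_zero, stalkHom_zero]⟩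
  exact @ModuleCat.isZero_of_subsingleton _ _ _ ‹_›

/-- Simplicity survives extension of the field. -/
theorem ext_simple {M : X.Modules} (hM : TFOne.IsTF1 X M)
    (h : TFOne.IsSimple X k (X ↘ Spec (CommRingCat.of k)) M) :
    TFOne.IsSimple Y Ω qY ((Scheme.Modules.pullback g).obj M) := by
  letI : Y.Over (Spec (CommRingCat.of Ω)) := ⟨qY⟩
  haveI : IsProper (Y ↘ Spec (CommRingCat.of Ω)) := ext_proper sq
  haveI := ext_noetherian sq
  haveI := ext_reduced hgi sq
  haveI := CurveRR.isNoetherian_of_proper k X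
  haveI : Nonempty X := by
    by_contra hne
    exact h.1 (KFlat.isZero_of_stalks M fun x => absurd ⟨x⟩ hne)
  haveI : Nonempty Y := ⟨((ext_surjective sq).surj (Classical.arbitrary X)).choose⟩
  have hM' := isTF1_pullback hgi sq hM
  by_contra hns
  obtain ⟨Y1, Z1, -, -, GY, GZ, πY, πZ, hYs, hZs, -, -, hGY, hGZ, hiso⟩ :=
    exists_decomp (k := Ω) hM' (ext_gi hgi sq) hns
  obtain ⟨Y0, -, hY0, rfl⟩ := exists_subcurve hgi sq hYs
  obtain ⟨Z0, -, hZ0, rfl⟩ := exists_subcurve hgi sq hZs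
  obtain ⟨A, a, hA⟩ := exists_quot_sub hM (Or.inl hY0)
  obtain ⟨B, b, hB⟩ := exists_quot_sub hM (Or.inl hZ0)
  let L := Scheme.Modules.pullback g
  haveI := ext_flat sq
  haveI := RelPCS.preservesFiniteLimits_pullback g
  haveI := (Scheme.Modules.pullbackPushforwardAdjunction g).leftAdjoint_preservesColimits.{0, 0}
  haveI : L.Additive := Functor.additive_of_preserves_binary_products _
  haveI := preservesBinaryBiproducts_of_preservesBinaryProducts L
  obtain ⟨u, hu⟩ := quot_iso hM'.2.2 hGY (isQuotOn_pullback hgi sq hM.2.2 hA) fun _ _ => Iff.rfl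
  obtain ⟨v, hv⟩ := quot_iso hM'.2.2 hGZ (isQuotOn_pullback hgi sq hM.2.2 hB) fun _ _ => Iff.rfl
  let φ := biprod.lift a b
  have hφ : L.map φ ≫ (L.mapBiprod A B).hom = biprod.lift πY πZ ≫ (biprod.mapIso u v).hom := by
    apply biprod.hom_ext
    · simp [φ, L, ← Functor.map_comp, hu]
    · simp [φ, L, ← Functor.map_comp, hv]
  haveI : IsIso (L.map φ) := by
    have h2 : L.map φ = (biprod.lift πY πZ ≫ (biprod.mapIso u v).hom) ≫ (L.mapBiprod A B).inv := by
      rw [← hφ, Category.assoc, Iso.hom_inv_id, Category.comp_id]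
    rw [h2]
    infer_instance
  have hAB := CurveRR.isCoh_biprod2 hA.2.1 hB.2.1
  haveI : Mono φ := by
    refine Preadditive.mono_of_isZero_kernel φ (ext_isZero hgi sq (QC.isCoh_kernel hM.1 hAB.1 φ) ?_)
    exact (isZero_kernel_of_mono (L.map φ)).of_iso (PreservesKernel.iso L φ)
  haveI : Epi φ := by
    refine Preadditive.epi_of_isZero_cokernel φ (ext_isZero hgi sq (QC.isCoh_cokernel hM.1.1 hAB φ) ?_)
    exact (isZero_cokernel_of_epi (L.map φ)).of_iso (PreservesCokernel.iso L φ)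
  haveI := isIso_of_mono_of_epi φ
  exact not_isIso_lift h a b (not_isZero_of_support hY0 hA.2.2.2) (not_isZero_of_support hZ0 hB.2.2.2) inferInstance

end Ext

end Groth.Agent.TFOneLib
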