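import Groth.Agent.FormAlg.Thicken
import Groth.Agent.FpqcDescent.IdealGlue
import Groth.Agent.ThickSys.Sys

/-!
The special fibre of a scheme over a discrete valuation ring: `i_* i^* M = M / π M`.
-/

set_option autoImplicit false
set_option linter.style.haveILetI false
set_option linter.unusedSectionVars false
set_option backward.isDefEq.respectTransparency false
set_option backward.isDefEq.respectTransparency.types false

universe u

open CategoryTheory CategoryTheory.Limits AlgebraicGeometry TopologicalSpace Opposite

noncomputable section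

namespace Groth.Agent.TFOneLib

/-- The special fibre is cut out by a uniformiser. -/
theorem ker_fibre {R : Type u} [CommRing R] [IsLocalRing R] {X Xs : Scheme.{u}} (f : X ⟶ Spec (CommRingCat.of R))
    (i : Xs ⟶ X) (g : Xs ⟶ Spec (CommRingCat.of (IsLocalRing.ResidueField R)))
    (hsq : IsPullback i g f (Spec.map (CommRingCat.ofHom (IsLocalRing.residue R)))) {π : R}
    (hπ : IsLocalRing.maximalIdeal R = Ideal.span {π}) (V : X.affineOpens) :
    letI : X.Over (Spec (CommRingCat.of R)) := ⟨f⟩
    i.ker.ideal V = Ideal.span {W7Cech.secRing R V.1 π} := by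
  letI : X.Over (Spec (CommRingCat.of R)) := ⟨f⟩
  let d : Spec (CommRingCat.of (IsLocalRing.ResidueField R)) ⟶ Spec (CommRingCat.of R) :=
    Spec.map (CommRingCat.ofHom (IsLocalRing.residue R))
  haveI : IsClosedImmersion d :=
    IsClosedImmersion.spec_of_surjective _ (by exact Ideal.Quotient.mk_surjective)
  let U₀ : (Spec (CommRingCat.of R)).affineOpens := ⟨⊤, isAffineOpen_top _⟩
  have hd : d.ker.ideal U₀ = Ideal.span {(Scheme.ΓSpecIso (CommRingCat.of R)).inv.hom π} := by
    rw [Scheme.Hom.ker_apply]
    let e := (Scheme.ΓSpecIso (CommRingCat.of R)).commRingCatIsoToRingEquiv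
    have hnat : ∀ y, (Scheme.ΓSpecIso (CommRingCat.of (IsLocalRing.ResidueField R))).hom.hom (d.appTop.hom y) =
        IsLocalRing.residue R (e y) := fun y =>
      congrArg (fun φ => φ.hom y) (Scheme.ΓSpecIso_naturality (CommRingCat.ofHom (IsLocalRing.residue R)))
    ext y
    have h1 : d.appTop.hom y = 0 ↔ e y ∈ IsLocalRing.maximalIdeal R := by
      rw [← IsLocalRing.ker_residue, RingHom.mem_ker, ← hnat]
      exact (map_eq_zero_iff _
        ((Scheme.ΓSpecIso (CommRingCat.of (IsLocalRing.ResidueField R))).commRingCatIsoToRingEquiv.injective)).symm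
    rw [RingHom.mem_ker]
    refine (show d.appTop.hom y = 0 ↔ _ from h1).trans ?_
    rw [hπ, Ideal.mem_span_singleton, Ideal.mem_span_singleton]
    change _ ↔ e.symm π ∣ y
    rw [← map_dvd_iff e, RingEquiv.apply_symm_apply]
  rw [ThickSys.ker_of_isPullback hsq,
    FpqcDescent.ideal_comap_appLE d.ker f U₀ V (fun x _ => trivial), hd, Ideal.map_span, Set.image_singleton]
  refine congrArg (fun a => Ideal.span {a}) ?_
  rfl

section Unit

variable {A : Type u} [CommRing A] {X : Scheme.{u}} [X.Over (Spec (CommRingCat.of A))] {t : A}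
  {Z : Scheme.{u}} (i : Z ⟶ X) [IsClosedImmersion i]
  (hi : ∀ V : X.affineOpens, i.ker.ideal V = Ideal.span {W7Cech.secRing A V.1 t})

include hi

theorem smulMod_push (N : Z.Modules) :
    Formal.smulMod A ((Scheme.Modules.pushforward i).obj N) t = 0 := by
  have := FormAlg.smulMod_push_eq_zero (A := A) (t := t) (m := 1) i (fun V => by rw [pow_one]; exact hi V) N
  rwa [pow_one] at this

theorem smulMod_unit (M : X.Modules) :
    Formal.smulMod A M t ≫ (Scheme.Modules.pullbackPushforwardAdjunction i).unit.app M = 0 := by
  rw [W7Cech.smulMod_natural]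
  exact (congrArg (_ ≫ ·) (smulMod_push i hi _)).trans comp_zero

/-- `i^*` kills multiplication by `t`. -/
theorem pullback_smulMod (M : X.Modules) :
    (Scheme.Modules.pullback i).map (Formal.smulMod A M t) = 0 := by
  apply ((Scheme.Modules.pullbackPushforwardAdjunction i).homEquiv _ _).injective
  rw [Adjunction.homEquiv_unit, Adjunction.homEquiv_unit, Functor.map_zero, comp_zero]
  exact ((Scheme.Modules.pullbackPushforwardAdjunction i).unit.naturality (Formal.smulMod A M t)).symm.trans
    (smulMod_unit i hi M)

/-- `M → i_* i^* M` is the cokernel of multiplication by `t`. -/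
theorem isIso_desc (M : X.Modules) :
    IsIso (cokernel.desc (Formal.smulMod A M t) ((Scheme.Modules.pullbackPushforwardAdjunction i).unit.app M)
      (smulMod_unit i hi M)) := by
  let adj := Scheme.Modules.pullbackPushforwardAdjunction i
  let c := cokernel.π (Formal.smulMod A M t)
  have hH : Formal.smulMod A (cokernel (Formal.smulMod A M t)) t = 0 := by
    rw [← cancel_epi c, ← W7Cech.smulMod_natural, cokernel.condition, comp_zero]
  haveI := FormAlg.isIso_unit_of_killed (A := A) (t := t) (m := 1) i (fun V => by rw [pow_one]; exact hi V)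
    (cokernel (Formal.smulMod A M t)) (by rw [pow_one]; exact hH)
  let α := cokernel.desc (Formal.smulMod A M t) (adj.unit.app M) (smulMod_unit i hi M)
  let β := (Scheme.Modules.pushforward i).map ((Scheme.Modules.pullback i).map c) ≫
    inv (adj.unit.app (cokernel (Formal.smulMod A M t)))
  have hβ : adj.unit.app M ≫ β = c := by
    show _ ≫ _ ≫ inv _ = _
    rw [← Category.assoc, IsIso.comp_inv_eq]
    exact (adj.unit.naturality c).symm
  have hα : c ≫ α = adj.unit.app M := cokernel.π_desc _ _ _
  refine ⟨β, ?_, ?_⟩
  · rw [← cancel_epi c, ← Category.assoc, hα, hβ, Category.comp_id]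
  · haveI := GrothSS.isIso_counit_push i
    let ff := adj.fullyFaithfulROfIsIsoCounit
    obtain ⟨g, hg⟩ := ff.map_surjective (β ≫ α)
    have e : g = 𝟙 _ := by
      apply (adj.homEquiv _ _).injective
      rw [Adjunction.homEquiv_unit, Adjunction.homEquiv_unit, hg, CategoryTheory.Functor.map_id]
      exact ((Category.assoc _ _ _).symm.trans ((congrArg (· ≫ α) hβ).trans hα)).trans (Category.comp_id _).symm
    rw [← hg, e, CategoryTheory.Functor.map_id]
    rfl

theorem epi_unit (M : X.Modules) : Epi ((Scheme.Modules.pullbackPushforwardAdjunction i).unit.app M) := by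
  haveI := isIso_desc i hi M
  rw [← cokernel.π_desc (Formal.smulMod A M t) _ (smulMod_unit i hi M)]
  exact epi_comp _ _

/-- The fundamental exact sequence `M → M → i_* i^* M`. -/
theorem exact_unit (M : X.Modules) :
    (ShortComplex.mk (Formal.smulMod A M t) ((Scheme.Modules.pullbackPushforwardAdjunction i).unit.app M)
      (smulMod_unit i hi M)).Exact := by
  haveI := isIso_desc i hi M
  exact ShortComplex.exact_of_iso
    (ShortComplex.isoMk (S₁ := ShortComplex.mk (Formal.smulMod A M t) (cokernel.π _) (cokernel.condition _))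
      (S₂ := ShortComplex.mk (Formal.smulMod A M t) ((Scheme.Modules.pullbackPushforwardAdjunction i).unit.app M)
        (smulMod_unit i hi M))
      (Iso.refl _) (Iso.refl _)
      (asIso (cokernel.desc (Formal.smulMod A M t) _ (smulMod_unit i hi M))) (by simp) (by simp))
    (ShortComplex.exact_cokernel _)

end Unit

end Groth.Agent.TFOneLib
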