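import Groth.Agent.TFOneLib.Decomp
import Groth.Agent.DvrDom.ClosedProper
import Groth.Agent.GrothSS.ChangeRings

/-!
Extensions of simple sheaves on two subcurves are simple exactly when they do not split.
-/

set_option autoImplicit false
set_option linter.style.haveILetI false
set_option linter.unusedSectionVars false
set_option backward.isDefEq.respectTransparency false

universe u

open CategoryTheory CategoryTheory.Limits AlgebraicGeometry TopologicalSpace Opposite
open Groth.Agent.WeakAssLib (mgerm mgerm_res stalkHom stalkHom_germ stalkHom_smul stalkHom_injective)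
open Groth.Agent.QC (res)

noncomputable section

namespace Groth.Agent.TFOneLib

variable {X : Scheme.{u}}

theorem range_subschι (Z : Set X) (hZ : IsClosed Z) : Set.range (VecSt.subschι X Z hZ) = Z := by
  rw [Scheme.IdealSheafData.range_subschemeι, Scheme.IdealSheafData.coe_support_vanishingIdeal]
  rfl

theorem subsingleton_push_stalk {Y : Scheme.{u}} (f : Y ⟶ X) [IsClosedImmersion f] (F : Y.Modules) {x : X}
    (hx : x ∉ Set.range f) : Subsingleton (((Coh.push f).obj F).presheaf.stalk x) := by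
  suffices h : ∀ m : ((Coh.push f).obj F).presheaf.stalk x, m = 0 from ⟨fun a b => (h a).trans (h b).symm⟩
  intro m
  obtain ⟨U, hxU, s, rfl⟩ := ((Coh.push f).obj F).presheaf.exists_germ_eq (x := x) m
  let W : X.Opens := U ⊓ ⟨(Set.range f)ᶜ, f.isClosedEmbedding.isClosed_range.isOpen_compl⟩
  have hxW : x ∈ W := ⟨hxU, hx⟩
  change mgerm ((Coh.push f).obj F) hxU s = 0
  rw [← mgerm_res ((Coh.push f).obj F) (inf_le_left : W ≤ U) hxW s,
    show res ((Coh.push f).obj F) (inf_le_left : W ≤ U) s = 0 from ?_, map_zero]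
  refine Groth.Agent.QC.section_eq_of_locally (M := F) (U := f ⁻¹ᵁ W) fun y hy => ?_
  exact absurd ⟨y, rfl⟩ hy.2

/-- Morphisms into the pushforward of a torsion-free module on a union of components are read at the generic
points of the ambient scheme. -/
theorem push_hom_eq_zero [IsLocallyNoetherian X] {Z : Set X} (hZ : IsClosed Z) (hZs : VecSt.IsSubcurve X Z)
    {J : (VecSt.subsch X Z hZ).Modules} (hJq : Coh.IsQCoh J) (hJ : TorSh.IsTorsionFree J) {F : X.Modules}
    (φ : F ⟶ (Coh.push (VecSt.subschι X Z hZ)).obj J) (h : ∀ η ∈ genericPoints X, ∀ m, stalkHom φ η m = 0) :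
    φ = 0 := by
  let ι := VecSt.subschι X Z hZ
  haveI : IsReduced (VecSt.subsch X Z hZ) := DvrDom.isReduced_vanishingIdeal_subscheme _
  haveI : IsLocallyNoetherian (VecSt.subsch X Z hZ) := LocallyOfFiniteType.isLocallyNoetherian ι
  haveI : J.IsQuasicoherent := hJq
  refine Scheme.Modules.hom_ext _ _ fun U => ?_
  ext s
  refine section_eq_zero (X := VecSt.subsch X Z hZ) (G := J) (U := ι ⁻¹ᵁ U) hJ (φ.app U s) fun η' hη' hη'U => ?_
  obtain ⟨𝒮, h𝒮, -, hZeq⟩ := hZs
  have hιη : ι η' ∈ Z := (range_subschι Z hZ).le ⟨η', rfl⟩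
  obtain ⟨C, hC, hηC⟩ := hZeq.le hιη
  obtain ⟨θ, hθ⟩ := QuasiSober.sober (h𝒮 hC).1 (isClosed_of_mem_irreducibleComponents C (h𝒮 hC))
  have hθg : θ ∈ genericPoints X := by
    change closure {θ} ∈ irreducibleComponents (X : Type u)
    rw [hθ.def]; exact h𝒮 hC
  obtain ⟨θ', hθ'⟩ := (range_subschι Z hZ).ge (hZeq.ge ⟨C, hC, hθ.mem⟩)
  have hsp : θ' ⤳ η' :=
    (ι.isClosedEmbedding.isInducing.specializes_iff).1 (show ι θ' ⤳ ι η' from hθ' ▸ hθ.specializes hηC)
  have heq : ι η' = θ := by rw [← eq_of_specializes hη' hsp]; exact hθ'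
  have hg : mgerm ((Coh.push ι).obj J) (show ι η' ∈ U from hη'U) (φ.app U s) = 0 := by
    rw [← stalkHom_germ φ (show ι η' ∈ U from hη'U) s]
    exact h (ι η') (heq ▸ hθg) _
  obtain ⟨W, hW, i, i', hWe⟩ := TopCat.Presheaf.germ_eq ((Coh.push ι).obj J).presheaf (ι η') hη'U hη'U (φ.app U s) 0
    (hg.trans (map_zero _).symm)
  change mgerm J hη'U (φ.app U s) = 0
  rw [← mgerm_res J (show ι ⁻¹ᵁ W ≤ ι ⁻¹ᵁ U from fun y hy => leOfHom i hy) hW (φ.app U s)]
  exact (congrArg (mgerm J (U := ι ⁻¹ᵁ W) hW) (hWe.trans (map_zero _))).trans (map_zero _)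

variable {k : Type u} [Field k] [X.Over (Spec (CommRingCat.of k))]

/-- Endomorphisms of the pushforward of a simple module are scalars. -/
theorem push_simple {Y : Scheme.{u}} (f : Y ⟶ X) [IsClosedImmersion f] {I : Y.Modules}
    (hI : TFOne.IsSimple Y k (f ≫ (X ↘ Spec (CommRingCat.of k))) I) :
    ¬ IsZero ((Coh.push f).obj I) ∧ ∀ g : (Coh.push f).obj I ⟶ (Coh.push f).obj I, ∃ c : k, g = c • 𝟙 _ := by
  letI : Y.Over (Spec (CommRingCat.of k)) := ⟨f ≫ (X ↘ Spec (CommRingCat.of k))⟩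
  haveI : f.IsOver (Spec (CommRingCat.of k)) := ⟨rfl⟩
  let ff : (Scheme.Modules.pushforward f).FullyFaithful :=
    haveI := GrothSS.isIso_counit_push f
    (Scheme.Modules.pullbackPushforwardAdjunction f).fullyFaithfulROfIsIsoCounit
  refine ⟨fun hz => hI.1 ((IsZero.iff_id_eq_zero I).2 ?_), fun g => ?_⟩
  · exact ff.map_injective ((hz.eq_of_src _ _))
  · obtain ⟨c, hc⟩ := hI.2 (ff.preimage g)
    refine ⟨c, ?_⟩
    have h1 : g = (Scheme.Modules.pushforward f).map (c • 𝟙 I) := by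
      rw [KLin.smul_id I c, ← hc, ff.map_preimage]
    rw [h1, Functor.map_smul, CategoryTheory.Functor.map_id]

/-- A split surjection splits off a nontrivial idempotent. -/
theorem not_simple_of_split {M B A : X.Modules} (a : A ⟶ M) (b : M ⟶ B) (w : a ≫ b = 0) [Mono a]
    (hA : ¬ IsZero A) (hB : ¬ IsZero B) (s : B ⟶ M) (hs : s ≫ b = 𝟙 B) :
    ¬ TFOne.IsSimple X k (X ↘ Spec (CommRingCat.of k)) M := fun h => by
  rcases idem_eq h (b ≫ s) (by rw [Category.assoc, reassoc_of% hs]) with h0 | h0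
  · refine hB ((IsZero.iff_id_eq_zero B).2 ?_)
    have := congrArg (fun t => s ≫ t ≫ b) h0
    simpa [reassoc_of% hs, hs] using this
  · refine hA ((IsZero.iff_id_eq_zero A).2 ?_)
    rw [← cancel_mono a, Category.id_comp, zero_comp, ← Category.comp_id a, ← h0, reassoc_of% w, zero_comp]

/-- Criterion of simplicity for an extension of simple modules. -/
theorem isSimple_of_nonsplit [IsLocallyNoetherian X] [IsReduced X] {M A B : X.Modules} (hM : TFOne.IsTF1 X M)
    (a : A ⟶ M) (b : M ⟶ B) (w : a ≫ b = 0)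
    (hex : (ShortComplex.mk a b w).ShortExact) (hA : ¬ IsZero A)
    (hsA : ∀ g : A ⟶ A, ∃ c : k, g = c • 𝟙 A) (hsB : ∀ g : B ⟶ B, ∃ c : k, g = c • 𝟙 B)
    (hzero : ∀ g : A ⟶ B, (∀ η ∈ genericPoints X, ∀ m, stalkHom g η m = 0) → g = 0) (hns : ¬ IsSplitEpi b) :
    TFOne.IsSimple X k (X ↘ Spec (CommRingCat.of k)) M := by
  haveI := hex.mono_f
  haveI := hex.epi_g
  have hdich : ∀ η ∈ genericPoints X, (∀ v : A.presheaf.stalk η, v = 0) ∨ Function.Surjective (stalkHom a η) := by
    intro η hη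
    by_cases h : ∀ v : A.presheaf.stalk η, v = 0
    · exact Or.inl h
    · refine Or.inr fun m => ?_
      push Not at h
      obtain ⟨v, hv⟩ := h
      obtain ⟨e⟩ := hM.2.2 η hη
      letI := (isField_stalk hη).toField
      have he : e (stalkHom a η v) ≠ 0 := fun h0 =>
        hv ((injective_iff_map_eq_zero _).1 (stalkHom_injective a η) v (e.map_eq_zero_iff.1 h0))
      refine ⟨(e m / e (stalkHom a η v)) • v, e.injective ?_⟩
      rw [stalkHom_smul, map_smul, smul_eq_mul, div_mul_cancel₀ _ he]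
  have hab : ∀ φ : M ⟶ M, a ≫ φ ≫ b = 0 := fun φ => hzero _ fun η hη m => by
    rcases hdich η hη with h | h
    · rw [h m, map_zero]
    · obtain ⟨v, hv⟩ := h (stalkHom φ η (stalkHom a η m))
      rw [stalkHom_comp, stalkHom_comp, ← hv, ← stalkHom_comp, w, stalkHom_zero]
  refine ⟨fun hz => hA ((IsZero.iff_id_eq_zero A).2 ?_), fun φ => ?_⟩
  · rw [← cancel_mono a]; exact hz.eq_of_tgt _ _
  obtain ⟨c, hc⟩ := hsA (hex.exact.lift (a ≫ φ) (by rw [Category.assoc]; exact hab φ))
  have hac : a ≫ (φ - c • 𝟙 M) = 0 := by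
    have h := hex.exact.lift_f (a ≫ φ) (by rw [Category.assoc]; exact hab φ)
    rw [hc, Linear.smul_comp] at h
    change c • (𝟙 A ≫ a) = a ≫ φ at h
    rw [Category.id_comp] at h
    rw [Preadditive.comp_sub, Linear.comp_smul, Category.comp_id, h, sub_self]
  let θ := hex.exact.desc (φ - c • 𝟙 M) hac
  have hθ : b ≫ θ = φ - c • 𝟙 M := hex.exact.g_desc _ hac
  obtain ⟨d, hd⟩ := hsB (θ ≫ b)
  have hθb : θ ≫ b = d • 𝟙 B := hd
  by_cases hd0 : d = 0
  · refine ⟨c, ?_⟩
    have hθ0 : φ - c • 𝟙 M = 0 := hom_eq_zero hM.1.1 hM.2.1 _ fun η hη m => by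
      rcases hdich η hη with h | h
      · have h2 : θ ≫ b = 0 := by rw [hθb, hd0, zero_smul]
        rw [← hθ, stalkHom_comp]
        obtain ⟨v, hv⟩ := Groth.Agent.WeakAssLib.stalk_exact _ hex η (stalkHom θ η (stalkHom b η m)) (by
          change stalkHom b η (stalkHom θ η (stalkHom b η m)) = 0
          rw [← stalkHom_comp, h2, stalkHom_zero])
        rw [← hv, h v]
        exact map_zero _
      · obtain ⟨v, rfl⟩ := h m
        rw [← stalkHom_comp, hac, stalkHom_zero]
    rw [sub_eq_zero] at hθ0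
    exact hθ0.trans (KLin.smul_id M c)
  · refine absurd ⟨⟨d⁻¹ • θ, ?_⟩⟩ hns
    rw [Linear.smul_comp, hθb, smul_smul, inv_mul_cancel₀ hd0, one_smul]

end Groth.Agent.TFOneLib
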