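import Groth.Agent.TFOneLib.Elem
import Groth.Agent.QC.Localisation
import Groth.Agent.QC.Local

/-!
Existence of torsion-free quotients on unions of components.
-/

set_option autoImplicit false
set_option linter.style.haveILetI false
set_option linter.unusedSectionVars false
set_option backward.isDefEq.respectTransparency false

universe u

open CategoryTheory CategoryTheory.Limits AlgebraicGeometry TopologicalSpace Opposite
open Groth.Agent.WeakAssLib (mgerm mgerm_res mgerm_smul stalkHom stalkHom_germ stalkHom_smul ext_germ)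
open Groth.Agent.QC (res)

noncomputable section

namespace Groth.Agent.TFOneLib

variable {X : Scheme.{u}}

/-- A regular element of a local ring does not vanish at a generalisation. -/
theorem germ_ne_zero_of_regular {x η : X} (hs : η ⤳ x) {W : X.Opens} (hW : IsAffineOpen W) (hx : x ∈ W)
    (a : Γ(X, W)) (ha : IsRegular ((X.presheaf.germ W x hx).hom a)) :
    (X.presheaf.germ W η (hs.mem_open W.2 hx)).hom a ≠ 0 := by
  intro h0
  have hη := hs.mem_open W.2 hx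
  letI := TopCat.Presheaf.algebra_section_stalk X.presheaf (⟨η, hη⟩ : W)
  haveI := hW.isLocalization_stalk ⟨η, hη⟩
  obtain ⟨⟨b, hb⟩, hba⟩ :=
    (IsLocalization.map_eq_zero_iff (hW.primeIdealOf ⟨η, hη⟩).asIdeal.primeCompl (X.presheaf.stalk η) a).1 h0
  have hbu : IsUnit ((X.presheaf.germ W η hη).hom b) :=
    IsLocalization.map_units (X.presheaf.stalk η) ⟨b, hb⟩
  have h1 : (X.presheaf.germ W x hx).hom b * (X.presheaf.germ W x hx).hom a = 0 := by
    rw [← map_mul, show b * a = 0 from hba, map_zero]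
  have h2 : (X.presheaf.germ W x hx).hom b = 0 := ha.right (by simpa using h1)
  refine hbu.ne_zero ?_
  have h3 := congrArg (X.presheaf.stalkSpecializes hs).hom h2
  rw [map_zero, ← CommRingCat.comp_apply, X.presheaf.germ_stalkSpecializes] at h3
  exact h3

variable [IsLocallyNoetherian X] [IsReduced X] [NoetherianSpace X]

/-- Modules whose sections are read at generic points are torsion-free. -/
theorem isTorsionFree_of_sep {G : X.Modules}
    (h : ∀ (V : X.Opens) (s : Γ(G, V)), (∀ η ∈ genericPoints X, ∀ hη : η ∈ V, mgerm G hη s = 0) → s = 0) :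
    TorSh.IsTorsionFree G := fun x => by
  refine ⟨fun r hr p q hpq => sub_eq_zero.1 ?_⟩
  have hz : r • (p - q) = 0 := by rw [smul_sub, show r • p = r • q from hpq, sub_self]
  generalize p - q = g at hz
  classical
  let 𝒮 := {C | C ∈ irreducibleComponents (X : Type u) ∧ x ∉ C}
  have hcl : IsClosed (⋃₀ 𝒮) := by
    rw [Set.sUnion_eq_biUnion]
    exact (NoetherianSpace.finite_irreducibleComponents.subset fun C hC => hC.1).isClosed_biUnion
      fun C hC => isClosed_of_mem_irreducibleComponents C hC.1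
  obtain ⟨U₁, hx₁, s₁, rfl⟩ := G.presheaf.exists_germ_eq (x := x) g
  obtain ⟨U₂, hx₂, a₂, rfl⟩ := X.presheaf.exists_germ_eq (x := x) r
  have hxN : x ∈ U₁ ⊓ U₂ ⊓ ⟨(⋃₀ 𝒮)ᶜ, hcl.isOpen_compl⟩ := ⟨⟨hx₁, hx₂⟩, fun ⟨C, hC, hxC⟩ => hC.2 hxC⟩
  obtain ⟨W₀, hW₀, hxW₀, hle₀⟩ := exists_isAffineOpen_mem_and_subset hxN
  have h1 : W₀ ≤ U₁ := fun y hy => (hle₀ hy).1.1
  have h2 : W₀ ≤ U₂ := fun y hy => (hle₀ hy).1.2
  let a : Γ(X, W₀) := X.presheaf.map (homOfLE h2).op a₂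
  have har : (X.presheaf.germ U₂ x hx₂).hom a₂ = (X.presheaf.germ W₀ x hxW₀).hom a :=
    (X.presheaf.germ_res_apply (homOfLE h2) x hxW₀ a₂).symm
  rw [har] at hr hz
  change (X.presheaf.germ W₀ x hxW₀).hom a • mgerm G hx₁ s₁ = 0 at hz
  rw [← mgerm_res G h1 hxW₀ s₁, ← mgerm_smul] at hz
  obtain ⟨N, hxN', i, i', hN⟩ := TopCat.Presheaf.germ_eq G.presheaf x hxW₀ hxW₀ (a • res G h1 s₁) 0
    (hz.trans (map_zero _).symm)
  have hNW : N ≤ W₀ := leOfHom i
  suffices hs : res G (hNW.trans h1) s₁ = 0 by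
    change mgerm G hx₁ s₁ = 0
    rw [← mgerm_res G (hNW.trans h1) hxN' s₁, hs, map_zero]
  refine h N _ fun η hη hηN => ?_
  have hsx : η ⤳ x := by
    by_contra hns
    refine (hle₀ (hNW hηN)).2 ⟨closure {η}, ⟨hη, fun h => hns (specializes_iff_mem_closure.2 h)⟩, subset_closure rfl⟩
  have hne := germ_ne_zero_of_regular hsx hW₀ hxW₀ a hr
  have hz' : (X.presheaf.germ W₀ η (hNW hηN)).hom a • mgerm G (hNW hηN) (res G h1 s₁) = 0 := by
    rw [← mgerm_smul, ← mgerm_res G hNW hηN]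
    exact (congrArg (mgerm G hηN) (hN.trans (map_zero _))).trans (map_zero _)
  letI := (isField_stalk hη).toField
  rw [mgerm_res G h1 (hNW hηN)] at hz'
  rw [mgerm_res G (hNW.trans h1) hηN]
  exact (smul_eq_zero.1 hz').resolve_left hne

/-- A torsion-free quotient on the components with generic point in a given set. -/
theorem exists_quot_generic {M : X.Modules} (hM : TFOne.IsTF1 X M) (T : Set X) :
    ∃ (G : X.Modules) (π : M ⟶ G), TFOne.IsQuotOn X M (CohB1.support G) G π ∧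
      ∀ η ∈ genericPoints X, (η ∈ CohB1.support G ↔ η ∈ T) := by
  classical
  let 𝒮 := {C | C ∈ irreducibleComponents (X : Type u) ∧ ∃ η ∈ genericPoints X, C = closure {η} ∧ η ∉ T}
  have hcl : IsClosed (⋃₀ 𝒮) := by
    rw [Set.sUnion_eq_biUnion]
    exact (NoetherianSpace.finite_irreducibleComponents.subset fun C hC => hC.1).isClosed_biUnion
      fun C hC => isClosed_of_mem_irreducibleComponents C hC.1
  let U : X.Opens := ⟨(⋃₀ 𝒮)ᶜ, hcl.isOpen_compl⟩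
  have hUT : ∀ η ∈ genericPoints X, (η ∈ U ↔ η ∈ T) := by
    intro η hη
    refine ⟨fun hU => by_contra fun hT => hU ⟨closure {η}, ⟨hη, η, hη, rfl, hT⟩, subset_closure rfl⟩, ?_⟩
    rintro hT ⟨C, ⟨-, θ, hθ, rfl, hθT⟩, hηC⟩
    exact hθT (eq_of_specializes hη (specializes_iff_mem_closure.2 hηC) ▸ hT)
  let u : M ⟶ (Scheme.Modules.pushforward U.ι).obj (M.restrict U.ι) :=
    (Scheme.Modules.restrictAdjunction U.ι).unit.app M
  haveI hq : M.IsQuasicoherent := hM.1.1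
  haveI : (M.restrict U.ι).IsQuasicoherent := Groth.Agent.QC.isQCoh_restrict (f := U.ι) hM.1.1
  have hP : Coh.IsQCoh ((Scheme.Modules.pushforward U.ι).obj (M.restrict U.ι)) :=
    Groth.Agent.QC.isQCoh_pushforward U.ι
  let G : X.Modules := cokernel (kernel.ι u)
  let i : G ⟶ (Scheme.Modules.pushforward U.ι).obj (M.restrict U.ι) := Abelian.factorThruCoimage u
  let π : M ⟶ G := cokernel.π (kernel.ι u)
  haveI : Mono i := inferInstanceAs (Mono (Abelian.factorThruCoimage u))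
  have hfac : π ≫ i = u := Abelian.coimage.fac u
  have hG : Coh.IsCoh G := Groth.Agent.QC.isCoh_cokernel (Groth.Agent.QC.isQCoh_kernel hM.1.1 hP u) hM.1 _
  have himg : ∀ V : X.Opens, U.ι ''ᵁ (U.ι ⁻¹ᵁ V) = U ⊓ V := fun V => by
    rw [Scheme.Hom.image_preimage_eq_opensRange_inf, Scheme.Opens.opensRange_ι]
  have hsep : ∀ (V : X.Opens) (s : Γ(G, V)),
      (∀ η ∈ genericPoints X, ∀ hη : η ∈ V, mgerm G hη s = 0) → s = 0 := by
    intro V s hs
    refine Groth.Agent.QC.app_injective_of_mono i V ?_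
    rw [map_zero]
    refine section_eq_zero (G := M) hM.2.1 (U := U.ι ''ᵁ (U.ι ⁻¹ᵁ V)) (i.app V s) fun η hη hηV => ?_
    have hηUV : η ∈ U ⊓ V := (himg V).le hηV
    have h0 : mgerm ((Scheme.Modules.pushforward U.ι).obj (M.restrict U.ι)) hηUV.2 (i.app V s) = 0 := by
      rw [← stalkHom_germ i hηUV.2 s, hs η hη hηUV.2, map_zero]
    obtain ⟨N, hN, j, j', hNe⟩ := TopCat.Presheaf.germ_eq
      ((Scheme.Modules.pushforward U.ι).obj (M.restrict U.ι)).presheaf η hηUV.2 hηUV.2 (i.app V s) 0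
      (h0.trans (map_zero _).symm)
    have hle : U.ι ''ᵁ (U.ι ⁻¹ᵁ N) ≤ U.ι ''ᵁ (U.ι ⁻¹ᵁ V) := by
      rw [himg, himg]; exact inf_le_inf_left U (leOfHom j)
    have hηN : η ∈ U.ι ''ᵁ (U.ι ⁻¹ᵁ N) := (himg N).ge ⟨hηUV.1, hN⟩
    rw [← mgerm_res M hle hηN (i.app V s)]
    exact (congrArg (mgerm M hηN) (hNe.trans (map_zero _))).trans (map_zero _)
  refine ⟨G, π, ⟨inferInstanceAs (Epi (cokernel.π _)), hG, isTorsionFree_of_sep hsep, rfl⟩, fun η hη => ⟨fun h => ?_,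
    fun hT => ?_⟩⟩
  · by_contra hT
    let 𝒯 := {C | C ∈ irreducibleComponents (X : Type u) ∧ η ∉ C}
    have hcl' : IsClosed (⋃₀ 𝒯) := by
      rw [Set.sUnion_eq_biUnion]
      exact (NoetherianSpace.finite_irreducibleComponents.subset fun C hC => hC.1).isClosed_biUnion
        fun C hC => isClosed_of_mem_irreducibleComponents C hC.1
    refine notMem_of_forall (fun v => ?_) h
    obtain ⟨V, hηV, s, rfl⟩ := G.presheaf.exists_germ_eq (x := η) v
    have hηW : η ∈ V ⊓ ⟨(⋃₀ 𝒯)ᶜ, hcl'.isOpen_compl⟩ := ⟨hηV, fun ⟨C, hC, hηC⟩ => hC.2 hηC⟩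
    change mgerm G hηV s = 0
    rw [← mgerm_res G (inf_le_left : V ⊓ ⟨(⋃₀ 𝒯)ᶜ, hcl'.isOpen_compl⟩ ≤ V) hηW s]
    rw [hsep _ (res G inf_le_left s) fun θ hθ hθW => ?_, map_zero]
    have hθη : θ = η := by
      by_contra hne
      refine hθW.2 ⟨closure {θ}, ⟨hθ, fun hc => hne (eq_of_specializes hη (specializes_iff_mem_closure.2 hc))⟩,
        subset_closure rfl⟩
    subst hθη
    refine Groth.Agent.WeakAssLib.stalkHom_injective i θ ?_
    rw [map_zero, stalkHom_germ]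
    have hUe : θ ∉ U := fun hu => hT ((hUT θ hη).1 hu)
    obtain ⟨W', hθW', hW'U⟩ : ∃ W' : X.Opens, θ ∈ W' ∧ U ⊓ W' = ⊥ := by
      refine ⟨⟨(⋃₀ 𝒯)ᶜ, hcl'.isOpen_compl⟩, fun ⟨C, hC, hc⟩ => hC.2 hc, ?_⟩
      refine eq_bot_iff.2 fun y hy => hy.1 ?_
      refine ⟨closure {θ}, ⟨hη, θ, hη, rfl, hT⟩, ?_⟩
      by_contra hyθ
      obtain ⟨ξ, hξ, hsξ⟩ := exists_generic y
      refine hy.2 ⟨closure {ξ}, ⟨hξ, fun hc => hyθ ?_⟩, specializes_iff_mem_closure.1 hsξ⟩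
      rw [eq_of_specializes hη (specializes_iff_mem_closure.2 hc)] at hsξ
      exact specializes_iff_mem_closure.1 hsξ
    let t := i.app (V ⊓ ⟨(⋃₀ 𝒯)ᶜ, hcl'.isOpen_compl⟩) (res G inf_le_left s)
    change mgerm _ _ t = 0
    rw [← mgerm_res _ (inf_le_left : (V ⊓ ⟨(⋃₀ 𝒯)ᶜ, hcl'.isOpen_compl⟩) ⊓ W' ≤ _) ⟨hθW, hθW'⟩ t,
      show res _ (inf_le_left : (V ⊓ ⟨(⋃₀ 𝒯)ᶜ, hcl'.isOpen_compl⟩) ⊓ W' ≤ _) t = 0 from ?_, map_zero]
    refine Groth.Agent.QC.section_eq_of_locally (M := M)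
      (U := U.ι ''ᵁ (U.ι ⁻¹ᵁ ((V ⊓ ⟨(⋃₀ 𝒯)ᶜ, hcl'.isOpen_compl⟩) ⊓ W'))) fun y hy => ?_
    have hy' := (himg _).le hy
    exact ((hW'U.le (⟨hy'.1, hy'.2.2⟩ : y ∈ U ⊓ W')) : False).elim
  · refine mem_of_injective hM.2.2 π hη ((injective_iff_map_eq_zero _).2 fun m hm => ?_)
    obtain ⟨V, hηV, s, rfl⟩ := M.presheaf.exists_germ_eq (x := η) m
    change stalkHom π η (mgerm M hηV s) = 0 at hm
    have hu : mgerm ((Scheme.Modules.pushforward U.ι).obj (M.restrict U.ι)) hηV (u.app V s) = 0 := by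
      rw [← stalkHom_germ u hηV s, ← hfac, stalkHom_comp, hm, map_zero]
    obtain ⟨N, hN, j, j', hNe⟩ := TopCat.Presheaf.germ_eq
      ((Scheme.Modules.pushforward U.ι).obj (M.restrict U.ι)).presheaf η hηV hηV (u.app V s) 0
      (hu.trans (map_zero _).symm)
    have hηN : η ∈ U.ι ''ᵁ (U.ι ⁻¹ᵁ N) := (himg N).ge ⟨(hUT η hη).2 hT, hN⟩
    have hle₁ : U.ι ''ᵁ (U.ι ⁻¹ᵁ V) ≤ V := U.ι.image_preimage_le V
    have hle : U.ι ''ᵁ (U.ι ⁻¹ᵁ N) ≤ U.ι ''ᵁ (U.ι ⁻¹ᵁ V) := by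
      rw [himg, himg]; exact inf_le_inf_left U (leOfHom j)
    change mgerm M hηV s = 0
    rw [← mgerm_res M hle₁ (hle hηN) s, ← mgerm_res M hle hηN]
    exact (congrArg (mgerm M hηN) (hNe.trans (map_zero _))).trans (map_zero _)

/-- The torsion-free quotient exists on every union of components. -/
theorem exists_quot {M : X.Modules} (hM : TFOne.IsTF1 X M) {T : Set X} {𝒮 : Set (Set X)}
    (h𝒮 : 𝒮 ⊆ irreducibleComponents (X : Type u)) (hT : T = ⋃₀ 𝒮) :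
    ∃ (G : X.Modules) (π : M ⟶ G), TFOne.IsQuotOn X M T G π := by
  obtain ⟨G, π, hπ, hgen⟩ := exists_quot_generic hM T
  refine ⟨G, π, hπ.1, hπ.2.1, hπ.2.2.1, ?_⟩
  rw [support_eq hπ.2.1 hπ.2.2.1, hT]
  ext x
  constructor
  · rintro ⟨C, ⟨-, η, hη, rfl, hηs⟩, hx⟩
    have hηT : η ∈ ⋃₀ 𝒮 := hT ▸ (hgen η hη).1 hηs
    obtain ⟨C', hC', hηC'⟩ := hηT
    exact ⟨C', hC', closure_minimal (Set.singleton_subset_iff.2 hηC')
      (isClosed_of_mem_irreducibleComponents C' (h𝒮 hC')) hx⟩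
  · rintro ⟨C, hC, hx⟩
    obtain ⟨η, hη⟩ := QuasiSober.sober (h𝒮 hC).1 (isClosed_of_mem_irreducibleComponents C (h𝒮 hC))
    have hηg : η ∈ genericPoints X := by
      change closure {η} ∈ irreducibleComponents (X : Type u)
      rw [hη.def]; exact h𝒮 hC
    exact ⟨C, ⟨h𝒮 hC, η, hηg, hη.def.symm, (hgen η hηg).2 (hT ▸ ⟨C, hC, hη.mem⟩)⟩, hx⟩

end Groth.Agent.TFOneLib
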