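import Groth.Prelude.Def_TFOne
import Groth.Agent.TFGerm.Dense
import Groth.Agent.WeakAssLib.Stalk
import Groth.Agent.FlatBlowUp.Generic
import Groth.Agent.GenComp.Basic
import Groth.Agent.CurveRR.Curve
import Groth.Agent.W7Slope.Basic

/-!
Torsion-free quotients of rank one sheaves on reduced schemes, read at the generic points.
-/

set_option autoImplicit false
set_option linter.style.haveILetI false
set_option linter.unusedSectionVars false
set_option backward.isDefEq.respectTransparency false

universe u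

open CategoryTheory CategoryTheory.Limits AlgebraicGeometry TopologicalSpace Opposite
open Groth.Agent.WeakAssLib (mgerm mgerm_res stalkHom stalkHom_germ stalkHom_smul stalk_exact)

noncomputable section

namespace Groth.Agent.TFOneLib

variable {X : Scheme.{u}}

/-- A generic point has no proper generalisation. -/
theorem eq_of_specializes {η z : X} (hη : η ∈ genericPoints X) (h : z ⤳ η) : z = η := by
  have h1 : closure ({η} : Set X) ⊆ closure {z} :=
    closure_minimal (Set.singleton_subset_iff.2 (specializes_iff_mem_closure.1 h)) isClosed_closure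
  have h2 := hη.2 isIrreducible_singleton.closure h1
  exact (h.antisymm (specializes_iff_mem_closure.2 (h2 (subset_closure rfl)))).eq

theorem isField_stalk [IsReduced X] {η : X} (hη : η ∈ genericPoints X) : IsField (X.presheaf.stalk η) :=
  FlatBlowUp.isField_stalk_of_maximal η fun _ h => eq_of_specializes hη h

/-- Every point has a generalisation which is a generic point. -/
theorem exists_generic (x : X) : ∃ η ∈ genericPoints X, η ⤳ x := by
  have hC : irreducibleComponent x ∈ irreducibleComponents X := irreducibleComponent_mem_irreducibleComponents x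
  obtain ⟨η, hη⟩ := QuasiSober.sober hC.1 isClosed_irreducibleComponent
  refine ⟨η, ?_, hη.specializes mem_irreducibleComponent⟩
  change closure {η} ∈ irreducibleComponents X
  rw [hη.def]; exact hC

/-- An open set containing all generic points is dense. -/
theorem dense_of_generic {D : X.Opens} (h : ∀ η ∈ genericPoints X, η ∈ D) : Dense (D : Set X) := by
  intro x
  obtain ⟨η, hη, hs⟩ := exists_generic x
  exact closure_mono (Set.singleton_subset_iff.2 (h η hη)) (specializes_iff_mem_closure.1 hs)

theorem subsingleton_of_notMem {G : X.Modules} {x : X} (h : x ∉ CohB1.support G) :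
    Subsingleton (G.presheaf.stalk x) := not_not.1 h

theorem stalkHom_surjective {F G : X.Modules} (π : F ⟶ G) [Epi π] (x : X) :
    Function.Surjective (stalkHom π x) :=
  (ModuleCat.epi_iff_surjective _).1 (inferInstance : Epi ((DerSch.stalkFunctor X x).map π))

theorem stalkHom_comp {F G H : X.Modules} (f : F ⟶ G) (g : G ⟶ H) (x : X) (m : F.presheaf.stalk x) :
    stalkHom (f ≫ g) x m = stalkHom g x (stalkHom f x m) := by
  obtain ⟨V, hxV, s, rfl⟩ := F.presheaf.exists_germ_eq (x := x) m
  change stalkHom (f ≫ g) x (mgerm F hxV s) = stalkHom g x (stalkHom f x (mgerm F hxV s))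
  rw [stalkHom_germ, stalkHom_germ, stalkHom_germ]
  rfl

theorem stalkHom_zero (F G : X.Modules) (x : X) (m : F.presheaf.stalk x) :
    stalkHom (0 : F ⟶ G) x m = 0 := by
  obtain ⟨V, hxV, s, rfl⟩ := F.presheaf.exists_germ_eq (x := x) m
  change stalkHom (0 : F ⟶ G) x (mgerm F hxV s) = 0
  rw [stalkHom_germ]
  exact map_zero _

theorem notMem_support {G : X.Modules} {x : X} (h : Subsingleton (G.presheaf.stalk x)) :
    x ∉ CohB1.support G := fun h' => h' h

variable [IsLocallyNoetherian X] [IsReduced X]

/-- Sections of torsion-free quasi-coherent modules are read at the generic points. -/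
theorem section_eq_zero {G : X.Modules} [G.IsQuasicoherent] (hG : TorSh.IsTorsionFree G) {U : X.Opens}
    (s : Γ(G, U)) (h : ∀ η ∈ genericPoints X, ∀ hη : η ∈ U, mgerm G hη s = 0) : s = 0 := by
  let Z : Set X := {y | ∃ hy : y ∈ U, mgerm G hy s = 0}
  have hZo : IsOpen Z := by
    refine isOpen_iff_forall_mem_open.2 fun y hy => ?_
    obtain ⟨hyU, hy0⟩ := hy
    obtain ⟨W, hyW, i, i', hW⟩ := TopCat.Presheaf.germ_eq G.presheaf y hyU hyU s 0 (hy0.trans (map_zero _).symm)
    refine ⟨W, fun z hz => ⟨leOfHom i hz, ?_⟩, W.2, hyW⟩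
    rw [← mgerm_res G (leOfHom i) hz s]
    exact (congrArg (mgerm G hz) (hW.trans (map_zero _))).trans (map_zero _)
  let D : X.Opens := ⟨Z ∪ interior (U : Set X)ᶜ, hZo.union isOpen_interior⟩
  have hD : Dense (D : Set X) := by
    refine dense_iff_inter_open.2 fun V hV hVne => ?_
    by_cases hVU : ∃ x, x ∈ V ∧ x ∈ U
    · obtain ⟨x, hxV, hxU⟩ := hVU
      obtain ⟨η, hη, hs⟩ := exists_generic x
      exact ⟨η, hs.mem_open hV hxV, Or.inl ⟨hs.mem_open U.2 hxU, h η hη _⟩⟩
    · obtain ⟨x, hx⟩ := hVne
      exact ⟨x, hx, Or.inr (interior_maximal (fun y hy hyU => hVU ⟨y, hy, hyU⟩) hV hx)⟩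
  refine TFGerm.eq_zero_of_dense G hG D hD s fun y hy hyD => ?_
  rcases hyD with ⟨hy', h0⟩ | hyI
  · exact h0
  · exact absurd hy (interior_subset hyI)

/-- A morphism into a torsion-free quasi-coherent module vanishing at the generic points is zero. -/
theorem hom_eq_zero {F G : X.Modules} (hq : Coh.IsQCoh G) (hG : TorSh.IsTorsionFree G) (φ : F ⟶ G)
    (h : ∀ η ∈ genericPoints X, ∀ m, stalkHom φ η m = 0) : φ = 0 := by
  haveI : G.IsQuasicoherent := hq
  refine Scheme.Modules.hom_ext _ _ fun U => ?_
  ext s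
  exact section_eq_zero hG (φ.app U s) fun η hη hηU => by rw [← stalkHom_germ φ hηU s, h η hη]

/-- At a generic point of `Z` the torsion-free quotient on `Z` is an isomorphism. -/
theorem stalkHom_injective_of_quot {F G : X.Modules} (hF : TFOne.IsRkOne X F) {Z : Set X} {π : F ⟶ G}
    (hπ : TFOne.IsQuotOn X F Z G π) {η : X} (hη : η ∈ genericPoints X) (hηZ : η ∈ Z) :
    Function.Injective (stalkHom π η) := by
  haveI := hπ.1
  obtain ⟨e⟩ := hF η hη
  have hne : ¬ Subsingleton (G.presheaf.stalk η) := by rw [← hπ.2.2.2] at hηZ; exact hηZ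
  rw [injective_iff_map_eq_zero]
  intro m hm
  by_contra hm0
  letI := (isField_stalk hη).toField
  refine hne ⟨fun a b => ?_⟩
  have hall : ∀ c : F.presheaf.stalk η, stalkHom π η c = 0 := fun c => by
    have he : e m ≠ 0 := fun h => hm0 (e.map_eq_zero_iff.1 h)
    have : c = (e c / e m) • m := e.injective (by rw [map_smul, smul_eq_mul, div_mul_cancel₀ _ he])
    rw [this, stalkHom_smul, hm, smul_zero]
  obtain ⟨a', rfl⟩ := stalkHom_surjective π η a
  obtain ⟨b', rfl⟩ := stalkHom_surjective π η b
  rw [hall, hall]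

/-- The kernel of the torsion-free quotient on `U` dies in every torsion-free quotient inside `U`. -/
theorem kernel_comp_eq_zero {F GU GY : X.Modules} (hF : TFOne.IsRkOne X F) {U Y : Set X} {πU : F ⟶ GU}
    {πY : F ⟶ GY} (hU : TFOne.IsQuotOn X F U GU πU) (hY : TFOne.IsQuotOn X F Y GY πY)
    (h : ∀ η ∈ genericPoints X, η ∈ Y → η ∈ U) : kernel.ι πU ≫ πY = 0 := by
  refine hom_eq_zero hY.2.1.1 hY.2.2.1 _ fun η hη m => ?_
  rw [stalkHom_comp]
  by_cases hηY : η ∈ Y
  · have h0 : stalkHom πU η (stalkHom (kernel.ι πU) η m) = 0 := by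
      rw [← stalkHom_comp, kernel.condition, stalkHom_zero]
    rw [(injective_iff_map_eq_zero _).1 (stalkHom_injective_of_quot hF hU hη (h η hη hηY)) _ h0, map_zero]
  · haveI := subsingleton_of_notMem (G := GY) (x := η) (by rw [hY.2.2.2]; exact hηY)
    exact Subsingleton.elim _ _

/-- The induced map between torsion-free quotients. -/
theorem exists_desc {F GU GY : X.Modules} (hF : TFOne.IsRkOne X F) {U Y : Set X} {πU : F ⟶ GU} {πY : F ⟶ GY}
    (hU : TFOne.IsQuotOn X F U GU πU) (hY : TFOne.IsQuotOn X F Y GY πY)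
    (h : ∀ η ∈ genericPoints X, η ∈ Y → η ∈ U) : ∃ p : GU ⟶ GY, πU ≫ p = πY ∧ Epi p := by
  haveI := hU.1; haveI := hY.1
  refine ⟨Abelian.epiDesc πU πY (kernel_comp_eq_zero hF hU hY h), Abelian.comp_epiDesc _ _ _, ?_⟩
  exact epi_of_epi_fac (Abelian.comp_epiDesc πU πY (kernel_comp_eq_zero hF hU hY h))

end Groth.Agent.TFOneLib
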