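import Groth.Agent.TFOneLib.Modify
import Groth.Agent.TFOneLib.Basic
import Groth.Prelude.Def_FlatMod2
import Groth.Prelude.Def_KLin

/-!
The elementary modification on a family over a discrete valuation ring.
-/

set_option autoImplicit false
set_option linter.style.haveILetI false
set_option linter.unusedSectionVars false
set_option backward.isDefEq.respectTransparency false
set_option backward.isDefEq.respectTransparency.types false

universe u

open CategoryTheory CategoryTheory.Limits AlgebraicGeometry TopologicalSpace Opposite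
open Groth.Agent.WeakAssLib (mgerm mgerm_res mgerm_smul ext_germ)

noncomputable section

namespace Groth.Agent.TFOneLib

/-- A regular scalar acts injectively on a flat module. -/
theorem mono_smulMod_of_flat {R : Type u} [CommRing R] [IsDomain R] {X : Scheme.{u}}
    (f : X ⟶ Spec (CommRingCat.of R)) (M : X.Modules) (hM : FlatMod.IsFlatOver f M) {a : R} (ha : a ≠ 0) :
    letI : X.Over (Spec (CommRingCat.of R)) := ⟨f⟩
    Mono (Formal.smulMod R M a) := by
  letI : X.Over (Spec (CommRingCat.of R)) := ⟨f⟩
  refine Preadditive.mono_of_cancel_zero _ fun {T} g hg => ?_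
  refine Scheme.Modules.hom_ext _ _ fun U => ?_
  ext s
  refine ext_germ M (g.app U s) fun x hx => ?_
  have h0 : (Formal.smulMod R M a).app U (g.app U s) = 0 := congrArg (fun φ => φ.app U s) hg
  change (Formal.smulModΓ M _).app U (g.app U s) = 0 at h0
  rw [KLin.smulModΓ_app_apply] at h0
  have h1 := congrArg (mgerm M hx) h0
  rw [mgerm_smul, map_zero] at h1
  let p : PrimeSpectrum R := f.base x
  letI := FlatMod.moduleStalkOver f M x
  haveI : Module.Flat ((Spec (CommRingCat.of R)).presheaf.stalk (f.base x)) (M.presheaf.stalk x) := hM x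
  let b : (Spec (CommRingCat.of R)).presheaf.stalk (f.base x) :=
    (StructureSheaf.toStalk R p).hom a
  have hb : IsSMulRegular (M.presheaf.stalk x) b := by
    refine Module.Flat.isSMulRegular_of_nonZeroDivisors ?_
    have hinj : IsRegular b := by
      refine isRegular_iff_mem_nonZeroDivisors.2 ?_
      letI := StructureSheaf.stalkAlgebra R p
      exact IsLocalization.map_nonZeroDivisors_le p.asIdeal.primeCompl ((Spec.structureSheaf R).presheaf.stalk p)
        ⟨a, mem_nonZeroDivisors_of_ne_zero ha, rfl⟩
    exact isRegular_iff_mem_nonZeroDivisors.1 hinj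
  have hkey : (f.stalkMap x).hom b =
      (X.presheaf.germ U x hx).hom (X.presheaf.map (homOfLE (le_top : U ≤ ⊤)).op (Coh.toGlobal f a)) := by
    rw [X.presheaf.germ_res_apply (homOfLE (le_top : U ≤ ⊤)) x hx]
    change (f.stalkMap x).hom _ = (X.presheaf.germ ⊤ x trivial).hom
      ((f.appTop).hom ((Scheme.ΓSpecIso (CommRingCat.of R)).inv.hom a))
    exact (ConcreteCategory.congr_hom (Scheme.Hom.germ_stalkMap f ⊤ x trivial) _)
  have hreg := hb
  refine hreg.right_eq_zero_of_smul ?_
  change (f.stalkMap x).hom b • mgerm M hx (g.app U s) = 0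
  rw [hkey]
  exact h1

/-- The fundamental sequence over a DVR. -/
theorem exists_fibre_modification (R : Type u) [CommRing R] [IsDomain R] [IsDiscreteValuationRing R]
    (X : Scheme.{u}) (f : X ⟶ Spec (CommRingCat.of R)) (Xs : Scheme.{u})
    [Xs.Over (Spec (CommRingCat.of (IsLocalRing.ResidueField R)))] (i : Xs ⟶ X)
    (hsq : IsPullback i (Xs ↘ Spec (CommRingCat.of (IsLocalRing.ResidueField R))) f
      (Spec.map (CommRingCat.ofHom (IsLocalRing.residue R))))
    (I : X.Modules) (hIf : FlatMod.IsFlatOver f I) (GY : Xs.Modules)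
    (πY : (Scheme.Modules.pullback i).obj I ⟶ GY) [Epi πY] (IY : X.Modules)
    (hIY : IY = kernel ((Scheme.Modules.pullbackPushforwardAdjunction i).unit.app I ≫
      (Scheme.Modules.pushforward i).map πY)) :
    ∃ (α : GY ⟶ (Scheme.Modules.pullback i).obj IY) (β : (Scheme.Modules.pullback i).obj IY ⟶ kernel πY)
      (w : α ≫ β = 0), (ShortComplex.mk α β w).ShortExact := by
  obtain ⟨t, ht⟩ := IsDiscreteValuationRing.exists_irreducible R
  letI : X.Over (Spec (CommRingCat.of R)) := ⟨f⟩
  haveI : IsClosedImmersion i := MorphismProperty.of_isPullback (P := @IsClosedImmersion) hsq.flip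
    (IsClosedImmersion.spec_of_surjective _ (by exact Ideal.Quotient.mk_surjective))
  haveI := mono_smulMod_of_flat f I hIf ht.ne_zero
  subst hIY
  exact exists_modification (A := R) (t := t) i (ker_fibre f i _ hsq ht.maximalIdeal_eq) πY

end Groth.Agent.TFOneLib
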