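import Groth.Agent.TFOneLib.Beta
import Groth.Agent.TFOneLib.Quot
import Groth.Agent.TFOneLib.Setup
import Groth.Agent.KFlat.Pullback

/-!
`β` on elementary modifications.
-/

set_option autoImplicit false
set_option linter.style.haveILetI false
set_option linter.unusedSectionVars false
set_option backward.isDefEq.respectTransparency false

universe u

open CategoryTheory CategoryTheory.Limits AlgebraicGeometry TopologicalSpace Opposite
open Groth.Agent.WeakAssLib (stalkHom stalkHom_injective stalk_exact)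

noncomputable section

namespace Groth.Agent.TFOneLib

variable {X : Scheme.{u}}

/-- Generic points in a union of components contained in a closed set. -/
theorem mem_unionIn {A : Set X} (hA : IsClosed A) {η : X} (hη : η ∈ genericPoints X) :
    η ∈ ⋃₀ {C | C ∈ irreducibleComponents (X : Type u) ∧ C ⊆ A} ↔ η ∈ A :=
  ⟨fun ⟨_, ⟨_, hC⟩, h⟩ => hC h,
    fun h => ⟨closure {η}, ⟨hη, closure_minimal (Set.singleton_subset_iff.2 h) hA⟩, subset_closure rfl⟩⟩

theorem mem_unionNotIn {A : Set X} (hA : IsClosed A) {η : X} (hη : η ∈ genericPoints X) :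
    η ∈ ⋃₀ {C | C ∈ irreducibleComponents (X : Type u) ∧ ¬ C ⊆ A} ↔ η ∉ A := by
  refine ⟨?_, fun h => ⟨closure {η}, ⟨hη, fun hc => h (hc (subset_closure rfl))⟩, subset_closure rfl⟩⟩
  rintro ⟨C, ⟨hC, hCA⟩, hηC⟩ hηA
  obtain ⟨θ, hθ⟩ := QuasiSober.sober hC.1 (isClosed_of_mem_irreducibleComponents C hC)
  have hθη : θ = η := eq_of_specializes hη (hθ.specializes hηC)
  refine hCA ?_
  rw [← hθ.def, hθη]
  exact closure_minimal (Set.singleton_subset_iff.2 hηA) hA

theorem mem_unionInNotIn {A B : Set X} (hA : IsClosed A) (hB : IsClosed B) {η : X} (hη : η ∈ genericPoints X) :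
    η ∈ ⋃₀ {C | C ∈ irreducibleComponents (X : Type u) ∧ C ⊆ A ∧ ¬ C ⊆ B} ↔ η ∈ A ∧ η ∉ B := by
  refine ⟨fun ⟨C, hC, h⟩ => ⟨hC.2.1 h, (mem_unionNotIn hB hη).1 ⟨C, ⟨hC.1, hC.2.2⟩, h⟩⟩, fun h => ?_⟩
  exact ⟨closure {η}, ⟨hη, closure_minimal (Set.singleton_subset_iff.2 h.1) hA,
    fun hc => h.2 (hc (subset_closure rfl))⟩, subset_closure rfl⟩

theorem subset_of_generic {A B : Set X} (hA : VecSt.IsSubcurve X A) (hB : IsClosed B)
    (h : ∀ η ∈ genericPoints X, η ∈ A → η ∈ B) : A ⊆ B := by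
  obtain ⟨𝒮, h𝒮, -, rfl⟩ := hA
  rintro x ⟨C, hC, hx⟩
  obtain ⟨θ, hθ⟩ := QuasiSober.sober (h𝒮 hC).1 (isClosed_of_mem_irreducibleComponents C (h𝒮 hC))
  have hθg : θ ∈ genericPoints X := by
    change closure {θ} ∈ irreducibleComponents (X : Type u)
    rw [hθ.def]; exact h𝒮 hC
  exact (hθ.specializes hx).mem_closed hB (h θ hθg ⟨C, hC, hθ.mem⟩)

theorem isSubcurve_union {A B : Set X} (hA : VecSt.IsSubcurve X A) (hB : VecSt.IsSubcurve X B) :
    VecSt.IsSubcurve X (A ∪ B) := by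
  obtain ⟨𝒮, h𝒮, hne, rfl⟩ := hA
  obtain ⟨𝒯, h𝒯, -, rfl⟩ := hB
  exact ⟨𝒮 ∪ 𝒯, Set.union_subset h𝒮 h𝒯, hne.inl, (Set.sUnion_union _ _).symm⟩

theorem isSubcurve_univ [Nonempty X] : VecSt.IsSubcurve X Set.univ := by
  obtain ⟨x⟩ := ‹Nonempty X›
  refine ⟨irreducibleComponents (X : Type u), subset_rfl,
    ⟨_, irreducibleComponent_mem_irreducibleComponents x⟩, ?_⟩
  exact (sUnion_irreducibleComponents).symm

theorem isSubcurve_or_empty {P : Set X → Prop} :
    VecSt.IsSubcurve X (⋃₀ {C | C ∈ irreducibleComponents (X : Type u) ∧ P C}) ∨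
      ⋃₀ {C | C ∈ irreducibleComponents (X : Type u) ∧ P C} = ∅ := by
  rcases Set.eq_empty_or_nonempty {C | C ∈ irreducibleComponents (X : Type u) ∧ P C} with h | h
  · exact Or.inr (by rw [h, Set.sUnion_empty])
  · exact Or.inl ⟨_, fun C hC => hC.1, h, rfl⟩

variable (k : Type u) [Field k] [X.Over (Spec (CommRingCat.of k))] [IsProper (X ↘ Spec (CommRingCat.of k))]
  [IsLocallyNoetherian X] [IsReduced X]

theorem euler_of_support_empty {G : X.Modules} (hG : Coh.IsCoh G) (h : CohB1.support G = ∅) :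
    Curv2.euler k X G = 0 := by
  have hz : IsZero G := KFlat.isZero_of_stalks G fun x => by
    haveI : Subsingleton (G.presheaf.stalk x) := subsingleton_of_notMem (by rw [h]; exact id)
    exact @ModuleCat.isZero_of_subsingleton _ _ _ ‹_›
  have hz2 : IsZero (G ⊞ G) := (biprod_isZero_iff G G).2 ⟨hz, hz⟩
  have := euler_biprod (k := k) hG hG
  rw [CurveRR.euler_eq_of_iso (hz2.iso hz)] at this
  omega

variable {k}
variable (hpure : ∀ C ∈ irreducibleComponents (X : Type u), topologicalKrullDim C = 1) {r : ℕ} {E : X.Modules}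
  (hE : FlatMod.IsFinLocFreeOfRank r E) {M N GY : X.Modules} {Y : Set X} {πY : M ⟶ GY} {α : GY ⟶ N}
  {β : N ⟶ kernel πY} {w : α ≫ β = 0}
  (hM : TFOne.IsTF1 X M) (hGY : TFOne.IsQuotOn X M Y GY πY) (hS : (ShortComplex.mk α β w).ShortExact)

include hpure hM hGY hS

theorem mod_ineq {T U W : Set X} {GT GU GW : X.Modules} {πT : N ⟶ GT} {πU : M ⟶ GU} {πW : M ⟶ GW}
    (hGT : TFOne.IsQuotOn X N T GT πT) (hGU : TFOne.IsQuotOn X M U GU πU) (hGW : TFOne.IsQuotOn X M W GW πW)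
    (hU : ∀ η ∈ genericPoints X, (η ∈ U ↔ η ∈ Y ∨ η ∈ T))
    (hW : ∀ η ∈ genericPoints X, (η ∈ W ↔ η ∈ Y ∧ η ∈ T)) :
    Curv2.euler k X GW + Curv2.euler k X GU ≤ Curv2.euler k X GT + Curv2.euler k X GY := by
  have hdim := dim_le_one hpure
  haveI := hS.epi_g
  obtain ⟨G', Q, π', q, hG', hq, hQ, hgG, hgQ, e₁⟩ := mod_image k hM hGY hS hGT
  obtain ⟨H, v, hH, hgH, e₂⟩ := mod_sub k hM hGY hS hGU fun η hη h => (hU η hη).2 (Or.inl h)
  haveI := hq
  haveI : Epi (β ≫ q) := epi_comp _ _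
  have h1 := euler_quot_eq k hdim hM.2.2 hG' hGW fun η hη => by rw [hgG η hη, hW η hη]
  have h2 := euler_quot_le k hdim (mod_isTF1 hM hGY hS).2.2 (β ≫ q) hQ hH fun η hη => by
    rw [hgQ η hη, hgH η hη, hU η hη]
    tauto
  omega

theorem mod_euler_sub {U V : Set X} {GU GV : X.Modules} {πU : M ⟶ GU} {πV : N ⟶ GV}
    (hGU : TFOne.IsQuotOn X M U GU πU) (hGV : TFOne.IsQuotOn X N V GV πV)
    (hU : ∀ η ∈ genericPoints X, η ∈ Y → η ∈ U)
    (hV : ∀ η ∈ genericPoints X, (η ∈ V ↔ η ∈ U ∧ η ∉ Y)) :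
    Curv2.euler k X GU = Curv2.euler k X GY + Curv2.euler k X GV := by
  obtain ⟨H, v, hH, hgH, e⟩ := mod_sub k hM hGY hS hGU hU
  rw [e, euler_quot_eq k (dim_le_one hpure) (mod_isTF1 hM hGY hS).2.2 hH hGV fun η hη => by
    rw [hgH η hη, hV η hη]]

/-- On a set containing all components off `Y` the image and the kernel add up exactly. -/
theorem mod_euler_big {T W Y' : Set X} {GT GW G2 : X.Modules} {πT : N ⟶ GT} {πW : M ⟶ GW} {π2 : N ⟶ G2}
    (hGT : TFOne.IsQuotOn X N T GT πT) (hGW : TFOne.IsQuotOn X M W GW πW) (hG2 : TFOne.IsQuotOn X N Y' G2 π2)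
    (hT : ∀ η ∈ genericPoints X, η ∉ Y → η ∈ T) (hW : ∀ η ∈ genericPoints X, (η ∈ W ↔ η ∈ Y ∧ η ∈ T))
    (hY' : ∀ η ∈ genericPoints X, (η ∈ Y' ↔ η ∉ Y)) :
    Curv2.euler k X GT = Curv2.euler k X GW + Curv2.euler k X G2 := by
  have hdim := dim_le_one hpure
  haveI := hS.epi_g
  have hN := mod_isTF1 hM hGY hS
  obtain ⟨G', Q, π', q, hG', hq, hQ, hgG, hgQ, e₁⟩ := mod_image k hM hGY hS hGT
  obtain ⟨hKq, hgK⟩ := mod_kernel_quot hM hGY hS
  haveI := hq
  haveI : Epi (β ≫ q) := epi_comp _ _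
  haveI : Mono q := by
    refine Preadditive.mono_of_kernel_zero (hom_eq_zero hKq.2.1.1 hKq.2.2.1 _ fun η hη m => ?_)
    by_cases hY : η ∈ Y
    · exact ((mod_generic hM hGY hS hη).1 hY).2 _
    · obtain ⟨n, hn⟩ := stalkHom_surjective β η (stalkHom (kernel.ι q) η m)
      have h0 : stalkHom (β ≫ q) η n = 0 := by
        rw [stalkHom_comp, hn, ← stalkHom_comp, kernel.condition, stalkHom_zero]
      rw [← hn, (injective_iff_map_eq_zero _).1 (stalkHom_injective_of_mem hN.2.2 (β ≫ q) hη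
        ((hgQ η hη).2 ⟨hT η hη hY, hY⟩)) n h0, map_zero]
  haveI := isIso_of_mono_of_epi q
  have h1 := euler_quot_eq k hdim hM.2.2 hG' hGW fun η hη => by rw [hgG η hη, hW η hη]
  have h2 := euler_quot_eq k hdim hN.2.2 hKq hG2 fun η hη => by rw [hgK η hη, hY' η hη]
  have h3 := CurveRR.euler_eq_of_iso (k := k) (asIso q)
  omega

/-- Decomposition at `Y`. -/
theorem mod_decomp_iff {Y' : Set X} {G1 G2 : X.Modules} {π1 : N ⟶ G1} {π2 : N ⟶ G2}
    (hG1 : TFOne.IsQuotOn X N Y G1 π1) (hG2 : TFOne.IsQuotOn X N Y' G2 π2)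
    (hY' : ∀ η ∈ genericPoints X, (η ∈ Y' ↔ η ∉ Y)) :
    Curv2.euler k X G1 = Curv2.euler k X GY ↔ IsIso (biprod.lift π1 π2) := by
  have hdim := dim_le_one hpure
  have hN := mod_isTF1 hM hGY hS
  haveI := hG1.1; haveI := hG2.1
  obtain ⟨hKq, hgK⟩ := mod_kernel_quot hM hGY hS
  have e₁ := CurveRR.euler_add (k := k) hS hGY.2.1 hN.1 hKq.2.1
  have e₂ := euler_quot_eq k hdim hN.2.2 hKq hG2 fun η hη => by rw [hgK η hη, hY' η hη]
  have e₃ := euler_biprod (k := k) hG1.2.1 hG2.2.1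
  simp only at e₁
  let φ := biprod.lift π1 π2
  constructor
  · intro h
    haveI : Mono φ := by
      refine Preadditive.mono_of_kernel_zero (hom_eq_zero hN.1.1 hN.2.1 _ fun η hη m => ?_)
      have h0 : stalkHom φ η (stalkHom (kernel.ι φ) η m) = 0 := by
        rw [← stalkHom_comp, kernel.condition, stalkHom_zero]
      by_cases hY : η ∈ Y
      · refine (injective_iff_map_eq_zero _).1 (stalkHom_injective_of_quot hN.2.2 hG1 hη hY) _ ?_
        rw [← biprod.lift_fst π1 π2, stalkHom_comp]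
        exact (congrArg _ h0).trans (map_zero _)
      · refine (injective_iff_map_eq_zero _).1 (stalkHom_injective_of_quot hN.2.2 hG2 hη ((hY' η hη).2 hY)) _ ?_
        rw [← biprod.lift_snd π1 π2, stalkHom_comp]
        exact (congrArg _ h0).trans (map_zero _)
    have hB := CurveRR.isCoh_biprod2 hG1.2.1 hG2.2.1
    have hC : Coh.IsCoh (cokernel φ) := Groth.Agent.QC.isCoh_cokernel hN.1.1 hB φ
    have hS' : (ShortComplex.mk φ (cokernel.π φ) (cokernel.condition φ)).ShortExact :=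
      { exact := ShortComplex.exact_cokernel φ }
    have e₄ := CurveRR.euler_add (k := k) hS' hN.1 hB hC
    simp only at e₄
    have hz := (euler_torsion (k := k) hdim hC fun η hη => ⟨fun a b => ?_⟩).2 (by omega)
    · haveI : Epi φ := Preadditive.epi_of_isZero_cokernel φ hz
      exact isIso_of_mono_of_epi φ
    · suffices hall : ∀ c, (c : (cokernel φ).presheaf.stalk η) = 0 from (hall a).trans (hall b).symm
      intro c
      obtain ⟨d, rfl⟩ := stalkHom_surjective (cokernel.π φ) η c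
      suffices hd : ∃ n, stalkHom φ η n = d by
        obtain ⟨n, rfl⟩ := hd
        rw [← stalkHom_comp, cokernel.condition, stalkHom_zero]
      by_cases hY : η ∈ Y
      · obtain ⟨n, hn⟩ := stalkHom_surjective π1 η (stalkHom (biprod.fst : G1 ⊞ G2 ⟶ G1) η d)
        refine ⟨n, stalk_biprod_ext _ _ ?_ ?_⟩
        · rw [← stalkHom_comp, biprod.lift_fst, hn]
        · haveI := subsingleton_of_notMem (G := G2) (x := η)
            (by rw [hG2.2.2.2]; exact fun h' => (hY' η hη).1 h' hY)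
          exact Subsingleton.elim _ _
      · obtain ⟨n, hn⟩ := stalkHom_surjective π2 η (stalkHom (biprod.snd : G1 ⊞ G2 ⟶ G2) η d)
        refine ⟨n, stalk_biprod_ext _ _ ?_ ?_⟩
        · haveI := subsingleton_of_notMem (G := G1) (x := η) (by rw [hG1.2.2.2]; exact hY)
          exact Subsingleton.elim _ _
        · rw [← stalkHom_comp, biprod.lift_snd, hn]
  · intro h
    have e₅ := CurveRR.euler_eq_of_iso (k := k) (asIso φ)
    omega

end Groth.Agent.TFOneLib
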