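import Groth.Agent.TFOneLib.Family

/-!
Values of `β` on the whole curve, on the empty set, and under semistability.
-/

set_option autoImplicit false
set_option linter.style.haveILetI false
set_option linter.unusedSectionVars false
set_option backward.isDefEq.respectTransparency false

universe u

open CategoryTheory CategoryTheory.Limits AlgebraicGeometry TopologicalSpace Opposite

noncomputable section

namespace Groth.Agent.TFOneLib

theorem isClosed_subcurve {X : Scheme.{u}} [NoetherianSpace X] {P : Set X → Prop} :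
    IsClosed (⋃₀ {C | C ∈ irreducibleComponents (X : Type u) ∧ P C}) := by
  rw [Set.sUnion_eq_biUnion]
  exact (NoetherianSpace.finite_irreducibleComponents.subset fun C hC => hC.1).isClosed_biUnion
    fun C hC => isClosed_of_mem_irreducibleComponents C hC.1

theorem exists_quot_sub {X : Scheme.{u}} [IsLocallyNoetherian X] [IsReduced X] [NoetherianSpace X] {M : X.Modules}
    (hM : TFOne.IsTF1 X M) {T : Set X} (hT : VecSt.IsSubcurve X T ∨ T = ∅) :
    ∃ (G : X.Modules) (π : M ⟶ G), TFOne.IsQuotOn X M T G π := by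
  rcases hT with ⟨𝒮, h𝒮, -, h⟩ | h
  · exact exists_quot hM h𝒮 h
  · exact exists_quot hM (𝒮 := ∅) (Set.empty_subset _) (h.trans Set.sUnion_empty.symm)

variable {k : Type u} [Field k] {X : Scheme.{u}} [X.Over (Spec (CommRingCat.of k))]
  [IsProper (X ↘ Spec (CommRingCat.of k))] [IsLocallyNoetherian X] [IsReduced X]
  (hpure : ∀ C ∈ irreducibleComponents (X : Type u), topologicalKrullDim C = 1) {r : ℕ} {E M : X.Modules}
  (hE : FlatMod.IsFinLocFreeOfRank r E)

include hpure hE

theorem rBeta_eq_zero_of_empty {T : Set X} (hT : IsClosed T) (hTe : T = ∅) {G : X.Modules} {π : M ⟶ G}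
    (hG : TFOne.IsQuotOn X M T G π) : TFOne.rBeta X k (X ↘ Spec (CommRingCat.of k)) T hT E r G = 0 := by
  rw [rBeta_eq k hpure hE, euler_of_support_empty k hG.2.1 (hG.2.2.2.trans hTe),
    dsum_eq_zero k fun η _ h => by rw [hTe] at h; exact h]
  simp

theorem rBeta_eq_zero_of_univ (hM : TFOne.IsTF1 X M) {d : ℤ} (hχ : Curv2.euler k X M = d)
    (hEd : Curv2.deg k X E r = -(r : ℤ) * d) {T : Set X} (hT : IsClosed T)
    (hTu : ∀ η ∈ genericPoints X, η ∈ T) {G : X.Modules} {π : M ⟶ G} (hG : TFOne.IsQuotOn X M T G π) :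
    TFOne.rBeta X k (X ↘ Spec (CommRingCat.of k)) T hT E r G = 0 := by
  haveI := hG.1
  have hid : TFOne.IsQuotOn X M (CohB1.support M) M (𝟙 M) := ⟨inferInstance, hM.1, hM.2.1, rfl⟩
  have h1 := euler_quot_eq k (dim_le_one hpure) hM.2.2 hG hid fun η hη =>
    ⟨fun _ => mem_of_injective hM.2.2 (𝟙 M) hη fun a b h => by rwa [stalkHom_id, stalkHom_id] at h,
      fun _ => hTu η hη⟩
  rw [rBeta_eq k hpure hE, dsum_congr k (T := Set.univ) fun η hη => ⟨fun _ => trivial, fun _ => hTu η hη⟩,
    ← deg_eq_dsum_univ k hpure hE, hEd, h1, hχ]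
  ring

/-- Under semistability `β` is nonnegative on every union of components. -/
theorem rBeta_nonneg {d : ℤ} (hχ : Curv2.euler k X M = d) (hEd : Curv2.deg k X E r = -(r : ℤ) * d)
    (hss : TFOne.IsSemistable X k (X ↘ Spec (CommRingCat.of k)) M E r) {T : Set X} (hT : IsClosed T)
    (hTs : VecSt.IsSubcurve X T ∨ T = ∅) {G : X.Modules} {π : M ⟶ G} (hG : TFOne.IsQuotOn X M T G π) :
    0 ≤ TFOne.rBeta X k (X ↘ Spec (CommRingCat.of k)) T hT E r G := by
  rcases hTs with hs | he
  · by_cases hu : T = Set.univ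
    · exact (rBeta_eq_zero_of_univ hpure hE hss.1 hχ hEd hT (fun η _ => hu ▸ trivial) hG).ge
    · exact hss.2 T hT hs hu G π hG
  · exact (rBeta_eq_zero_of_empty hpure hE hT he hG).ge

end Groth.Agent.TFOneLib
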