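import Groth.Agent.TFOneLib.Stable
import Groth.Agent.TFOneLib.Split
import Groth.Agent.SupportLib.Unit

/-!
Torsion-free quotients on a subcurve, seen on the subcurve.
-/

set_option autoImplicit false
set_option linter.style.haveILetI false
set_option linter.unusedSectionVars false
set_option backward.isDefEq.respectTransparency false

universe u

open CategoryTheory CategoryTheory.Limits AlgebraicGeometry TopologicalSpace Opposite
open Groth.Agent.WeakAssLib (mgerm mgerm_res mgerm_smul stalkHom stalkHom_germ stalkHom_smul stalkHom_injective)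
open Groth.Agent.QC (res)

noncomputable section

namespace Groth.Agent.TFOneLib

variable {X : Scheme.{u}} [IsLocallyNoetherian X] [IsReduced X] [NoetherianSpace X] {Y : Set X} (hY : IsClosed Y)

/-- A torsion-free module supported on `Y` is killed by the ideal of `Y`. -/
theorem isIso_unit_of_quot {M GY : X.Modules} {πY : M ⟶ GY} (hGY : TFOne.IsQuotOn X M Y GY πY) :
    IsIso ((Scheme.Modules.pullbackPushforwardAdjunction (VecSt.subschι X Y hY)).unit.app GY) := by
  haveI : GY.IsQuasicoherent := hGY.2.1.1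
  refine (SupportLib.isIso_unit_iff _ GY).2 fun U a ha s => section_eq_zero hGY.2.2.1 _ fun η hη hηU => ?_
  rw [mgerm_smul]
  by_cases hηY : η ∈ Y
  · obtain ⟨t, rfl⟩ := (range_subschι Y hY).ge hηY
    letI := (isField_stalk hη).toField
    rw [Scheme.Hom.ker_apply, RingHom.mem_ker] at ha
    have h0 : ((VecSt.subschι X Y hY).stalkMap t).hom ((X.presheaf.germ U.1 _ hηU).hom a) = 0 := by
      refine (ConcreteCategory.congr_hom (Scheme.Hom.germ_stalkMap (VecSt.subschι X Y hY) U.1 t hηU) a).trans ?_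
      rw [CommRingCat.comp_apply, ha, map_zero]
    rw [((VecSt.subschι X Y hY).stalkMap t).hom.injective (h0.trans (map_zero _).symm), zero_smul]
  · rw [stalk_eq_zero (by rw [hGY.2.2.2]; exact hηY) (mgerm GY hηU s), smul_zero]

variable (hYs : VecSt.IsSubcurve X Y)

include hYs in
theorem generic_image {η' : VecSt.subsch X Y hY} (hη' : η' ∈ genericPoints (VecSt.subsch X Y hY)) :
    VecSt.subschι X Y hY η' ∈ genericPoints X := by
  obtain ⟨𝒮, h𝒮, -, hYeq⟩ := hYs
  obtain ⟨C, hC, hηC⟩ := hYeq.le ((range_subschι Y hY).le ⟨η', rfl⟩)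
  obtain ⟨θ, hθ⟩ := QuasiSober.sober (h𝒮 hC).1 (isClosed_of_mem_irreducibleComponents C (h𝒮 hC))
  have hθg : θ ∈ genericPoints X := by
    change closure {θ} ∈ irreducibleComponents (X : Type u)
    rw [hθ.def]; exact h𝒮 hC
  obtain ⟨θ', hθ'⟩ := (range_subschι Y hY).ge (hYeq.ge ⟨C, hC, hθ.mem⟩)
  have hsp : θ' ⤳ η' := ((VecSt.subschι X Y hY).isClosedEmbedding.isInducing.specializes_iff).1
    (show VecSt.subschι X Y hY θ' ⤳ VecSt.subschι X Y hY η' from hθ' ▸ hθ.specializes hηC)
  rw [← eq_of_specializes hη' hsp]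
  exact hθ'.symm ▸ hθg

theorem generic_preimage {t : VecSt.subsch X Y hY} (ht : VecSt.subschι X Y hY t ∈ genericPoints X) :
    t ∈ genericPoints (VecSt.subsch X Y hY) := by
  obtain ⟨θ, hθ, hs⟩ := exists_generic t
  have := eq_of_specializes ht (hs.map (VecSt.subschι X Y hY).continuous)
  rwa [← (VecSt.subschι X Y hY).isClosedEmbedding.injective this]

variable [IsLocallyNoetherian (VecSt.subsch X Y hY)] [IsReduced (VecSt.subsch X Y hY)]

include hYs in
/-- The pushforward of a torsion-free module on `Y` is torsion-free. -/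
theorem isTorsionFree_push {G : (VecSt.subsch X Y hY).Modules} (hGq : Coh.IsQCoh G) (hG : TorSh.IsTorsionFree G) :
    TorSh.IsTorsionFree ((Coh.push (VecSt.subschι X Y hY)).obj G) := by
  haveI : G.IsQuasicoherent := hGq
  refine isTorsionFree_of_sep fun V s hs => ?_
  refine section_eq_zero (X := VecSt.subsch X Y hY) (G := G) (U := VecSt.subschι X Y hY ⁻¹ᵁ V) hG s
    fun η' hη' hη'V => ?_
  obtain ⟨W, hW, i, i', hWe⟩ := TopCat.Presheaf.germ_eq ((Coh.push (VecSt.subschι X Y hY)).obj G).presheaf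
    (VecSt.subschι X Y hY η') hη'V hη'V s 0
    ((hs _ (generic_image hY hYs hη') hη'V).trans (map_zero _).symm)
  rw [← mgerm_res G (show VecSt.subschι X Y hY ⁻¹ᵁ W ≤ VecSt.subschι X Y hY ⁻¹ᵁ V from fun y hy => leOfHom i hy)
    hW s]
  exact (congrArg (mgerm G (U := VecSt.subschι X Y hY ⁻¹ᵁ W) hW) (hWe.trans (map_zero _))).trans (map_zero _)

include hYs in
/-- A torsion-free module on `X` isomorphic to a pushforward from `Y` is torsion-free on `Y`. -/
theorem isTorsionFree_of_push [NoetherianSpace (VecSt.subsch X Y hY)] {F : (VecSt.subsch X Y hY).Modules}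
    (hq : Coh.IsQCoh ((Coh.push (VecSt.subschι X Y hY)).obj F))
    (hF : TorSh.IsTorsionFree ((Coh.push (VecSt.subschι X Y hY)).obj F)) : TorSh.IsTorsionFree F := by
  haveI : ((Coh.push (VecSt.subschι X Y hY)).obj F).IsQuasicoherent := hq
  let ι := VecSt.subschι X Y hY
  refine isTorsionFree_of_sep fun V' s hs => ?_
  obtain ⟨U₀, hU₀, hUV⟩ := ι.isClosedEmbedding.isInducing.isOpen_iff.1 V'.2
  let U : X.Opens := ⟨U₀, hU₀⟩
  obtain rfl : V' = ι ⁻¹ᵁ U := TopologicalSpace.Opens.ext hUV.symm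
  refine section_eq_zero (X := X) (G := (Coh.push ι).obj F) (U := U) hF s fun η hη hηU => ?_
  by_cases hr : η ∈ Set.range ι
  · obtain ⟨t, rfl⟩ := hr
    refine (KFlat.pushStalk_bijective ι t F).1 ?_
    rw [map_zero]
    exact (KFlat.pushStalk_germ ι t F U hηU s).trans (hs t (generic_preimage hY hη) hηU)
  · exact @Subsingleton.elim _ (KFlat.subsingleton_stalk_push ι F hr) _ _

include hYs in
/-- The quotient on `Y` is torsion-free of rank one on `Y`. -/
theorem isTF1_restrict [NoetherianSpace (VecSt.subsch X Y hY)] {M GY : X.Modules} (hM : TFOne.IsTF1 X M)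
    {πY : M ⟶ GY} (hGY : TFOne.IsQuotOn X M Y GY πY) :
    TFOne.IsTF1 (VecSt.subsch X Y hY) ((Scheme.Modules.pullback (VecSt.subschι X Y hY)).obj GY) := by
  let ι := VecSt.subschι X Y hY
  let F := (Scheme.Modules.pullback ι).obj GY
  haveI := isIso_unit_of_quot hY hGY
  haveI := hGY.1
  let e : GY ≅ (Coh.push ι).obj F := asIso ((Scheme.Modules.pullbackPushforwardAdjunction ι).unit.app GY)
  have hq : Coh.IsQCoh ((Coh.push ι).obj F) := (K0Coh.isCoh_of_iso e hGY.2.1).1
  have htf : TorSh.IsTorsionFree ((Coh.push ι).obj F) := isTorsionFree_of_mono e.inv hGY.2.2.1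
  refine ⟨Groth.Agent.QC.isCoh_pullback (f := ι) hGY.2.1, isTorsionFree_of_push hY hYs hq htf,
    fun t ht => ?_⟩
  have hη := generic_image hY hYs ht
  obtain ⟨e₀⟩ := hM.2.2 _ hη
  letI := (isField_stalk hη).toField
  haveI : Epi (πY ≫ e.hom) := epi_comp _ _
  have hGs : TFOne.IsQuotOn X M Y ((Coh.push ι).obj F) (πY ≫ e.hom) := by
    refine ⟨inferInstance, K0Coh.isCoh_of_iso e hGY.2.1, htf, ?_⟩
    ext x
    refine not_congr ?_ |>.trans (Set.ext_iff.1 hGY.2.2.2 x)
    exact ((DerSch.stalkFunctor X x).mapIso e).toLinearEquiv.toEquiv.subsingleton_congr.symm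
  let φ := KFlat.pushStalk ι t F
  have hφ := KFlat.pushStalk_bijective ι t F
  let σ := (ι.stalkMap t).hom
  have hσ : Function.Bijective σ := ⟨σ.injective, ι.stalkMap_surjective t⟩
  have hπb : Function.Bijective (stalkHom (πY ≫ e.hom) (ι t)) :=
    ⟨stalkHom_injective_of_quot hM.2.2 hGs hη ((range_subschι Y hY).le ⟨t, rfl⟩), stalkHom_surjective _ _⟩
  let L := LinearMap.toSpanSingleton ((VecSt.subsch X Y hY).presheaf.stalk t) (F.presheaf.stalk t)
    (φ (stalkHom (πY ≫ e.hom) (ι t) (e₀.symm 1)))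
  have hL : ∀ r : X.presheaf.stalk (ι t), L (σ r) = φ (stalkHom (πY ≫ e.hom) (ι t) (e₀.symm r)) := fun r => by
    change σ r • φ (stalkHom (πY ≫ e.hom) (ι t) (e₀.symm 1)) = _
    refine (KFlat.pushStalk_smul ι t F r (stalkHom (πY ≫ e.hom) (ι t) (e₀.symm 1))).symm.trans (congrArg φ ?_)
    change r • stalkHom (πY ≫ e.hom) (ι t) (e₀.symm 1) = _
    rw [← stalkHom_smul, ← map_smul, smul_eq_mul, mul_one]
  have hLb : Function.Bijective L := by
    refine ⟨fun p q hpq => ?_, fun v => ?_⟩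
    · obtain ⟨p, rfl⟩ := hσ.2 p
      obtain ⟨q, rfl⟩ := hσ.2 q
      rw [hL, hL] at hpq
      exact congrArg σ (e₀.symm.injective (hπb.1 (hφ.1 hpq)))
    · obtain ⟨g, rfl⟩ := hφ.2 v
      obtain ⟨m, rfl⟩ := hπb.2 g
      exact ⟨σ (e₀ m), by rw [hL, e₀.symm_apply_apply]⟩
  exact ⟨(LinearEquiv.ofBijective L hLb).symm⟩

variable {k : Type u} [Field k] [X.Over (Spec (CommRingCat.of k))] [IsProper (X ↘ Spec (CommRingCat.of k))]

include hYs in
/-- Semistability passes to the quotient on a subcurve. -/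
theorem isSemistable_restrict [NoetherianSpace (VecSt.subsch X Y hY)]
    (hpure : ∀ C ∈ irreducibleComponents (X : Type u), topologicalKrullDim C = 1) {r : ℕ} {E M GY : X.Modules}
    (hE : FlatMod.IsFinLocFreeOfRank r E) {d : ℤ} (hχ : Curv2.euler k X M = d)
    (hEd : Curv2.deg k X E r = -(r : ℤ) * d)
    (hss : TFOne.IsSemistable X k (X ↘ Spec (CommRingCat.of k)) M E r) {πY : M ⟶ GY}
    (hGY : TFOne.IsQuotOn X M Y GY πY) :
    TFOne.IsSemistable (VecSt.subsch X Y hY) k (VecSt.subschι X Y hY ≫ (X ↘ Spec (CommRingCat.of k)))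
      ((Scheme.Modules.pullback (VecSt.subschι X Y hY)).obj GY)
      ((Scheme.Modules.pullback (VecSt.subschι X Y hY)).obj E) r := by
  refine ⟨isTF1_restrict hY hYs hss.1 hGY, fun Z' hZ' hZs _ G π hG => ?_⟩
  let ι := VecSt.subschι X Y hY
  letI : (VecSt.subsch X Y hY).Over (Spec (CommRingCat.of k)) := ⟨ι ≫ (X ↘ Spec (CommRingCat.of k))⟩
  haveI := isIso_unit_of_quot hY hGY
  haveI := hGY.1
  haveI := hG.1
  haveI := GrothSS.preservesFiniteColimits_push ι
  let Z : Set X := ι '' Z'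
  have hZc : IsClosed Z := ι.isClosedEmbedding.isClosedMap _ hZ'
  have hZs' : VecSt.IsSubcurve X Z := by
    obtain ⟨𝒮, h𝒮, hne, hZeq⟩ := hZs
    refine ⟨(fun C => ι '' C) '' 𝒮, ?_, hne.image _, ?_⟩
    · rintro _ ⟨C, hC, rfl⟩
      obtain ⟨θ, hθ⟩ := QuasiSober.sober (h𝒮 hC).1 (isClosed_of_mem_irreducibleComponents C (h𝒮 hC))
      have hθg : θ ∈ genericPoints (VecSt.subsch X Y hY) := by
        change closure {θ} ∈ irreducibleComponents _
        rw [hθ.def]; exact h𝒮 hC
      have hc : ι '' C = closure {ι θ} := by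
        rw [← hθ.def, ← ι.isClosedEmbedding.closure_image_eq, Set.image_singleton]
      change ι '' C ∈ irreducibleComponents (X : Type u)
      rw [hc]
      exact generic_image hY hYs hθg
    · change ι '' Z' = _
      rw [hZeq, Set.sUnion_image, Set.image_sUnion]
      simp
  let π₁ : M ⟶ (Coh.push ι).obj G := πY ≫
    (Scheme.Modules.pullbackPushforwardAdjunction ι).unit.app GY ≫ (Scheme.Modules.pushforward ι).map π
  have hπ₁ : Epi π₁ := epi_comp _ _
  haveI : G.IsQuasicoherent := hG.2.1.1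
  have hG₁ : TFOne.IsQuotOn X M Z ((Coh.push ι).obj G) π₁ := by
    refine ⟨hπ₁, QC.isCoh_pushforward_of_isFinite ι hG.2.1.2, isTorsionFree_push hY hYs hG.2.1.1 hG.2.2.1, ?_⟩
    ext x
    constructor
    · intro hx
      by_cases hr : x ∈ Set.range ι
      · obtain ⟨t, rfl⟩ := hr
        refine ⟨t, ?_, rfl⟩
        rw [← hG.2.2.2]
        intro hsub
        haveI : Subsingleton (KFlat.PStalk (DCoh.toP.obj G) t) := hsub
        exact hx (KFlat.pushStalk_bijective ι t G).1.subsingleton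
      · exact absurd (KFlat.subsingleton_stalk_push ι G hr) hx
    · rintro ⟨t, ht, rfl⟩ hsub
      rw [← hG.2.2.2] at ht
      haveI : Subsingleton (KFlat.PStalk (DCoh.toP.obj ((Scheme.Modules.pushforward ι).obj G)) (ι t)) := hsub
      exact ht (KFlat.pushStalk_bijective ι t G).2.subsingleton
  have hb := rBeta_nonneg hpure hE hχ hEd hss hZc (Or.inl hZs') hG₁
  refine le_of_le_of_eq hb ?_
  rw [rBeta_eq k hpure hE]
  unfold TFOne.rBeta
  letI : (VecSt.subsch (VecSt.subsch X Y hY) Z' hZ').Over (Spec (CommRingCat.of k)) :=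
    ⟨VecSt.subschι (VecSt.subsch X Y hY) Z' hZ' ≫ ι ≫ (X ↘ Spec (CommRingCat.of k))⟩
  have h1 := CurveRR.Multi.euler_push k ι G hG.2.1.1
  have h2 := deg_closed k hpure hE (VecSt.subschι (VecSt.subsch X Y hY) Z' hZ' ≫ ι)
  have hrange : Set.range (VecSt.subschι (VecSt.subsch X Y hY) Z' hZ' ≫ ι) = Z := by
    rw [Scheme.Hom.comp_base, TopCat.coe_comp, Set.range_comp, range_subschι]
  rw [hrange] at h2
  rw [← h2, ← h1]
  congr 1
  unfold Curv2.deg
  exact congrArg (fun z : ℤ => z - (r : ℤ) * Curv2.euler k (VecSt.subsch (VecSt.subsch X Y hY) Z' hZ')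
    (Coh.structureModule (VecSt.subsch (VecSt.subsch X Y hY) Z' hZ'))) (CurveRR.euler_eq_of_iso ((Scheme.Modules.pullbackComp
      (VecSt.subschι (VecSt.subsch X Y hY) Z' hZ') ι).app E).symm)

end Groth.Agent.TFOneLib
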