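import Groth.Agent.TFOneLib.Semi
import Groth.Agent.S18848
import Groth.Agent.W7Exist.Tricky

/-!
The modification algorithm making an extension simple.
-/

set_option autoImplicit false
set_option linter.style.haveILetI false
set_option linter.unusedSectionVars false
set_option backward.isDefEq.respectTransparency false
set_option backward.isDefEq.respectTransparency.types false

universe u

open CategoryTheory CategoryTheory.Limits AlgebraicGeometry TopologicalSpace
open Groth.Agent.WeakAssLib (stalkHom stalkHom_injective)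

noncomputable section

namespace Groth.Agent.TFOneLib

section Indicator

variable {X : Scheme.{u}} [IsLocallyNoetherian X] [IsReduced X]

/-- An endomorphism which is the identity at the generic points in `T` and zero at the others. -/
def Ind {M : X.Modules} (e : M ⟶ M) (T : Set X) : Prop :=
  ∀ η ∈ genericPoints X, (η ∈ T → ∀ m, stalkHom e η m = m) ∧ (η ∉ T → ∀ m, stalkHom e η m = 0)

theorem ind_of_iso {M A B : X.Modules} (hM : TFOne.IsRkOne X M) {Y : Set X} {πY : M ⟶ A}
    (hA : TFOne.IsQuotOn X M Y A πY) (πZ : M ⟶ B) [IsIso (biprod.lift πY πZ)] : ∃ e : M ⟶ M, Ind e Y := by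
  let L := biprod.lift πY πZ
  refine ⟨πY ≫ biprod.inl ≫ inv L, fun η hη => ?_⟩
  have h1 : (πY ≫ biprod.inl ≫ inv L) ≫ πY = πY := by
    rw [Category.assoc, Category.assoc, show inv L ≫ πY = biprod.fst by rw [IsIso.inv_comp_eq, biprod.lift_fst],
      biprod.inl_fst, Category.comp_id]
  have h2 : (πY ≫ biprod.inl ≫ inv L) ≫ πZ = 0 := by
    rw [Category.assoc, Category.assoc, show inv L ≫ πZ = biprod.snd by rw [IsIso.inv_comp_eq, biprod.lift_snd],
      biprod.inl_snd, comp_zero]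
  have k1 : ∀ m, stalkHom πY η (stalkHom (πY ≫ biprod.inl ≫ inv L) η m) = stalkHom πY η m := fun m => by
    rw [← stalkHom_comp, h1]
  refine ⟨fun hηY m => stalkHom_injective_of_quot hM hA hη hηY (k1 m), fun hηY m => ?_⟩
  refine stalkHom_injective L η ?_
  rw [map_zero]
  refine stalk_biprod_ext _ _ ?_ ?_
  · rw [map_zero, ← stalkHom_comp L, biprod.lift_fst, k1]
    exact stalk_eq_zero (by rw [hA.2.2.2]; exact hηY) _
  · rw [map_zero, ← stalkHom_comp L, biprod.lift_snd, ← stalkHom_comp, h2, stalkHom_zero]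

theorem ind_compl {M : X.Modules} {e : M ⟶ M} {Y Y' : Set X} (hY' : ∀ η ∈ genericPoints X, (η ∈ Y' ↔ η ∉ Y))
    (he : Ind e Y) : Ind (𝟙 M - e) Y' := fun η hη =>
  ⟨fun h m => by rw [stalkHom_sub, stalkHom_id, (he η hη).2 ((hY' η hη).1 h), sub_zero],
    fun h m => by rw [stalkHom_sub, stalkHom_id, (he η hη).1 (not_not.1 fun hn => h ((hY' η hη).2 hn)), sub_self]⟩

/-- An indicator endomorphism decomposes the module. -/
theorem iso_of_ind {M A B : X.Modules} (hM : TFOne.IsTF1 X M) {Y Y' : Set X}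
    (hY' : ∀ η ∈ genericPoints X, (η ∈ Y' ↔ η ∉ Y)) {πY : M ⟶ A} {πY' : M ⟶ B}
    (hA : TFOne.IsQuotOn X M Y A πY) (hB : TFOne.IsQuotOn X M Y' B πY') {e : M ⟶ M} (he : Ind e Y) :
    IsIso (biprod.lift πY πY') := by
  have hf : ∀ {Z : Set X} {C : X.Modules} {π : M ⟶ C} {e : M ⟶ M}, TFOne.IsQuotOn X M Z C π → Ind e Z →
      kernel.ι π ≫ e = 0 ∧ e ≫ π = π := by
    intro Z C π e hC he
    refine ⟨hom_eq_zero hM.1.1 hM.2.1 _ fun η hη m => ?_, sub_eq_zero.1 (hom_eq_zero hC.2.1.1 hC.2.2.1 _ fun η hη m => ?_)⟩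
    · rw [stalkHom_comp]
      by_cases h : η ∈ Z
      · rw [(he η hη).1 h]
        refine (injective_iff_map_eq_zero _).1 (stalkHom_injective_of_quot hM.2.2 hC hη h) _ ?_
        rw [← stalkHom_comp, kernel.condition, stalkHom_zero]
      · exact (he η hη).2 h _
    · by_cases h : η ∈ Z
      · rw [stalkHom_sub, stalkHom_comp, (he η hη).1 h, sub_self]
      · exact stalk_eq_zero (by rw [hC.2.2.2]; exact h) _
  haveI := hA.1
  haveI := hB.1
  obtain ⟨k1, f1⟩ := hf hA he
  obtain ⟨k2, f2⟩ := hf hB (ind_compl hY' he)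
  let s : A ⟶ M := Abelian.epiDesc πY e k1
  let s' : B ⟶ M := Abelian.epiDesc πY' (𝟙 M - e) k2
  have hs : πY ≫ s = e := Abelian.comp_epiDesc _ _ _
  have hs' : πY' ≫ s' = 𝟙 M - e := Abelian.comp_epiDesc _ _ _
  have g1 : (𝟙 M - e) ≫ πY = 0 := by rw [Preadditive.sub_comp, Category.id_comp, f1, sub_self]
  have g2 : e ≫ πY' = 0 := by
    have := f2
    rwa [Preadditive.sub_comp, Category.id_comp, sub_eq_self] at this
  refine ⟨biprod.desc s s', ?_, ?_⟩
  · rw [biprod.lift_desc, hs, hs', add_sub_cancel]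
  · apply biprod.hom_ext' <;> apply biprod.hom_ext <;>
      simp only [Category.assoc, biprod.lift_fst, biprod.lift_snd, biprod.inl_desc_assoc, biprod.inr_desc_assoc,
        Category.comp_id, biprod.inl_fst, biprod.inl_snd, biprod.inr_fst, biprod.inr_snd]
    · rw [← cancel_epi πY, reassoc_of% hs, f1, Category.comp_id]
    · rw [← cancel_epi πY, reassoc_of% hs, g2, comp_zero]
    · rw [← cancel_epi πY', reassoc_of% hs', g1, comp_zero]
    · rw [← cancel_epi πY', reassoc_of% hs', f2, Category.comp_id]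

/-- An indicator on a modification of a decomposed module comes from one on the module. -/
theorem ind_descend {M N A : X.Modules} (hM : TFOne.IsTF1 X M) {Y T : Set X} {πY : M ⟶ A}
    (hA : TFOne.IsQuotOn X M Y A πY) {α : A ⟶ N} {β : N ⟶ kernel πY} {w : α ≫ β = 0}
    (hS : (ShortComplex.mk α β w).ShortExact) {eM : M ⟶ M} (heM : Ind eM Y) {e : N ⟶ N} (he : Ind e T) :
    ∃ e' : M ⟶ M, Ind e' T := by
  haveI : Mono α := hS.mono_f
  haveI : Epi β := hS.epi_g
  haveI := hA.1
  have hk : TorSh.IsTorsionFree (kernel πY) := isTorsionFree_of_mono (kernel.ι πY) hM.2.1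
  have hkq : Coh.IsQCoh (kernel πY) := (QC.isCoh_kernel hM.1 hA.2.1.1 πY).1
  have h0 : α ≫ e ≫ β = 0 := hom_eq_zero hkq hk _ fun η hη v => by
    rw [stalkHom_comp, stalkHom_comp]
    by_cases h : η ∈ T
    · rw [(he η hη).1 h, ← stalkHom_comp, w, stalkHom_zero]
    · rw [(he η hη).2 h, map_zero]
  obtain ⟨a, ha⟩ : ∃ a : A ⟶ A, a ≫ α = α ≫ e :=
    ⟨hS.exact.lift (α ≫ e) (by rw [Category.assoc]; exact h0), hS.exact.lift_f _ _⟩
  obtain ⟨b, hb⟩ : ∃ b : kernel πY ⟶ kernel πY, β ≫ b = e ≫ β :=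
    ⟨hS.exact.desc (e ≫ β) h0, hS.exact.g_desc _ _⟩
  have hke : kernel.ι πY ≫ eM = 0 := hom_eq_zero hM.1.1 hM.2.1 _ fun η hη m => by
    rw [stalkHom_comp]
    by_cases h : η ∈ Y
    · rw [(heM η hη).1 h]
      refine (injective_iff_map_eq_zero _).1 (stalkHom_injective_of_quot hM.2.2 hA hη h) _ ?_
      rw [← stalkHom_comp, kernel.condition, stalkHom_zero]
    · exact (heM η hη).2 h _
  have hfY : eM ≫ πY = πY := sub_eq_zero.1 (hom_eq_zero hA.2.1.1 hA.2.2.1 _ fun η hη m => by
    by_cases h : η ∈ Y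
    · rw [stalkHom_sub, stalkHom_comp, (heM η hη).1 h, sub_self]
    · exact stalk_eq_zero (by rw [hA.2.2.2]; exact h) _)
  let r : M ⟶ kernel πY := kernel.lift πY (𝟙 M - eM)
    (by rw [Preadditive.sub_comp, Category.id_comp, hfY, sub_self])
  let e' : M ⟶ M := (πY ≫ a) ≫ Abelian.epiDesc πY eM hke + r ≫ b ≫ kernel.ι πY
  refine ⟨e', fun η hη => ?_⟩
  have hav : ∀ v, stalkHom α η (stalkHom a η v) = stalkHom e η (stalkHom α η v) := fun v => by
    rw [← stalkHom_comp, ha, stalkHom_comp]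
  have hbv : ∀ n, stalkHom b η (stalkHom β η n) = stalkHom β η (stalkHom e η n) := fun n => by
    rw [← stalkHom_comp, hb, stalkHom_comp]
  have hsπ : ∀ m, stalkHom (Abelian.epiDesc πY eM hke) η (stalkHom πY η m) = stalkHom eM η m := fun m => by
    rw [← stalkHom_comp, Abelian.comp_epiDesc]
  have hval : ∀ m, stalkHom e' η m = stalkHom (Abelian.epiDesc πY eM hke) η (stalkHom a η (stalkHom πY η m)) +
      stalkHom (kernel.ι πY) η (stalkHom b η (stalkHom r η m)) := fun m => by
    simp only [e', stalkHom_add, stalkHom_comp]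
  have hr : ∀ m, stalkHom (kernel.ι πY) η (stalkHom r η m) = m - stalkHom eM η m := fun m => by
    rw [← stalkHom_comp, kernel.lift_ι, stalkHom_sub, stalkHom_id]
  refine ⟨fun h m => ?_, fun h m => ?_⟩
  · have e1 : ∀ v, stalkHom a η v = v := fun v => stalkHom_injective α η (by rw [hav, (he η hη).1 h])
    have e2 : ∀ v, stalkHom b η v = v := fun v => by
      obtain ⟨n, rfl⟩ := stalkHom_surjective β η v
      rw [hbv, (he η hη).1 h]
    rw [hval, e1, e2, hsπ, hr, add_sub_cancel]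
  · have e1 : ∀ v, stalkHom a η v = 0 := fun v => stalkHom_injective α η (by rw [hav, (he η hη).2 h, map_zero])
    have e2 : ∀ v, stalkHom b η v = 0 := fun v => by
      obtain ⟨n, rfl⟩ := stalkHom_surjective β η v
      rw [hbv, (he η hη).2 h, map_zero]
    rw [hval, e1, e2, map_zero, map_zero, add_zero]

end Indicator

variable {R : Type u} [CommRing R] [IsDomain R] [IsDiscreteValuationRing R] {X : Scheme.{u}}
  {f : X ⟶ Spec (CommRingCat.of R)} [Flat f] [IsProper f] {Xs : Scheme.{u}}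
  [Xs.Over (Spec (CommRingCat.of (IsLocalRing.ResidueField R)))] {i : Xs ⟶ X}
  (hsq : IsPullback i (Xs ↘ Spec (CommRingCat.of (IsLocalRing.ResidueField R))) f
    (Spec.map (CommRingCat.ofHom (IsLocalRing.residue R))))
  [IsReduced Xs]
  (hpure : ∀ C ∈ irreducibleComponents (Xs : Type u), topologicalKrullDim C = 1)
  (hgi : ∀ (C : Set Xs) (hC : C ∈ irreducibleComponents (Xs : Type u)), GeometricallyIntegral
    (VecSt.subschι Xs C (isClosed_of_mem_irreducibleComponents C hC) ≫
      (Xs ↘ Spec (CommRingCat.of (IsLocalRing.ResidueField R)))))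
  {Xg : Scheme.{u}} [Xg.Over (Spec (CommRingCat.of (FractionRing R)))] {j : Xg ⟶ X}
  (hgen : IsPullback j (Xg ↘ Spec (CommRingCat.of (FractionRing R))) f
    (Spec.map (CommRingCat.ofHom (algebraMap R (FractionRing R)))))

local notation "κ" => IsLocalRing.ResidueField R
local notation "qs" => Xs ↘ Spec (CommRingCat.of (IsLocalRing.ResidueField R))

section Completion

variable {t : R} (C : Compl f (Xs ↘ Spec (CommRingCat.of (IsLocalRing.ResidueField R))) i t)

/-- A coherent module vanishing on the closed fibre vanishes. -/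
theorem Compl.isZero_of_fibre {K : C.Xh.Modules} (hK : Coh.IsCoh K)
    (h : IsZero ((Scheme.Modules.pullback C.ih).obj K)) : IsZero K := by
  haveI := C.proper
  haveI : Coh.IsQCoh K := hK.1
  refine KFlat.isZero_of_stalks K fun x => @ModuleCat.isZero_of_subsingleton _ _ _ ?_
  by_contra hx
  obtain ⟨x', hx'S, hx'⟩ : IsLocalRing.closedPoint C.A ∈ C.q '' CohB1.support K :=
    (IsLocalRing.specializes_closedPoint (C.q x)).mem_closed (C.q.isClosedMap _ (QC.isClosed_support hK.2))
      ⟨x, hx, rfl⟩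
  obtain ⟨x₀, rfl⟩ : x' ∈ Set.range C.ih := by
    obtain ⟨p, hp, -⟩ := Scheme.Pullback.exists_preimage_pullback (f := C.q) (g := C.c) x'
      (IsLocalRing.closedPoint (IsLocalRing.ResidueField R)) (hx'.trans C.hc.symm)
    refine ⟨C.sqs.isoPullback.inv p, ?_⟩
    rw [← Scheme.Hom.comp_apply, IsPullback.isoPullback_inv_fst, hp]
  have hs : x₀ ∈ CohB1.support ((Scheme.Modules.pullback C.ih).obj K) := by
    rw [SupportLib.support_pullback C.ih K hK.2]
    exact hx'S
  exact hs ⟨fun a b => by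
    rw [← stalkHom_id _ x₀ a, ← stalkHom_id _ x₀ b, h.eq_of_src (𝟙 _) 0, stalkHom_zero, stalkHom_zero]⟩

/-- An isomorphism on the closed fibre onto a module without torsion is an isomorphism. -/
theorem Compl.isIso_of_fibre {M N : C.Xh.Modules} (hM : Coh.IsCoh M) (hN : Coh.IsCoh N) (L : M ⟶ N)
    [Mono (Formal.smulMod C.A N (C.φ t))] [IsIso ((Scheme.Modules.pullback C.ih).map L)] : IsIso L := by
  haveI := C.proper
  haveI := C.closed
  haveI : IsLocallyNoetherian C.Xh := LocallyOfFiniteType.isLocallyNoetherian C.q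
  let P := Scheme.Modules.pullback C.ih
  haveI : Epi L := by
    apply Preadditive.epi_of_isZero_cokernel
    refine C.isZero_of_fibre (QC.isCoh_cokernel hM.1 hN L) ((IsZero.iff_id_eq_zero _).2 ?_)
    have h0 : P.map (cokernel.π L) = 0 := by
      rw [← cancel_epi (P.map L), ← P.map_comp, cokernel.condition, P.map_zero, comp_zero]
    rw [← cancel_epi (P.map (cokernel.π L)), h0, zero_comp, zero_comp]
  haveI : Mono L := by
    apply Preadditive.mono_of_isZero_kernel
    let adj := Scheme.Modules.pullbackPushforwardAdjunction C.ih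
    let K := kernel L
    have h1 : kernel.ι L ≫ adj.unit.app M = 0 := by
      haveI : IsIso ((Scheme.Modules.pushforward C.ih).map (P.map L)) := inferInstance
      rw [← cancel_mono ((Scheme.Modules.pushforward C.ih).map (P.map L)), Category.assoc, zero_comp]
      have := adj.unit.naturality L
      simp only [Functor.id_map, Functor.comp_map] at this
      rw [← this, kernel.condition_assoc, zero_comp]
    haveI := isIso_desc C.ih C.ker M
    refine C.isZero_of_fibre (QC.isCoh_kernel hM hN.1 L) ((IsZero.iff_id_eq_zero _).2 ?_)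
    obtain ⟨l, hl⟩ : ∃ l : K ⟶ kernel (adj.unit.app M), l ≫ kernel.ι _ = kernel.ι L :=
      ⟨kernel.lift _ _ h1, kernel.lift_ι _ _ _⟩
    have hex := exact_unit C.ih C.ker M
    haveI : Epi (kernel.lift (adj.unit.app M) (Formal.smulMod C.A M (C.φ t)) (smulMod_unit C.ih C.ker M)) :=
      hex.epi_kernelLift
    obtain ⟨K', π, hπ, l', hl'⟩ := surjective_up_to_refinements_of_epi
      (kernel.lift (adj.unit.app M) (Formal.smulMod C.A M (C.φ t)) (smulMod_unit C.ih C.ker M)) l
    have h2 : π ≫ kernel.ι L = l' ≫ Formal.smulMod C.A M (C.φ t) := by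
      rw [← hl, reassoc_of% hl', kernel.lift_ι]
    have h3 : l' ≫ L = 0 := by
      rw [← cancel_mono (Formal.smulMod C.A N (C.φ t)), Category.assoc, zero_comp, ← W7Cech.smulMod_natural,
        ← Category.assoc, ← h2, Category.assoc, kernel.condition, comp_zero]
    have h4 : π = kernel.lift L l' h3 ≫ Formal.smulMod C.A K (C.φ t) := by
      rw [← cancel_mono (kernel.ι L), Category.assoc, W7Cech.smulMod_natural, kernel.lift_ι_assoc, h2]
    have h5 : P.map π = 0 := by
      rw [h4, P.map_comp, pullback_smulMod C.ih C.ker, comp_zero]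
    haveI := hπ
    rw [← cancel_epi (P.map π), h5, zero_comp, zero_comp]
  exact isIso_of_mono_of_epi L

include hsq hgen in
/-- Generic simplicity is seen on the completion. -/
theorem Compl.simple_generic {I₀ I : X.Modules} (h : IsGood f i j I₀ I)
    (hg : TFOne.FibSimple (Xg ↘ Spec (CommRingCat.of (FractionRing R))) ((Scheme.Modules.pullback j).obj I₀)) :
    TFOne.IsSimple C.Yo C.Ω C.qo ((Scheme.Modules.pullback (C.u ≫ C.g)).obj I) := by
  obtain ⟨g, χ, hg', sqg, -⟩ := C.exists_generic hsq hgen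
  obtain ⟨e⟩ := h.gen
  exact isSimple_of_iso C.qo
    ((Scheme.Modules.pullback g).mapIso e.symm ≪≫ (Scheme.Modules.pullbackComp g j).app I ≪≫
      (Scheme.Modules.pullbackCongr hg').app I)
    (hg C.Ω _ C.Yo g C.qo sqg)

end Completion

include hsq hpure hgi hgen

variable {I₀ : X.Modules}
  (hg : TFOne.FibSimple (Xg ↘ Spec (CommRingCat.of (FractionRing R))) ((Scheme.Modules.pullback j).obj I₀))

include hg

/-- Not both towers of a decomposition are infinite. -/
theorem false_of_towers (In Jn : ℕ → X.Modules) (hIn : IsGood f i j I₀ (In 0)) {Y Y' : Set Xs}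
    (hYs : VecSt.IsSubcurve Xs Y) (hY's : VecSt.IsSubcurve Xs Y')
    (hY' : ∀ η ∈ genericPoints Xs, (η ∈ Y' ↔ η ∉ Y)) (hY : ∀ η ∈ genericPoints Xs, (η ∈ Y ↔ η ∉ Y'))
    (A A' B B' : ℕ → Xs.Modules)
    (a : ∀ n, (Scheme.Modules.pullback i).obj (In n) ⟶ A n) (a' : ∀ n, (Scheme.Modules.pullback i).obj (In n) ⟶ A' n)
    (b : ∀ n, (Scheme.Modules.pullback i).obj (Jn n) ⟶ B n) (b' : ∀ n, (Scheme.Modules.pullback i).obj (Jn n) ⟶ B' n)
    (hA : ∀ n, TFOne.IsQuotOn Xs ((Scheme.Modules.pullback i).obj (In n)) Y (A n) (a n))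
    (hA' : ∀ n, TFOne.IsQuotOn Xs ((Scheme.Modules.pullback i).obj (In n)) Y' (A' n) (a' n))
    (hB : ∀ n, TFOne.IsQuotOn Xs ((Scheme.Modules.pullback i).obj (Jn n)) Y' (B n) (b n))
    (hB' : ∀ n, TFOne.IsQuotOn Xs ((Scheme.Modules.pullback i).obj (Jn n)) Y (B' n) (b' n))
    (hI : ∀ n, In (n + 1) = kernel (modQ i (a n))) (hJ : ∀ n, Jn (n + 1) = kernel (modQ i (b n)))
    (hdI : ∀ n, IsIso (biprod.lift (a n) (a' n))) (hdJ : ∀ n, IsIso (biprod.lift (b n) (b' n)))
    (h0 : Jn 0 = In 0) : False := by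
  haveI := proper_fibre hsq
  haveI := isClosedImmersion_fibre hsq
  haveI := CurveRR.isNoetherian_of_proper κ Xs
  obtain ⟨t, ht⟩ := IsDiscreteValuationRing.exists_irreducible R
  obtain ⟨C⟩ := exists_compl hsq ht
  haveI := C.proper
  haveI : IsLocallyNoetherian C.Xh := LocallyOfFiniteType.isLocallyNoetherian C.q
  obtain ⟨F, p, hF, hp, hmF, -, eF, heF⟩ :=
    C.exists_quotient In hIn.coh hIn.flat ht hsq hIn.tf Y Y' hY' A A' a a' hA hA' hI hdI
  obtain ⟨F', p', hF', hp', hmF', -, eF', heF'⟩ :=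
    C.exists_quotient Jn (h0 ▸ hIn.coh) (h0 ▸ hIn.flat) ht hsq (h0 ▸ hIn.tf) Y' Y hY B B' b b' hB hB' hJ hdJ
  obtain ⟨J0, hJ0⟩ : ∃ J, J = Jn 0 := ⟨_, rfl⟩
  generalize B 0 = B₀, b 0 = b₀, hB 0 = hb₀ at eF' heF'
  revert p' b₀
  rw [h0]
  intro p' hp' b₀ hb₀ heF'
  haveI := hdI 0
  obtain ⟨eB, heB⟩ := quot_iso hIn.tf.2.2 (hA' 0) hb₀ fun η hη => Iff.rfl
  let M := (Scheme.Modules.pullback C.g).obj (In 0)
  have hM : Coh.IsCoh M := QC.isCoh_pullback C.g hIn.coh
  let L : M ⟶ F ⊞ F' := biprod.lift p p'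
  let P := Scheme.Modules.pullback C.ih
  haveI : PreservesBinaryBiproducts P := preservesBinaryBiproducts_of_preservesBiproducts P
  haveI : IsIso (P.map L) := by
    let θ := (Scheme.Modules.pullbackComp C.ih C.g).hom.app (In 0) ≫
      (Scheme.Modules.pullbackCongr C.hih).hom.app (In 0)
    haveI : IsIso θ := inferInstance
    have hc : P.map L ≫ (P.mapBiprod F F').hom ≫ biprod.map eF.hom (eF'.hom ≫ eB.inv) =
        θ ≫ biprod.lift (a 0) (a' 0) := by
      apply biprod.hom_ext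
      · simp only [Category.assoc, biprod.map_fst, biprod.lift_fst, Functor.mapBiprod_hom]
        rw [biprod.lift_fst_assoc, ← P.map_comp_assoc, biprod.lift_fst, heF]
        simp [θ, Category.assoc]
      · simp only [Category.assoc, biprod.map_snd, biprod.lift_snd, Functor.mapBiprod_hom]
        rw [biprod.lift_snd_assoc, ← P.map_comp_assoc, biprod.lift_snd, reassoc_of% heF', ← heB]
        simp [θ, Category.assoc]
    haveI : IsIso (biprod.map eF.hom (eF'.hom ≫ eB.inv)) :=
      (biprod.mapIso eF (eF' ≪≫ eB.symm)).isIso_hom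
    haveI : IsIso (P.map L ≫ (P.mapBiprod F F').hom ≫ biprod.map eF.hom (eF'.hom ≫ eB.inv)) := by
      rw [hc]; infer_instance
    exact IsIso.of_isIso_comp_right (P.map L) ((P.mapBiprod F F').hom ≫ biprod.map eF.hom (eF'.hom ≫ eB.inv))
  haveI : Mono (Formal.smulMod C.A (F ⊞ F') (C.φ t)) := by
    refine ⟨fun x y hxy => ?_⟩
    apply biprod.hom_ext
    · rw [← cancel_mono (Formal.smulMod C.A F (C.φ t)), Category.assoc, Category.assoc, ← W7Cech.smulMod_natural,
        reassoc_of% hxy]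
    · rw [← cancel_mono (Formal.smulMod C.A F' (C.φ t)), Category.assoc, Category.assoc, ← W7Cech.smulMod_natural,
        reassoc_of% hxy]
  haveI := C.isIso_of_fibre hM (W7Exist.isCoh_biprod hF hF') L
  haveI := C.reducedYo hgi
  let U := Scheme.Modules.pullback C.u
  haveI : PreservesBinaryBiproducts U := preservesBinaryBiproducts_of_preservesBiproducts U
  let θ' := (Scheme.Modules.pullbackComp C.u C.g).inv.app (In 0)
  haveI : IsIso (biprod.lift (θ' ≫ U.map p) (θ' ≫ U.map p')) := by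
    rw [show biprod.lift (θ' ≫ U.map p) (θ' ≫ U.map p') = θ' ≫ U.map L ≫ (U.mapBiprod F F').hom by
      apply biprod.hom_ext <;>
        simp only [Category.assoc, biprod.lift_fst, biprod.lift_snd, Functor.mapBiprod_hom, ← U.map_comp, L]]
    infer_instance
  have key : ∀ (G : C.Xh.Modules) (G₀ : Xs.Modules) {T : Set Xs} {π : (Scheme.Modules.pullback i).obj (In 0) ⟶ G₀},
      VecSt.IsSubcurve Xs T → TFOne.IsQuotOn Xs ((Scheme.Modules.pullback i).obj (In 0)) T G₀ π →
      Coh.IsCoh G → Mono (Formal.smulMod C.A G (C.φ t)) → (P.obj G ≅ G₀) → ¬ IsZero (U.obj G) :=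
    fun G G₀ T π hT hq hG hm e hz =>
      not_isZero_of_support hT hq.2.2.2 (((P.map_isZero (C.isZero_of_generic hG hm hz))).of_iso e.symm)
  exact not_isIso_lift (C.simple_generic hsq hgen hIn hg) (θ' ≫ U.map p) (θ' ≫ U.map p')
    (key F (A 0) hYs (hA 0) hF hmF eF) (key F' _ hY's hb₀ hF' hmF' eF') inferInstance

/-- A class of extensions stable under modification along decompositions contains a simple one. -/
theorem exists_simple (P : X.Modules → Prop) (hPg : ∀ J, P J → IsGood f i j I₀ J)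
    (hP : ∀ J, P J → ∀ {Y Y' : Set Xs} {G G' : Xs.Modules} {π : (Scheme.Modules.pullback i).obj J ⟶ G}
      {π' : (Scheme.Modules.pullback i).obj J ⟶ G'}, VecSt.IsSubcurve Xs Y → VecSt.IsSubcurve Xs Y' →
      (∀ η ∈ genericPoints Xs, (η ∈ Y' ↔ η ∉ Y)) →
      TFOne.IsQuotOn Xs ((Scheme.Modules.pullback i).obj J) Y G π →
      TFOne.IsQuotOn Xs ((Scheme.Modules.pullback i).obj J) Y' G' π' → IsIso (biprod.lift π π') →
      P (kernel (modQ i π))) {I : X.Modules} (hPI : P I) :
    ∃ J, P J ∧ TFOne.IsSimple Xs κ qs ((Scheme.Modules.pullback i).obj J) := by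
  classical
  by_contra hno
  push_neg at hno
  haveI := proper_fibre hsq
  haveI := CurveRR.isNoetherian_of_proper κ Xs
  let Decs : X.Modules → Set (Set Xs) := fun J =>
    {T | T ⊆ genericPoints Xs ∧ ∃ e : (Scheme.Modules.pullback i).obj J ⟶ (Scheme.Modules.pullback i).obj J, Ind e T}
  have hfin : ∀ J, (Decs J).Finite := fun J => by
    have hg : (genericPoints Xs).Finite := Set.Finite.of_finite_image (f := fun η => closure ({η} : Set Xs))
      (NoetherianSpace.finite_irreducibleComponents.subset (by rintro _ ⟨η, hη, rfl⟩; exact hη))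
      fun a _ b hb h => eq_of_specializes hb (specializes_iff_mem_closure.2 (by
        rw [show closure {a} = closure {b} from h]; exact subset_closure rfl))
    exact hg.finite_subsets.subset fun T hT => hT.1
  obtain ⟨_, ⟨I, hPI, rfl⟩, hmin⟩ :=
    WellFounded.has_min wellFounded_lt {n | ∃ J, P J ∧ (Decs J).ncard = n} ⟨_, I, hPI, rfl⟩
  haveI : Nonempty Xs := by
    by_contra hne
    rw [not_nonempty_iff] at hne
    obtain ⟨t, ht⟩ := IsDiscreteValuationRing.exists_irreducible R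
    obtain ⟨C⟩ := exists_compl hsq ht
    refine (C.simple_generic hsq hgen (hPg I hPI) hg).1 ((Scheme.Modules.pullbackComp C.u C.g).app I |>.isZero_iff.1
      ((Scheme.Modules.pullback C.u).map_isZero (C.isZero_of_fibre (QC.isCoh_pullback C.g (hPg I hPI).coh) ?_)))
    exact KFlat.isZero_of_stalks _ fun x => hne.elim x
  obtain ⟨Y, Z, hYc, -, GY, GZ, πY, πZ, hYs, -, hYne, -, hGY, -, hiso⟩ :=
    exists_decomp (hPg I hPI).tf hgi (hno I hPI)
  haveI := hiso
  obtain ⟨eI, heI⟩ := ind_of_iso (hPg I hPI).tf.2.2 hGY πZ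
  let Y' : Set Xs := ⋃₀ {C | C ∈ irreducibleComponents (Xs : Type u) ∧ ¬ C ⊆ Y}
  have hY' : ∀ η ∈ genericPoints Xs, (η ∈ Y' ↔ η ∉ Y) := fun η hη => mem_unionNotIn hYc hη
  have hY : ∀ η ∈ genericPoints Xs, (η ∈ Y ↔ η ∉ Y') := fun η hη => by rw [hY' η hη, not_not]
  have hY's : VecSt.IsSubcurve Xs Y' := by
    obtain ⟨x, hx⟩ := (Set.ne_univ_iff_exists_notMem Y).1 hYne
    exact ⟨{C | C ∈ irreducibleComponents (Xs : Type u) ∧ ¬ C ⊆ Y}, fun C hC => hC.1, ⟨irreducibleComponent x,
      irreducibleComponent_mem_irreducibleComponents x, fun h => hx (h mem_irreducibleComponent)⟩, rfl⟩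
  choose qG qπ hq using fun (J : {J : X.Modules // IsGood f i j I₀ J}) (T : {T : Set Xs // VecSt.IsSubcurve Xs T}) =>
    exists_quot_sub J.2.tf (Or.inl T.2)
  -- one direction
  have tower : ∀ (S S' : {T : Set Xs // VecSt.IsSubcurve Xs T}),
      (∀ η ∈ genericPoints Xs, (η ∈ S'.1 ↔ η ∉ S.1)) →
      (∃ e : (Scheme.Modules.pullback i).obj I ⟶ (Scheme.Modules.pullback i).obj I, Ind e S.1) →
      ∃ s : ℕ → {J : X.Modules // IsGood f i j I₀ J}, (s 0).1 = I ∧
        (∀ n, (s (n + 1)).1 = kernel (modQ i (qπ (s n) S))) ∧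
        ∀ n, IsIso (biprod.lift (qπ (s n) S) (qπ (s n) S')) := by
    intro S S' hSS' hind
    let next : {J : X.Modules // IsGood f i j I₀ J} → {J : X.Modules // IsGood f i j I₀ J} := fun J =>
      ⟨kernel (modQ i (qπ J S)), good_step hsq hgen J.2 (hq J S)⟩
    let s : ℕ → {J : X.Modules // IsGood f i j I₀ J} := fun n => next^[n] ⟨I, hPg I hPI⟩
    have hs : ∀ n, s (n + 1) = next (s n) := fun n => Function.iterate_succ_apply' next n _
    refine ⟨s, rfl, fun n => congrArg Subtype.val (hs n), ?_⟩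
    by_contra hall
    push_neg at hall
    let n := Nat.find hall
    have key : ∀ k, k ≤ n → P (s k).1 ∧ Decs (s k).1 ⊆ Decs I := by
      intro k
      induction k with
      | zero => exact fun _ => ⟨hPI, subset_rfl⟩
      | succ k ih =>
        intro hk
        obtain ⟨hPk, hsub⟩ := ih (by omega)
        have hd : IsIso (biprod.lift (qπ (s k) S) (qπ (s k) S')) := not_not.1 (Nat.find_min hall (by omega))
        rw [hs]
        refine ⟨hP _ hPk S.2 S'.2 hSS' (hq _ S) (hq _ S') hd, fun T hT => hsub ?_⟩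
        haveI := hd
        haveI := (hq (s k) S).1
        obtain ⟨α, β, w, hS⟩ := exists_fibre_modification R X f Xs i hsq (s k).1 (s k).2.flat (qG (s k) S) (qπ (s k) S) _ rfl
        obtain ⟨eM, heM⟩ := ind_of_iso (s k).2.tf.2.2 (hq (s k) S) (qπ (s k) S')
        obtain ⟨e, he⟩ := hT.2
        exact ⟨hT.1, ind_descend (s k).2.tf (hq (s k) S) hS heM he⟩
    obtain ⟨hPn, hsubn⟩ := key n le_rfl
    obtain ⟨e, he⟩ := hind
    refine hmin _ ⟨_, hPn, rfl⟩ (Set.ncard_lt_ncard ⟨hsubn, fun hle => ?_⟩ (hfin I))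
    obtain ⟨-, e', he'⟩ := hle (show S.1 ∩ genericPoints Xs ∈ Decs I from
      ⟨Set.inter_subset_right, e, fun η hη => ⟨fun h => (he η hη).1 h.1, fun h => (he η hη).2 fun h' => h ⟨h', hη⟩⟩⟩)
    exact Nat.find_spec hall (iso_of_ind (s n).2.tf hSS' (hq (s n) S) (hq (s n) S') (e := e') fun η hη =>
      ⟨fun h => (he' η hη).1 ⟨h, hη⟩, fun h => (he' η hη).2 fun h' => h h'.1⟩)
  obtain ⟨s, hs0, hs, hsd⟩ := tower ⟨Y, hYs⟩ ⟨Y', hY's⟩ hY' ⟨eI, heI⟩
  obtain ⟨r, hr0, hr, hrd⟩ := tower ⟨Y', hY's⟩ ⟨Y, hYs⟩ hY ⟨_, ind_compl hY' heI⟩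
  exact false_of_towers hsq hpure hgi hgen hg (fun n => (s n).1) (fun n => (r n).1) (s 0).2 hYs hY's hY' hY
    (fun n => qG (s n) ⟨Y, hYs⟩) (fun n => qG (s n) ⟨Y', hY's⟩) (fun n => qG (r n) ⟨Y', hY's⟩)
    (fun n => qG (r n) ⟨Y, hYs⟩) _ _ _ _ (fun n => hq (s n) _) (fun n => hq (s n) _) (fun n => hq (r n) _)
    (fun n => hq (r n) _) hs hr hsd hrd (hr0.trans hs0.symm)

omit hg in
/-- Semistability is kept by modifications along decompositions. -/
theorem semistable_step {E : X.Modules} {r : ℕ} (hr : 0 < r) (hE : FlatMod.IsFinLocFreeOfRank r E) {d : ℤ}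
    (hEd : Curv2.deg κ Xs ((Scheme.Modules.pullback i).obj E) r = -(r : ℤ) * d) {J : X.Modules}
    (h : IsGood f i j I₀ J) (hχ : Curv2.euler κ Xs ((Scheme.Modules.pullback i).obj J) = d)
    (hss : TFOne.IsSemistable Xs κ qs ((Scheme.Modules.pullback i).obj J) ((Scheme.Modules.pullback i).obj E) r)
    {Y Y' : Set Xs} {G G' : Xs.Modules} {π : (Scheme.Modules.pullback i).obj J ⟶ G}
    {π' : (Scheme.Modules.pullback i).obj J ⟶ G'} (hYs : VecSt.IsSubcurve Xs Y) (hY's : VecSt.IsSubcurve Xs Y')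
    (hY' : ∀ η ∈ genericPoints Xs, (η ∈ Y' ↔ η ∉ Y))
    (hG : TFOne.IsQuotOn Xs ((Scheme.Modules.pullback i).obj J) Y G π)
    (hG' : TFOne.IsQuotOn Xs ((Scheme.Modules.pullback i).obj J) Y' G' π') [IsIso (biprod.lift π π')] :
    TFOne.IsSemistable Xs κ qs ((Scheme.Modules.pullback i).obj (kernel (modQ i π)))
      ((Scheme.Modules.pullback i).obj E) r := by
  haveI := proper_fibre hsq
  haveI := CurveRR.isNoetherian_of_proper κ Xs
  have hYc : IsClosed Y := hG.2.2.2 ▸ QC.isClosed_support hG.2.1.2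
  have hY'c : IsClosed Y' := hG'.2.2.2 ▸ QC.isClosed_support hG'.2.1.2
  have hEs := CurveRR.Multi.isFinLocFreeOfRank_pullback i hE
  refine (Groth.Agent.S18848.result R X f Xs i hsq hpure hgi J h.coh h.flat h.tf E r hr hE d hχ hEd hss Y hYc hYs
    G π hG _ rfl).2 ⟨?_, ?_⟩
  · have e1 : Curv2.euler κ Xs ((Scheme.Modules.pullback i).obj J) = Curv2.euler κ Xs G + Curv2.euler κ Xs G' :=
      (CurveRR.euler_eq_of_iso (asIso (biprod.lift π π'))).trans (euler_biprod hG.2.1 hG'.2.1)
    have e2 := dsum_add κ (r := r) (E := (Scheme.Modules.pullback i).obj E) (A := Y) (B := Y') (U := Set.univ) (W := ∅)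
      (fun η hη => ⟨fun _ => (em (η ∈ Y)).imp_right (hY' η hη).2, fun _ => trivial⟩)
      (fun η hη => ⟨False.elim, fun h' => (hY' η hη).1 h'.2 h'.1⟩)
    rw [dsum_eq_zero κ (T := (∅ : Set Xs)) (fun η _ => id), add_zero, ← deg_eq_dsum_univ κ hpure hEs, hEd] at e2
    have h1 := rBeta_nonneg (k := κ) hpure hEs hχ hEd hss hYc (Or.inl hYs) hG
    have h2 := rBeta_nonneg (k := κ) hpure hEs hχ hEd hss hY'c (Or.inl hY's) hG'
    rw [hχ] at e1
    rw [rBeta_eq κ hpure hEs] at h1 h2 ⊢
    have e3 : (r : ℤ) * d = r * Curv2.euler κ Xs G + r * Curv2.euler κ Xs G' := by rw [← mul_add, ← e1]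
    linarith
  · haveI : IsReduced (VecSt.subsch Xs Y hYc) := DvrDom.isReduced_vanishingIdeal_subscheme _
    haveI := LocallyOfFiniteType.isLocallyNoetherian (VecSt.subschι Xs Y hYc)
    haveI : TopologicalSpace.NoetherianSpace (VecSt.subsch Xs Y hYc) :=
      (VecSt.subschι Xs Y hYc).isClosedEmbedding.isInducing.noetherianSpace
    exact isSemistable_restrict hYc hYs hpure hEs hχ hEd hss hG

end Groth.Agent.TFOneLib
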