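import Groth.Agent.TFOneLib.Contra
import Groth.Agent.S18842
import Groth.Agent.S18847
import Groth.Agent.S18854

/-!
The modification algorithm making an extension semistable.
-/

set_option autoImplicit false
set_option linter.style.haveILetI false
set_option linter.unusedSectionVars false
set_option backward.isDefEq.respectTransparency false
set_option backward.isDefEq.respectTransparency.types false

universe u

open CategoryTheory CategoryTheory.Limits AlgebraicGeometry TopologicalSpace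

noncomputable section

namespace Groth.Agent.TFOneLib

/-- A nonnegative measure that does not increase is eventually constant. -/
theorem exists_forall_eq_of_antitone {a : ℕ → ℕ} (h : ∀ n, a (n + 1) ≤ a n) : ∃ n₀, ∀ n, n₀ ≤ n → a n = a n₀ := by
  obtain ⟨m, ⟨n₀, hn₀⟩, hmin⟩ := WellFounded.has_min wellFounded_lt (Set.range a) (Set.range_nonempty a)
  refine ⟨n₀, fun n hn => le_antisymm ?_ (hn₀ ▸ not_lt.1 (hmin _ ⟨n, rfl⟩))⟩
  induction n, hn using Nat.le_induction with
  | base => exact le_rfl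
  | succ k _ ih => exact (h k).trans ih

theorem isQuotOn_congr {X : Scheme.{u}} {M G : X.Modules} {T T' : Set X} {π : M ⟶ G} (he : T = T')
    (h : TFOne.IsQuotOn X M T G π) : TFOne.IsQuotOn X M T' G π := he ▸ h

theorem rBeta_congr {X : Scheme.{u}} [IsLocallyNoetherian X] [IsReduced X] {k : Type u} [Field k]
    (q : X ⟶ Spec (CommRingCat.of k)) {E : X.Modules} (r : ℕ) {M : X.Modules} (hM : TFOne.IsRkOne X M)
    {T T' : Set X} (hT : IsClosed T) (hT' : IsClosed T') (he : T = T') {G G' : X.Modules} {π : M ⟶ G} {π' : M ⟶ G'}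
    (hG : TFOne.IsQuotOn X M T G π) (hG' : TFOne.IsQuotOn X M T' G' π') :
    TFOne.rBeta X k q T hT E r G = TFOne.rBeta X k q T' hT' E r G' := by
  subst he
  obtain ⟨e, -⟩ := quot_iso hM hG hG' fun _ _ => Iff.rfl
  letI : X.Over (Spec (CommRingCat.of k)) := ⟨q⟩
  unfold TFOne.rBeta
  rw [CurveRR.euler_eq_of_iso e]

variable {R : Type u} [CommRing R] [IsDomain R] [IsDiscreteValuationRing R] {X : Scheme.{u}}
  {f : X ⟶ Spec (CommRingCat.of R)} [Flat f] [IsProper f] {Xs : Scheme.{u}}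
  [Xs.Over (Spec (CommRingCat.of (IsLocalRing.ResidueField R)))] {i : Xs ⟶ X}
  (hsq : IsPullback i (Xs ↘ Spec (CommRingCat.of (IsLocalRing.ResidueField R))) f
    (Spec.map (CommRingCat.ofHom (IsLocalRing.residue R))))
  [IsReduced Xs]
  (hpure : ∀ C ∈ irreducibleComponents (Xs : Type u), topologicalKrullDim C = 1)
  (hgi : ∀ (C : Set Xs) (hC : C ∈ irreducibleComponents (Xs : Type u)), GeometricallyIntegral
    (VecSt.subschι Xs C (isClosed_of_mem_irreducibleComponents C hC) ≫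
      (Xs ↘ Spec (CommRingCat.of (IsLocalRing.ResidueField R)))))
  {Xg : Scheme.{u}} [Xg.Over (Spec (CommRingCat.of (FractionRing R)))] {j : Xg ⟶ X}
  (hgen : IsPullback j (Xg ↘ Spec (CommRingCat.of (FractionRing R))) f
    (Spec.map (CommRingCat.ofHom (algebraMap R (FractionRing R)))))

section Generic

variable {t : R} (C : Compl f (Xs ↘ Spec (CommRingCat.of (IsLocalRing.ResidueField R))) i t)

include hsq hgen

/-- The geometric generic fibre of the completion is a geometric fibre of the generic fibre. -/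
theorem Compl.exists_generic : ∃ (g : C.Yo ⟶ Xg) (χ : FractionRing R →+* C.Ω),
    g ≫ j = C.u ≫ C.g ∧
      IsPullback g C.qo (Xg ↘ Spec (CommRingCat.of (FractionRing R))) (Spec.map (CommRingCat.ofHom χ)) ∧
      Spec.map (CommRingCat.ofHom C.ψ) ≫ Spec.map (CommRingCat.ofHom C.φ) =
        Spec.map (CommRingCat.ofHom χ) ≫ Spec.map (CommRingCat.ofHom (algebraMap R (FractionRing R))) := by
  rcases fibre_cases hsq hgen _ C.sqo with ⟨χ, g, hg, sqg, ht⟩ | ⟨χ, g, -, -, ht⟩
  · exact ⟨g, χ, hg, sqg, ht⟩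
  · exfalso
    obtain ⟨s, hs⟩ := IsDiscreteValuationRing.exists_irreducible R
    rw [← Spec.map_comp, ← Spec.map_comp, ← CommRingCat.ofHom_comp, ← CommRingCat.ofHom_comp] at ht
    have h := congrArg (fun F : CommRingCat.of R ⟶ CommRingCat.of C.Ω => F.hom s) (Spec.map_injective ht)
    have h0 : IsLocalRing.residue R s = 0 :=
      (IsLocalRing.residue_eq_zero_iff s).2 ((IsLocalRing.mem_maximalIdeal s).2 hs.not_isUnit)
    change C.ψ (C.φ s) = χ (IsLocalRing.residue R s) at h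
    rw [h0, map_zero] at h
    exact hs.ne_zero (C.injo (h.trans (map_zero (C.ψ.comp C.φ)).symm))

/-- Generic semistability is seen on the completion. -/
theorem Compl.semistable_generic {I₀ I E : X.Modules} {r : ℕ} (h : IsGood f i j I₀ I)
    (hg : TFOne.FibSemistable (Xg ↘ Spec (CommRingCat.of (FractionRing R)))
      ((Scheme.Modules.pullback j).obj I₀) ((Scheme.Modules.pullback j).obj E) r) :
    TFOne.IsSemistable C.Yo C.Ω C.qo ((Scheme.Modules.pullback (C.u ≫ C.g)).obj I)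
      ((Scheme.Modules.pullback (C.u ≫ C.g)).obj E) r := by
  obtain ⟨g, χ, hg', sqg, -⟩ := C.exists_generic hsq hgen
  obtain ⟨e⟩ := h.gen
  exact isSemistable_of_iso C.qo
    ((Scheme.Modules.pullback g).mapIso e.symm ≪≫ (Scheme.Modules.pullbackComp g j).app I ≪≫
      (Scheme.Modules.pullbackCongr hg').app I)
    ((Scheme.Modules.pullbackComp g j).app E ≪≫ (Scheme.Modules.pullbackCongr hg').app E)
    (hg C.Ω _ C.Yo g C.qo sqg)

end Generic

include hsq hpure hgi hgen

variable {I₀ E : X.Modules} {r : ℕ} (hr : 0 < r) (hE : FlatMod.IsFinLocFreeOfRank r E) {d : ℤ}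
  (hEd : Curv2.deg (IsLocalRing.ResidueField R) Xs ((Scheme.Modules.pullback i).obj E) r = -(r : ℤ) * d)
  (hg : TFOne.FibSemistable (Xg ↘ Spec (CommRingCat.of (FractionRing R)))
    ((Scheme.Modules.pullback j).obj I₀) ((Scheme.Modules.pullback j).obj E) r)

local notation "κ" => IsLocalRing.ResidueField R
local notation "qs" => Xs ↘ Spec (CommRingCat.of (IsLocalRing.ResidueField R))

include hr hE hEd hg

/-- A decomposed tower has nonnegative `β` at its subcurve. -/
theorem nonneg_of_tower (In : ℕ → X.Modules) (hIn : IsGood f i j I₀ (In 0))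
    (hχ : Curv2.euler κ Xs ((Scheme.Modules.pullback i).obj (In 0)) = d) {Y Y' : Set Xs} (hY : IsClosed Y)
    (hY' : ∀ η ∈ genericPoints Xs, (η ∈ Y' ↔ η ∉ Y)) (G G' : ℕ → Xs.Modules)
    (π : ∀ n, (Scheme.Modules.pullback i).obj (In n) ⟶ G n)
    (π' : ∀ n, (Scheme.Modules.pullback i).obj (In n) ⟶ G' n)
    (hG : ∀ n, TFOne.IsQuotOn Xs ((Scheme.Modules.pullback i).obj (In n)) Y (G n) (π n))
    (hG' : ∀ n, TFOne.IsQuotOn Xs ((Scheme.Modules.pullback i).obj (In n)) Y' (G' n) (π' n))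
    (hstep : ∀ n, In (n + 1) = kernel (modQ i (π n))) (hdec : ∀ n, IsIso (biprod.lift (π n) (π' n))) :
    0 ≤ TFOne.rBeta Xs κ qs Y hY ((Scheme.Modules.pullback i).obj E) r (G 0) := by
  haveI := proper_fibre hsq
  haveI := isClosedImmersion_fibre hsq
  haveI := CurveRR.isNoetherian_of_proper κ Xs
  haveI : IsLocallyNoetherian Xs := inferInstance
  obtain ⟨t, ht⟩ := IsDiscreteValuationRing.exists_irreducible R
  obtain ⟨C⟩ := exists_compl hsq ht
  obtain ⟨F, p, hF, hp, -, hfl, e, -⟩ :=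
    C.exists_quotient In hIn.coh hIn.flat ht hsq hIn.tf Y Y' hY' G G' π π' hG hG' hstep hdec
  have hs := C.semistable_generic hsq hgen hIn hg
  obtain ⟨Z, hZ, GZ, πZ, hGZ, hZs, -, hle⟩ := C.exists_generic_quot hgi hpure hE hs.1 hIn.tf hF hfl p hY (hG 0) e
  haveI := C.reducedYo hgi
  haveI : IsProper (C.Yo ↘ Spec (CommRingCat.of C.Ω)) := C.properYo
  haveI := CurveRR.isNoetherian_of_proper C.Ω C.Yo
  refine le_trans ?_ hle
  exact rBeta_nonneg (k := C.Ω) (C.pureYo hgi hpure) (CurveRR.Multi.isFinLocFreeOfRank_pullback _ hE)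
    ((C.euler_base hIn.coh hIn.flat).trans hχ) ((C.deg_base hE).trans hEd) hs hZ hZs hGZ

omit hg in
/-- The largest subcurve with least `β` of an unstable extension. -/
theorem exists_min {I : X.Modules} (h : IsGood f i j I₀ I)
    (hχ : Curv2.euler κ Xs ((Scheme.Modules.pullback i).obj I) = d)
    (hns : ¬ TFOne.IsSemistable Xs κ qs ((Scheme.Modules.pullback i).obj I) ((Scheme.Modules.pullback i).obj E) r) :
    ∃ (Y : Set Xs) (hY : IsClosed Y) (G : Xs.Modules) (π : (Scheme.Modules.pullback i).obj I ⟶ G),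
      VecSt.IsSubcurve Xs Y ∧ TFOne.IsQuotOn Xs ((Scheme.Modules.pullback i).obj I) Y G π ∧ Y ≠ Set.univ ∧
      TFOne.rBeta Xs κ qs Y hY ((Scheme.Modules.pullback i).obj E) r G < 0 ∧
      (∀ (T : Set Xs) (hT : IsClosed T), VecSt.IsSubcurve Xs T → ∀ (G' : Xs.Modules)
        (π' : (Scheme.Modules.pullback i).obj I ⟶ G'), TFOne.IsQuotOn Xs ((Scheme.Modules.pullback i).obj I) T G' π' →
          TFOne.rBeta Xs κ qs Y hY ((Scheme.Modules.pullback i).obj E) r G ≤
            TFOne.rBeta Xs κ qs T hT ((Scheme.Modules.pullback i).obj E) r G') ∧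
      (∀ (T : Set Xs) (hT : IsClosed T), VecSt.IsSubcurve Xs T → ∀ (G' : Xs.Modules)
        (π' : (Scheme.Modules.pullback i).obj I ⟶ G'), TFOne.IsQuotOn Xs ((Scheme.Modules.pullback i).obj I) T G' π' →
          TFOne.rBeta Xs κ qs T hT ((Scheme.Modules.pullback i).obj E) r G' =
            TFOne.rBeta Xs κ qs Y hY ((Scheme.Modules.pullback i).obj E) r G → T ⊆ Y) := by
  classical
  haveI := proper_fibre hsq
  haveI := CurveRR.isNoetherian_of_proper κ Xs
  have hEs := CurveRR.Multi.isFinLocFreeOfRank_pullback i hE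
  let N := (Scheme.Modules.pullback i).obj I
  let B : {T : Set Xs // VecSt.IsSubcurve Xs T ∧ IsClosed T} → ℤ := fun T =>
    TFOne.rBeta Xs κ qs T.1 T.2.2 ((Scheme.Modules.pullback i).obj E) r (exists_quot_sub h.tf (Or.inl T.2.1)).choose
  have hB : ∀ (T : {T : Set Xs // VecSt.IsSubcurve Xs T ∧ IsClosed T}) (G : Xs.Modules) (π : N ⟶ G),
      TFOne.IsQuotOn Xs N T.1 G π → TFOne.rBeta Xs κ qs T.1 T.2.2 ((Scheme.Modules.pullback i).obj E) r G = B T :=
    fun T G π hG => rBeta_congr qs r h.tf.2.2 T.2.2 T.2.2 rfl hG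
      (exists_quot_sub h.tf (Or.inl T.2.1)).choose_spec.choose_spec
  haveI : Finite {T : Set Xs // VecSt.IsSubcurve Xs T ∧ IsClosed T} := by
    refine Set.Finite.to_subtype (((NoetherianSpace.finite_irreducibleComponents).finite_subsets.image
      Set.sUnion).subset ?_)
    rintro T ⟨⟨𝒮, h𝒮, -, rfl⟩, -⟩
    exact ⟨𝒮, h𝒮, rfl⟩
  obtain ⟨T₁, hT₁⟩ : ∃ T, B T < 0 := by
    by_contra hall
    push_neg at hall
    exact hns ⟨h.tf, fun Z hZ hZs _ G π hG => (hB ⟨Z, hZs, hZ⟩ G π hG).symm ▸ hall _⟩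
  haveI : Nonempty {T : Set Xs // VecSt.IsSubcurve Xs T ∧ IsClosed T} := ⟨T₁⟩
  obtain ⟨T₀, hT₀⟩ := Finite.exists_min B
  obtain ⟨Y, hYmem, hYmax⟩ := Set.Finite.exists_maximalFor (fun T : {T : Set Xs // VecSt.IsSubcurve Xs T ∧ IsClosed T} => T.1)
    {T | B T = B T₀} (Set.toFinite _) ⟨T₀, rfl⟩
  have hneg : B Y < 0 := hYmem.trans_lt ((hT₀ T₁).trans_lt hT₁)
  obtain ⟨π, hG⟩ := (exists_quot_sub h.tf (Or.inl Y.2.1)).choose_spec
  refine ⟨Y.1, Y.2.2, _, π, Y.2.1, hG, ?_, hneg,
    fun T hT hTs G' π' hG' => (hB Y _ π hG).trans_le ((hYmem.trans_le (hT₀ _)).trans_eq (hB ⟨T, hTs, hT⟩ G' π' hG').symm),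
    fun T hT hTs G' π' hG' he => ?_⟩
  · intro hu
    have h0 := rBeta_eq_zero_of_univ hpure hEs h.tf hχ hEd Y.2.2 (fun η _ => hu ▸ trivial) hG
    rw [hB Y _ π hG] at h0
    omega
  · rw [hB ⟨T, hTs, hT⟩ G' π' hG', hB Y _ π hG] at he
    let W : Set Xs := ⋃₀ {C | C ∈ irreducibleComponents (Xs : Type u) ∧ C ⊆ Y.1 ∩ T}
    have hWc : IsClosed W := isClosed_subcurve
    let U : {T : Set Xs // VecSt.IsSubcurve Xs T ∧ IsClosed T} :=
      ⟨Y.1 ∪ T, isSubcurve_union Y.2.1 hTs, Y.2.2.union hT⟩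
    obtain ⟨GU, πU, hGU⟩ := exists_quot_sub h.tf (Or.inl U.2.1)
    obtain ⟨GW, πW, hGW⟩ := exists_quot_sub h.tf (T := W) isSubcurve_or_empty
    have hl := Groth.Agent.S18842.result κ Xs hpure N h.tf Y.1 T W Y.2.2 hT Y.2.1 hTs rfl _ _ GU GW π π' πU πW
      hG hG' hGU hGW
    have hd := dsum_add κ (r := r) (E := (Scheme.Modules.pullback i).obj E) (A := Y.1) (B := T) (U := Y.1 ∪ T) (W := W)
      (fun η _ => Iff.rfl) (fun η hη => mem_unionIn (Y.2.2.inter hT) hη)
    have h3 := mul_le_mul_of_nonneg_left hl (Int.natCast_nonneg r)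
    rw [mul_add, mul_add] at h3
    have hle : B U + TFOne.rBeta Xs κ qs W hWc ((Scheme.Modules.pullback i).obj E) r GW ≤ B Y + B Y := by
      nth_rewrite 2 [← he]
      rw [← hB U GU πU hGU, ← hB ⟨T, hTs, hT⟩ G' π' hG', ← hB Y _ π hG, rBeta_eq κ hpure hEs,
        rBeta_eq κ hpure hEs, rBeta_eq κ hpure hEs, rBeta_eq κ hpure hEs]
      change (r : ℤ) * Curv2.euler κ Xs GU + dsum κ r _ (Y.1 ∪ T) + _ ≤ _
      linarith
    have hUY : B U = B T₀ := by
      refine le_antisymm ?_ (hT₀ U)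
      rcases isSubcurve_or_empty (X := Xs) (P := fun C => C ⊆ Y.1 ∩ T) with hWs | hWe
      · have := hT₀ ⟨W, hWs, hWc⟩
        rw [← hB ⟨W, hWs, hWc⟩ GW πW hGW] at this
        linarith [hYmem.le]
      · rw [rBeta_eq_zero_of_empty hpure hEs hWc hWe hGW] at hle
        linarith [hYmem.le]
    exact fun x hx => hYmax (j := U) hUY Set.subset_union_left (Or.inr hx)

/-- Some extension is semistable on the special fibre. -/
theorem exists_semistable {I : X.Modules} (h : IsGood f i j I₀ I)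
    (hχ : Curv2.euler κ Xs ((Scheme.Modules.pullback i).obj I) = d) :
    ∃ J : X.Modules, IsGood f i j I₀ J ∧ Curv2.euler κ Xs ((Scheme.Modules.pullback i).obj J) = d ∧
      TFOne.IsSemistable Xs κ qs ((Scheme.Modules.pullback i).obj J) ((Scheme.Modules.pullback i).obj E) r := by
  classical
  by_contra hno
  push_neg at hno
  haveI := proper_fibre hsq
  haveI := CurveRR.isNoetherian_of_proper κ Xs
  let S := {J : X.Modules // IsGood f i j I₀ J ∧ Curv2.euler κ Xs ((Scheme.Modules.pullback i).obj J) = d}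
  choose Y hY G π hYs hG hYne hneg hmin hmax using fun J : S =>
    exists_min hsq hpure hgi hgen hr hE hEd J.2.1 J.2.2 (hno J.1 J.2.1 J.2.2)
  let next : S → S := fun J => ⟨kernel (modQ i (π J)), good_step hsq hgen J.2.1 (hG J),
    (euler_step hsq J.2.1.coh J.2.1.flat J.2.1.tf (hG J)).trans J.2.2⟩
  let s : ℕ → S := fun n => next^[n] ⟨I, h, hχ⟩
  have hs : ∀ n, s (n + 1) = next (s n) := fun n => Function.iterate_succ_apply' next n _
  let b : S → ℤ := fun J => TFOne.rBeta Xs κ qs (Y J) (hY J) ((Scheme.Modules.pullback i).obj E) r (G J)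
  have hmono : ∀ J : S, b J ≤ b (next J) ∧ (b (next J) = b J → Y (next J) ⊆ Y J) := fun J =>
    Groth.Agent.S18847.result R X f Xs i hsq hpure hgi J.1 J.2.1.coh J.2.1.flat J.2.1.tf E r hr hE d J.2.2 hEd
      (Y J) (hY J) (hYs J) (G J) (π J) (hG J) _ rfl (hmin J) (hmax J) (Y (next J)) (hY _) (hYs _) (G (next J))
      (π (next J)) (hG (next J))
  obtain ⟨n₀, hn₀⟩ := exists_forall_eq_of_antitone (a := fun n => (-b (s n)).toNat) fun n => by
    have := (hmono (s n)).1
    rw [← hs] at this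
    change (-b (s (n + 1))).toNat ≤ (-b (s n)).toNat
    omega
  have hb : ∀ n, n₀ ≤ n → b (s (n + 1)) = b (s n) := fun n hn => by
    have h1 := hn₀ n hn
    have h2 := hn₀ (n + 1) (by omega)
    have h3 : b (s n) < 0 := hneg _
    have h4 : b (s (n + 1)) < 0 := hneg _
    omega
  have hsub : ∀ n, n₀ ≤ n → Y (s (n + 1)) ⊆ Y (s n) := fun n hn => by
    have h1 := hb n hn
    rw [hs] at h1 ⊢
    exact (hmono (s n)).2 h1
  obtain ⟨n₁, hn₁⟩ := exists_forall_eq_of_antitone
    (a := fun k => {C ∈ irreducibleComponents (Xs : Type u) | C ⊆ Y (s (n₀ + k))}.ncard) fun k =>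
      Set.ncard_le_ncard (fun C hC => ⟨hC.1, hC.2.trans (hsub (n₀ + k) (by omega))⟩)
        (NoetherianSpace.finite_irreducibleComponents.subset fun C hC => hC.1)
  let N := n₀ + n₁
  have hconst : ∀ k, Y (s (N + k + 1)) = Y (s (N + k)) := fun k => by
    refine Set.Subset.antisymm (hsub _ (by omega)) ?_
    have heq : {C ∈ irreducibleComponents (Xs : Type u) | C ⊆ Y (s (N + k + 1))} =
        {C ∈ irreducibleComponents (Xs : Type u) | C ⊆ Y (s (N + k))} := by
      refine Set.eq_of_subset_of_ncard_le (fun C hC => ⟨hC.1, hC.2.trans (hsub _ (by omega))⟩) ?_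
        (NoetherianSpace.finite_irreducibleComponents.subset fun C hC => hC.1)
      have e1 := hn₁ (n₁ + k) (by omega)
      have e2 := hn₁ (n₁ + k + 1) (by omega)
      simp only [N, Nat.add_assoc] at e1 e2 ⊢
      omega
    intro x hx
    obtain ⟨𝒮, h𝒮, -, hYe⟩ := hYs (s (N + k))
    obtain ⟨C, hC, hxC⟩ := hYe.subset hx
    exact (heq.ge (show C ∈ {C ∈ irreducibleComponents (Xs : Type u) | C ⊆ Y (s (N + k))} from
      ⟨h𝒮 hC, fun y hy => hYe.ge ⟨C, hC, hy⟩⟩)).2 hxC
  have hY₀ : ∀ k, Y (s (N + k)) = Y (s N) := fun k => by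
    induction k with
    | zero => rfl
    | succ k ih => exact (hconst k).trans ih
  let Y₀ := Y (s N)
  let Y' : Set Xs := ⋃₀ {C | C ∈ irreducibleComponents (Xs : Type u) ∧ ¬ C ⊆ Y₀}
  have hY'c : IsClosed Y' := isClosed_subcurve
  choose G' π' hG' using fun k : ℕ =>
    exists_quot_sub (s (N + k + 1)).2.1.tf (T := Y') isSubcurve_or_empty
  have hG₀ : ∀ k, TFOne.IsQuotOn Xs ((Scheme.Modules.pullback i).obj (s (N + k + 1)).1) Y₀ (G (s (N + k + 1)))
      (π (s (N + k + 1))) := fun k => isQuotOn_congr (hY₀ (k + 1)) (hG (s (N + k + 1)))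
  have hdec : ∀ k, IsIso (biprod.lift (π (s (N + k + 1))) (π' k)) := fun k => by
    let J := s (N + k)
    have hstep : (s (N + k + 1)).1 = kernel (modQ i (π J)) := congrArg Subtype.val (hs (N + k))
    refine (Groth.Agent.S18854.result R X f Xs i hsq hpure hgi J.1 J.2.1.coh J.2.1.flat J.2.1.tf E r hr hE d
      J.2.2 hEd (Y J) (hY J) (hYs J) (G J) (π J) (hG J) _ hstep (hYne J) (hmin J) (hmax J) Y'
      (by rw [show Y J = Y₀ from hY₀ k]) hY'c _ _ (π (s (N + k + 1))) (π' k) (isQuotOn_congr (hY₀ k).symm (hG₀ k)) (hG' k)).1 ?_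
    refine Eq.trans ?_ (hb (N + k) (by omega))
    exact rBeta_congr qs r (s (N + k + 1)).2.1.tf.2.2 _ (hY _) ((hY₀ k).trans (hY₀ (k + 1)).symm)
      (isQuotOn_congr (hY₀ k).symm (hG₀ k)) (hG (s (N + k + 1)))
  have hfin := nonneg_of_tower hsq hpure hgi hgen hr hE hEd hg (fun k => (s (N + k + 1)).1) (s (N + 0 + 1)).2.1
    (s (N + 0 + 1)).2.2 (hY (s N)) (fun η hη => mem_unionNotIn (hY (s N)) hη) (fun k => G (s (N + k + 1))) G'
    (fun k => π (s (N + k + 1))) π' hG₀ hG' (fun k => congrArg Subtype.val (hs (N + k + 1))) hdec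
  have hcg := rBeta_congr qs r (E := (Scheme.Modules.pullback i).obj E) (s (N + 1)).2.1.tf.2.2 (hY (s N))
    (hY (s (N + 1))) (hY₀ 1).symm (hG₀ 0) (hG (s (N + 1)))
  have := hneg (s (N + 1))
  rw [← hcg] at this
  exact absurd hfin (not_le.2 this)

end Groth.Agent.TFOneLib
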