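import Groth.Agent.TFOneLib.Quasi

/-!
Quasi-stable extensions along a section through the smooth locus.
-/

set_option autoImplicit false
set_option linter.style.haveILetI false
set_option linter.unusedSectionVars false
set_option backward.isDefEq.respectTransparency false
set_option backward.isDefEq.respectTransparency.types false

universe u

open CategoryTheory CategoryTheory.Limits AlgebraicGeometry TopologicalSpace

noncomputable section

namespace Groth.Agent.TFOneLib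

/-- Membership of a component in a closed set is read at its generic point. -/
theorem subset_of_mem_generic {X : Scheme.{u}} {W T : Set X} (hW : W ∈ irreducibleComponents (X : Type u))
    {η : X} (hη : η ∈ genericPoints X) (hηW : η ∈ W) (hT : IsClosed T) (hηT : η ∈ T) : W ⊆ T := by
  obtain ⟨θ, hθ⟩ := QuasiSober.sober hW.1 (isClosed_of_mem_irreducibleComponents W hW)
  have h : θ = η := eq_of_specializes hη (hθ.specializes hηW)
  subst h
  rw [← hθ.def]
  exact closure_minimal (Set.singleton_subset_iff.2 hηT) hT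

variable {R : Type u} [CommRing R] [IsDomain R] [IsDiscreteValuationRing R] {X : Scheme.{u}}
  {f : X ⟶ Spec (CommRingCat.of R)} [Flat f] [IsProper f] {Xs : Scheme.{u}}
  [Xs.Over (Spec (CommRingCat.of (IsLocalRing.ResidueField R)))] {i : Xs ⟶ X}
  (hsq : IsPullback i (Xs ↘ Spec (CommRingCat.of (IsLocalRing.ResidueField R))) f
    (Spec.map (CommRingCat.ofHom (IsLocalRing.residue R))))
  [IsReduced Xs]
  (hpure : ∀ C ∈ irreducibleComponents (Xs : Type u), topologicalKrullDim C = 1)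
  (hgi : ∀ (C : Set Xs) (hC : C ∈ irreducibleComponents (Xs : Type u)), GeometricallyIntegral
    (VecSt.subschι Xs C (isClosed_of_mem_irreducibleComponents C hC) ≫
      (Xs ↘ Spec (CommRingCat.of (IsLocalRing.ResidueField R)))))
  {Xg : Scheme.{u}} [Xg.Over (Spec (CommRingCat.of (FractionRing R)))] {j : Xg ⟶ X}
  (hgen : IsPullback j (Xg ↘ Spec (CommRingCat.of (FractionRing R))) f
    (Spec.map (CommRingCat.ofHom (algebraMap R (FractionRing R)))))

local notation "κ" => IsLocalRing.ResidueField R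
local notation "qs" => Xs ↘ Spec (CommRingCat.of (IsLocalRing.ResidueField R))

variable {I₀ E : X.Modules} {r : ℕ} (hr : 0 < r) (hE : FlatMod.IsFinLocFreeOfRank r E) {d : ℤ}
  (hEd : Curv2.deg (IsLocalRing.ResidueField R) Xs ((Scheme.Modules.pullback i).obj E) r = -(r : ℤ) * d)
  {x₀ : Xs} {W : Set Xs} (hW : W ∈ irreducibleComponents (Xs : Type u)) (hxW : x₀ ∈ W)
  (huniq : ∀ η ∈ genericPoints Xs, η ⤳ x₀ → η ∈ W)

include hsq hpure hgi hgen hr hE hEd hW hxW huniq

/-- The least subcurve through the marked component with vanishing `β`. -/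
theorem exists_zero_least {J : X.Modules} (h : IsGood f i j I₀ J)
    (hχ : Curv2.euler κ Xs ((Scheme.Modules.pullback i).obj J) = d)
    (hss : TFOne.IsSemistable Xs κ qs ((Scheme.Modules.pullback i).obj J) ((Scheme.Modules.pullback i).obj E) r) :
    ∃ (Y : Set Xs) (hY : IsClosed Y) (G : Xs.Modules) (π : (Scheme.Modules.pullback i).obj J ⟶ G),
      VecSt.IsSubcurve Xs Y ∧ TFOne.IsQuotOn Xs ((Scheme.Modules.pullback i).obj J) Y G π ∧ W ⊆ Y ∧
      TFOne.rBeta Xs κ qs Y hY ((Scheme.Modules.pullback i).obj E) r G = 0 ∧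
      (∀ (T : Set Xs) (hT : IsClosed T), VecSt.IsSubcurve Xs T → W ⊆ T → ∀ (G' : Xs.Modules)
        (π' : (Scheme.Modules.pullback i).obj J ⟶ G'), TFOne.IsQuotOn Xs ((Scheme.Modules.pullback i).obj J) T G' π' →
          TFOne.rBeta Xs κ qs T hT ((Scheme.Modules.pullback i).obj E) r G' = 0 → Y ⊆ T) := by
  classical
  haveI := proper_fibre hsq
  haveI := CurveRR.isNoetherian_of_proper κ Xs
  have hEs := CurveRR.Multi.isFinLocFreeOfRank_pullback i hE
  let N := (Scheme.Modules.pullback i).obj J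
  let 𝒯 : Set (Set Xs) := {T | W ⊆ T ∧ VecSt.IsSubcurve Xs T ∧ ∃ (hT : IsClosed T) (G : Xs.Modules) (π : N ⟶ G),
    TFOne.IsQuotOn Xs N T G π ∧ TFOne.rBeta Xs κ qs T hT ((Scheme.Modules.pullback i).obj E) r G = 0}
  haveI : Nonempty Xs := ⟨x₀⟩
  have hfin : 𝒯.Finite :=
    (NoetherianSpace.finite_irreducibleComponents.finite_subsets.image Set.sUnion).subset (by
      rintro T ⟨-, ⟨𝒮, h𝒮, -, rfl⟩, -⟩
      exact ⟨𝒮, h𝒮, rfl⟩)
  obtain ⟨GX, πX, hGX⟩ := exists_quot_sub h.tf (Or.inl isSubcurve_univ)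
  have huniv : Set.univ ∈ 𝒯 := ⟨Set.subset_univ _, isSubcurve_univ, isClosed_univ, GX, πX, hGX,
    rBeta_eq_zero_of_univ hpure hEs h.tf hχ hEd isClosed_univ (fun η _ => trivial) hGX⟩
  obtain ⟨Y, hYmem, hYmin⟩ := hfin.exists_minimalFor id 𝒯 ⟨_, huniv⟩
  obtain ⟨hWY, hYs, hY, G, π, hG, hY0⟩ := hYmem
  refine ⟨Y, hY, G, π, hYs, hG, hWY, hY0, fun T hT hTs hWT G' π' hG' hT0 => ?_⟩
  let V : Set Xs := ⋃₀ {C | C ∈ irreducibleComponents (Xs : Type u) ∧ C ⊆ Y ∩ T}
  have hVc : IsClosed V := isClosed_subcurve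
  have hWV : W ⊆ V := fun x hx => ⟨W, ⟨hW, Set.subset_inter hWY hWT⟩, hx⟩
  have hVs : VecSt.IsSubcurve Xs V :=
    ⟨{C | C ∈ irreducibleComponents (Xs : Type u) ∧ C ⊆ Y ∩ T}, fun C hC => hC.1,
      ⟨W, hW, Set.subset_inter hWY hWT⟩, rfl⟩
  obtain ⟨GV, πV, hGV⟩ := exists_quot_sub h.tf (Or.inl hVs)
  obtain ⟨GU, πU, hGU⟩ := exists_quot_sub h.tf (Or.inl (isSubcurve_union hYs hTs))
  have hl := Groth.Agent.S18842.result κ Xs hpure N h.tf Y T V hY hT hYs hTs rfl _ _ GU GV π π' πU πV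
    hG hG' hGU hGV
  have hd := dsum_add κ (r := r) (E := (Scheme.Modules.pullback i).obj E) (A := Y) (B := T) (U := Y ∪ T) (W := V)
    (fun η _ => Iff.rfl) (fun η hη => mem_unionIn (hY.inter hT) hη)
  have h3 := mul_le_mul_of_nonneg_left hl (Int.natCast_nonneg r)
  rw [mul_add, mul_add] at h3
  have hU0 := rBeta_nonneg (k := κ) hpure hEs hχ hEd hss (hY.union hT) (Or.inl (isSubcurve_union hYs hTs)) hGU
  have hV0 := rBeta_nonneg (k := κ) hpure hEs hχ hEd hss hVc (Or.inl hVs) hGV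
  have hV : V ∈ 𝒯 := by
    refine ⟨hWV, hVs, hVc, GV, πV, hGV, ?_⟩
    rw [rBeta_eq κ hpure hEs] at hY0 hT0 hU0 hV0 ⊢
    linarith
  exact fun x hx => by
    obtain ⟨C, ⟨-, hC⟩, hxC⟩ := hYmin hV (fun y ⟨C, ⟨_, hC⟩, hyC⟩ => (hC hyC).1) hx
    exact (hC hxC).2

variable (σ : Spec (CommRingCat.of R) ⟶ X) (hσ : σ ≫ f = 𝟙 _)
  (σg : Spec (CommRingCat.of (FractionRing R)) ⟶ Xg)
  (hσg : σg ≫ (Xg ↘ Spec (CommRingCat.of (FractionRing R))) = 𝟙 _)
  (hσgj : σg ≫ j = Spec.map (CommRingCat.ofHom (algebraMap R (FractionRing R))) ≫ σ)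
  (hg : TFOne.FibQuasistableAlong (Xg ↘ Spec (CommRingCat.of (FractionRing R)))
    ((Scheme.Modules.pullback j).obj I₀) ((Scheme.Modules.pullback j).obj E) σg hσg r)
  (hx₀ : i x₀ = σ (IsLocalRing.closedPoint R))

include hσ hσgj hg hx₀

/-- Some semistable extension is quasi-stable at the marked point. -/
theorem exists_quasistable {I : X.Modules} (h : IsGood f i j I₀ I)
    (hχ : Curv2.euler κ Xs ((Scheme.Modules.pullback i).obj I) = d)
    (hss : TFOne.IsSemistable Xs κ qs ((Scheme.Modules.pullback i).obj I) ((Scheme.Modules.pullback i).obj E) r) :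
    ∃ J : X.Modules, IsGood f i j I₀ J ∧
      TFOne.IsQuasistableAtPt Xs κ qs ((Scheme.Modules.pullback i).obj J) ((Scheme.Modules.pullback i).obj E) r x₀ := by
  classical
  by_contra hno
  push_neg at hno
  haveI := proper_fibre hsq
  haveI := CurveRR.isNoetherian_of_proper κ Xs
  have hEs := CurveRR.Multi.isFinLocFreeOfRank_pullback i hE
  let S := {J : X.Modules // IsGood f i j I₀ J ∧ Curv2.euler κ Xs ((Scheme.Modules.pullback i).obj J) = d ∧
    TFOne.IsSemistable Xs κ qs ((Scheme.Modules.pullback i).obj J) ((Scheme.Modules.pullback i).obj E) r}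
  choose Y hY G π hYs hG hWY hY0 hmin using fun J : S =>
    exists_zero_least hsq hpure hgi hgen hr hE hEd hW hxW huniq J.2.1 J.2.2.1 J.2.2.2
  have hne : ∀ J : S, Y J ≠ Set.univ := fun J hu => by
    refine hno J.1 J.2.1 ⟨J.2.2.2, fun Z hZ hZs hZne hxZ G' π' hG' => ?_⟩
    obtain ⟨η, hη, hηx⟩ := exists_generic x₀
    have hWZ : W ⊆ Z := by
      obtain ⟨𝒮, h𝒮, -, rfl⟩ := hZs
      obtain ⟨D, hD, hxD⟩ := hxZ
      obtain ⟨θ, hθ⟩ := QuasiSober.sober (h𝒮 hD).1 (isClosed_of_mem_irreducibleComponents D (h𝒮 hD))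
      have hθg : θ ∈ genericPoints Xs := by
        change closure {θ} ∈ irreducibleComponents (Xs : Type u)
        rw [hθ.def]; exact h𝒮 hD
      exact subset_of_mem_generic hW hθg (huniq θ hθg (hθ.specializes hxD)) hZ ⟨D, hD, hθ.mem⟩
    refine (J.2.2.2.2 Z hZ hZs hZne G' π' hG').lt_of_ne fun h0 => hZne ?_
    exact Set.univ_subset_iff.1 (hu.ge.trans (hmin J Z hZ hZs hWZ G' π' hG' h0.symm))
  have hnext : ∀ J : S, TFOne.IsSemistable Xs κ qs ((Scheme.Modules.pullback i).obj (kernel (modQ i (π J))))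
      ((Scheme.Modules.pullback i).obj E) r := fun J => by
    haveI : IsReduced (VecSt.subsch Xs (Y J) (hY J)) := DvrDom.isReduced_vanishingIdeal_subscheme _
    haveI := LocallyOfFiniteType.isLocallyNoetherian (VecSt.subschι Xs (Y J) (hY J))
    haveI : TopologicalSpace.NoetherianSpace (VecSt.subsch Xs (Y J) (hY J)) :=
      (VecSt.subschι Xs (Y J) (hY J)).isClosedEmbedding.isInducing.noetherianSpace
    exact (Groth.Agent.S18848.result R X f Xs i hsq hpure hgi J.1 J.2.1.coh J.2.1.flat J.2.1.tf E r hr hE d J.2.2.1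
      hEd J.2.2.2 (Y J) (hY J) (hYs J) (G J) (π J) (hG J) _ rfl).2
        ⟨hY0 J, isSemistable_restrict (hY J) (hYs J) hpure hEs J.2.2.1 hEd J.2.2.2 (hG J)⟩
  let next : S → S := fun J => ⟨kernel (modQ i (π J)), good_step hsq hgen J.2.1 (hG J),
    (euler_step hsq J.2.1.coh J.2.1.flat J.2.1.tf (hG J)).trans J.2.2.1, hnext J⟩
  let s : ℕ → S := fun n => next^[n] ⟨I, h, hχ, hss⟩
  have hs : ∀ n, s (n + 1) = next (s n) := fun n => Function.iterate_succ_apply' next n _
  have hmono : ∀ J : S, Y J ⊆ Y (next J) := fun J =>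
    Groth.Agent.S18853.result R X f Xs i hsq hpure hgi J.1 J.2.1.coh J.2.1.flat J.2.1.tf E r hr hE d J.2.2.1 hEd
      J.2.2.2 (Y J) (hY J) (hYs J) (G J) (π J) (hG J) _ rfl W hW (hWY J) (hY0 J) (hmin J) (Y (next J)) (hY _)
      (hYs _) (hWY _) (G (next J)) (π (next J)) (hG (next J)) (hY0 _) (hmin (next J))
  obtain ⟨N, hN⟩ := exists_forall_eq_of_antitone
    (a := fun k => {C ∈ irreducibleComponents (Xs : Type u) | ¬ C ⊆ Y (s k)}.ncard) fun k => by
      refine Set.ncard_le_ncard (fun C hC => ⟨hC.1, fun hle => hC.2 (hle.trans ?_)⟩)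
        (NoetherianSpace.finite_irreducibleComponents.subset fun C hC => hC.1)
      rw [hs]
      exact hmono _
  have hconst : ∀ k, Y (s (N + k + 1)) = Y (s (N + k)) := fun k => by
    have hsub : Y (s (N + k)) ⊆ Y (s (N + k + 1)) := by rw [hs]; exact hmono _
    have heq : {C ∈ irreducibleComponents (Xs : Type u) | ¬ C ⊆ Y (s (N + k + 1))} =
        {C ∈ irreducibleComponents (Xs : Type u) | ¬ C ⊆ Y (s (N + k))} := by
      refine Set.eq_of_subset_of_ncard_le (fun C hC => ⟨hC.1, fun hle => hC.2 (hle.trans hsub)⟩) ?_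
        (NoetherianSpace.finite_irreducibleComponents.subset fun C hC => hC.1)
      have e1 := hN (N + k) (by omega)
      have e2 := hN (N + k + 1) (by omega)
      beta_reduce at e1 e2
      omega
    refine Set.Subset.antisymm (fun x hx => ?_) hsub
    obtain ⟨𝒮, h𝒮, -, hYe⟩ := hYs (s (N + k + 1))
    obtain ⟨C, hC, hxC⟩ := hYe.subset hx
    by_contra hx'
    exact (heq.ge (show C ∈ {C ∈ irreducibleComponents (Xs : Type u) | ¬ C ⊆ Y (s (N + k))} from
      ⟨h𝒮 hC, fun hle => hx' (hle hxC)⟩)).2 fun y hy => hYe.ge ⟨C, hC, hy⟩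
  have hY₀ : ∀ k, Y (s (N + k)) = Y (s N) := fun k => by
    induction k with
    | zero => rfl
    | succ k ih => exact (hconst k).trans ih
  let Y₀ := Y (s N)
  let Y' : Set Xs := ⋃₀ {C | C ∈ irreducibleComponents (Xs : Type u) ∧ ¬ C ⊆ Y₀}
  have hY'c : IsClosed Y' := isClosed_subcurve
  choose G' π' hG' using fun k : ℕ =>
    exists_quot_sub (s (N + k + 1)).2.1.tf (T := Y') isSubcurve_or_empty
  have hG₀ : ∀ k, TFOne.IsQuotOn Xs ((Scheme.Modules.pullback i).obj (s (N + k + 1)).1) Y₀ (G (s (N + k + 1)))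
      (π (s (N + k + 1))) := fun k => isQuotOn_congr (hY₀ (k + 1)) (hG (s (N + k + 1)))
  have hdec : ∀ k, IsIso (biprod.lift (π (s (N + k + 1))) (π' k)) := fun k => by
    let J := s (N + k)
    let K := s (N + k + 1)
    have hstep : K.1 = kernel (modQ i (π J)) := congrArg Subtype.val (hs (N + k))
    exact (Groth.Agent.S18855.result R X f Xs i hsq hpure hgi J.1 J.2.1.coh J.2.1.flat J.2.1.tf E r hr hE d
      J.2.2.1 hEd J.2.2.2 (Y J) (hY J) (hYs J) (G J) (π J) (hG J) K.1 hstep (hne J) W hW (hWY J) (hY0 J) (hmin J)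
      (Y K) (hY K) (hYs K) (hWY K) (G K) (π K) (hG K) (hY0 K) (hmin K) Y'
      (by rw [show Y J = Y₀ from hY₀ k]) hY'c _ _ (π K) (π' k) (isQuotOn_congr (hY₀ k).symm (hG₀ k)) (hG' k)).1
        (hconst k).symm
  have hfin := pos_of_tower hsq hpure hgi hgen hr hE hEd σ hσ σg hσg hσgj hg x₀ hx₀ hW hxW huniq
    (fun k => (s (N + k + 1)).1) (s (N + 0 + 1)).2.1 (s (N + 0 + 1)).2.2.1 (hY (s N)) (hYs _) (hne _) (hWY _)
    (fun η hη => mem_unionNotIn (hY (s N)) hη) (fun k => G (s (N + k + 1))) G'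
    (fun k => π (s (N + k + 1))) π' hG₀ hG' (fun k => congrArg Subtype.val (hs (N + k + 1))) hdec
  have hcg := rBeta_congr qs r (E := (Scheme.Modules.pullback i).obj E) (s (N + 1)).2.1.tf.2.2 (hY (s N))
    (hY (s (N + 1))) (hY₀ 1).symm (hG₀ 0) (hG (s (N + 1)))
  rw [hY0] at hcg
  exact (hcg ▸ hfin).false

end Groth.Agent.TFOneLib
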