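import Groth.Agent.S0004
import Groth.Agent.W7Exist.Completion

/-!
Algebraization of a quotient system with injective multiplications: a quotient without `t`-torsion.
-/

set_option autoImplicit false
set_option linter.style.haveILetI false
set_option linter.unusedSectionVars false
set_option backward.isDefEq.respectTransparency false
set_option backward.isDefEq.respectTransparency.types false

universe u

open CategoryTheory CategoryTheory.Limits AlgebraicGeometry TopologicalSpace Opposite

noncomputable section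

namespace Groth.Agent.TFOneLib

/-- A map whose composites to all truncations vanish is zero. -/
theorem eq_zero_of_completion {A : Type u} [CommRing A] [IsNoetherianRing A] (I : Ideal A) [IsAdicComplete I A]
    {X : Scheme.{u}} [X.Over (Spec (CommRingCat.of A))] [IsProper (X ↘ Spec (CommRingCat.of A))]
    {M N : X.Modules} (hM : Coh.IsCoh M) (hN : Coh.IsCoh N) (f : M ⟶ N)
    (h : ∀ n, f ≫ Formal.modPowπ I (n + 1) N = 0) : f = 0 := by
  obtain ⟨φ, -, huniq⟩ := (Groth.Agent.S0004.result A I X).1 M N hM hN 0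
  refine (huniq f fun n => ?_).trans (huniq 0 fun n => ?_).symm
  · refine Eq.trans ?_ (h n).symm
    exact comp_zero
  · rw [zero_comp]
    exact comp_zero

/-- Algebraization of a system of quotients with injective multiplications. -/
theorem algebraize_quotient {A : Type u} [CommRing A] [IsNoetherianRing A] (t : A)
    [IsAdicComplete (Ideal.span {t}) A] {X : Scheme.{u}} [X.Over (Spec (CommRingCat.of A))]
    [IsProper (X ↘ Spec (CommRingCat.of A))] {M₀ : X.Modules} (hM₀ : Coh.IsCoh M₀) (G : ℕᵒᵖ ⥤ X.Modules)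
    (hG : Formal.IsCohFormal (Ideal.span {t}) G) (π : ∀ n, M₀ ⟶ G.obj (op n)) (hπe : ∀ n, Epi (π n))
    (hπ : ∀ n, π (n + 1) ≫ G.map (homOfLE (Nat.le_succ n)).op = π n)
    (τ : ∀ n, G.obj (op n) ⟶ G.obj (op (n + 1))) (hτm : ∀ n, Mono (τ n))
    (hτ : ∀ n, G.map (homOfLE (Nat.le_succ n)).op ≫ τ n = Formal.smulMod A (G.obj (op (n + 1))) t) :
    ∃ (F : X.Modules) (p : M₀ ⟶ F), Coh.IsCoh F ∧ Epi p ∧ Mono (Formal.smulMod A F t) ∧
      ∃ e : Formal.modPow (Ideal.span {t}) 1 F ≅ G.obj (op 0),
        p ≫ Formal.modPowπ (Ideal.span {t}) 1 F ≫ e.hom = π 0 := by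
  let I : Ideal A := Ideal.span {t}
  haveI : IsLocallyNoetherian X := LocallyOfFiniteType.isLocallyNoetherian (X ↘ Spec (CommRingCat.of A))
  choose α hα using fun n => W7Exist.exists_desc_modPow I (n + 1) (π n) fun a ha => by
    rw [W7Cech.smulMod_natural, hG.2.1 n a ha, comp_zero]
  let η : Formal.completion I M₀ ⟶ G := NatTrans.ofOpSequence α fun n => by
    rw [W7Exist.completion_map_succ]
    refine (cancel_epi (Formal.modPowπ I (n + 1 + 1) M₀)).1 ?_
    refine (Category.assoc _ _ _).symm.trans ((congrArg (· ≫ α n) (Formal.modPowπ_trans I (n + 1) M₀)).trans ?_)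
    rw [hα, ← Category.assoc, hα, hπ]
  obtain ⟨F, hF, ⟨e⟩⟩ := (Groth.Agent.S0004.result A I X).2 G hG
  obtain ⟨p, hp, -⟩ := (Groth.Agent.S0004.result A I X).1 M₀ F hM₀ hF (η ≫ e.inv)
  have hp' : ∀ n, p ≫ Formal.modPowπ I (n + 1) F ≫ e.hom.app (op n) = π n := fun n => by
    rw [← Category.assoc, ← hp n, Category.assoc, NatTrans.comp_app, Category.assoc, Iso.inv_hom_id_app,
      Category.comp_id]
    exact hα n
  have hpe : Epi p := by
    have hC : Coh.IsCoh (cokernel p) := QC.isCoh_cokernel hM₀.1 hF p
    refine Preadditive.epi_of_isZero_cokernel p ((IsZero.iff_id_eq_zero _).2 ?_)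
    refine eq_zero_of_completion I hC hC _ fun n => ?_
    rw [Category.id_comp]
    obtain ⟨g, hg⟩ := W7Exist.exists_desc_modPow I (n + 1) (cokernel.π p ≫ Formal.modPowπ I (n + 1) (cokernel p))
      fun a ha => by
        rw [← Category.assoc, W7Cech.smulMod_natural, Category.assoc, W7Exist.smulMod_π I (n + 1) _ a ha, comp_zero]
    haveI := hπe n
    have h1 : π n ≫ e.inv.app (op n) ≫ g = 0 := by
      rw [← hp' n]
      simp only [Category.assoc, Iso.hom_inv_id_app_assoc]
      exact (congrArg (p ≫ ·) hg).trans (by rw [← Category.assoc, cokernel.condition, zero_comp])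
    have h2 : g = 0 := by
      rw [← cancel_epi (e.inv.app (op n)), ← cancel_epi (π n), comp_zero, comp_zero]
      exact h1
    rw [← cancel_epi (cokernel.π p), ← hg, h2, comp_zero, comp_zero]
  have hmono : Mono (Formal.smulMod A F t) := by
    refine Preadditive.mono_of_kernel_zero ?_
    refine eq_zero_of_completion I (QC.isCoh_kernel hF hF.1 _) hF _ fun n => ?_
    let u := kernel.ι (Formal.smulMod A F t) ≫ Formal.modPowπ I (n + 1 + 1) F ≫ e.hom.app (op (n + 1))
    have hu : u ≫ Formal.smulMod A (G.obj (op (n + 1))) t = 0 := by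
      simp only [u, Category.assoc]
      rw [← W7Cech.smulMod_natural, ← Category.assoc (Formal.modPowπ I (n + 1 + 1) F), ← W7Cech.smulMod_natural,
        Category.assoc, ← Category.assoc, kernel.condition, zero_comp]
    haveI := hτm n
    have h1 : u ≫ G.map (homOfLE (Nat.le_succ n)).op = 0 := by
      rw [← cancel_mono (τ n), Category.assoc, hτ, hu, zero_comp]
    have h2 : (kernel.ι (Formal.smulMod A F t) ≫ Formal.modPowπ I (n + 1) F) ≫ e.hom.app (op n) = 0 := by
      rw [← h1]
      simp only [u, Category.assoc]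
      rw [← e.hom.naturality, W7Exist.completion_map_succ]
      refine congrArg (kernel.ι _ ≫ ·) ?_
      refine Eq.trans ?_ (Category.assoc _ _ _)
      exact (congrArg (· ≫ e.hom.app (op n)) (Formal.modPowπ_trans I (n + 1) F)).symm
    rwa [← cancel_mono (e.hom.app (op n)), zero_comp]
  exact ⟨F, p, hF, hpe, hmono, e.app (op 0), hp' 0⟩

end Groth.Agent.TFOneLib
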