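import Groth.Agent.TFOneLib.Setup
import Groth.Agent.FlatQuotExt.Main
import Groth.Agent.W7Exist.System

/-!
Flatness over a discrete valuation ring means no torsion for the uniformiser.
-/

set_option autoImplicit false
set_option linter.style.haveILetI false
set_option linter.unusedSectionVars false
set_option backward.isDefEq.respectTransparency false
set_option backward.isDefEq.respectTransparency.types false

universe u

open CategoryTheory CategoryTheory.Limits AlgebraicGeometry TopologicalSpace Opposite

noncomputable section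

namespace Groth.Agent.TFOneLib

theorem smulMod_one {A : Type u} [CommRing A] {X : Scheme.{u}} [X.Over (Spec (CommRingCat.of A))] (M : X.Modules) :
    Formal.smulMod A M 1 = 𝟙 M := by
  refine Scheme.Modules.hom_ext _ _ fun W => ?_
  ext z
  change W7Cech.secRing A W (1 : A) • (show Γ(M, W) from z) = z
  rw [map_one, one_smul]

/-- All nonzero scalars act injectively when the uniformiser does. -/
theorem mono_smulMod_of_uniformiser {R : Type u} [CommRing R] [IsDomain R] [IsDiscreteValuationRing R]
    {X : Scheme.{u}} [X.Over (Spec (CommRingCat.of R))] {M : X.Modules} {t : R} (ht : Irreducible t)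
    [Mono (Formal.smulMod R M t)] {a : R} (ha : a ≠ 0) : Mono (Formal.smulMod R M a) := by
  obtain ⟨n, u, rfl⟩ := IsDiscreteValuationRing.eq_unit_mul_pow_irreducible ha ht
  rw [← W7Exist.smulMod_comp]
  haveI : IsIso (Formal.smulMod R M (u : R)) := ⟨Formal.smulMod R M (↑u⁻¹ : R),
    by rw [W7Exist.smulMod_comp, Units.inv_mul, smulMod_one], by rw [W7Exist.smulMod_comp, Units.mul_inv, smulMod_one]⟩
  haveI : Mono (Formal.smulMod R M (t ^ n)) := by
    clear ha
    induction n with
    | zero => rw [pow_zero, smulMod_one]; infer_instance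
    | succ n ih =>
      haveI := ih
      rw [pow_succ, ← W7Exist.smulMod_comp]
      exact mono_comp _ _
  exact mono_comp _ _

/-- No `t`-torsion implies flat. -/
theorem isFlatOver_of_mono_smulMod {R : Type u} [CommRing R] [IsDomain R] [IsDiscreteValuationRing R]
    {X : Scheme.{u}} (f : X ⟶ Spec (CommRingCat.of R)) {M : X.Modules} (hM : Coh.IsQCoh M) {t : R}
    (ht : Irreducible t)
    (h : letI : X.Over (Spec (CommRingCat.of R)) := ⟨f⟩; Mono (Formal.smulMod R M t)) :
    FlatMod.IsFlatOver f M := by
  letI : X.Over (Spec (CommRingCat.of R)) := ⟨f⟩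
  haveI : Mono (Formal.smulMod R M t) := h
  intro x
  obtain ⟨V, hV, hxV, -⟩ := exists_isAffineOpen_mem_and_subset (X := X) (x := x) (U := ⊤) trivial
  have hle : V ≤ f ⁻¹ᵁ (⊤ : (Spec (CommRingCat.of R)).Opens) := le_top
  refine (FlatModB.flat_sections_iff f M hM hV (isAffineOpen_top _) hle).1 ?_ x hxV
  letI := FlatModB.secModule f M V ⊤ hle
  let e : Γ(Spec (CommRingCat.of R), ⊤) ≃+* R :=
    (Scheme.ΓSpecIso (CommRingCat.of R)).commRingCatIsoToRingEquiv
  haveI : IsDomain Γ(Spec (CommRingCat.of R), ⊤) := e.injective.isDomain e.toRingHom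
  haveI : IsPrincipalIdealRing Γ(Spec (CommRingCat.of R), ⊤) :=
    IsPrincipalIdealRing.of_surjective e.symm.toRingHom e.symm.surjective
  rw [Module.Flat.flat_iff_torsion_eq_bot_of_isBezout, eq_bot_iff]
  rintro s ⟨⟨r, hr⟩, hrs⟩
  have ha : e r ≠ 0 := fun h => nonZeroDivisors.ne_zero hr (e.map_eq_zero_iff.1 h)
  haveI := mono_smulMod_of_uniformiser (M := M) ht ha
  refine (Submodule.mem_bot _).2 (FlatQuotExt.app_injective_of_mono (Formal.smulMod R M (e r)) V
    (Eq.trans ?_ (map_zero _).symm))
  have h1 : (Formal.smulMod R M (e r)).app V s = f.appLE ⊤ V hle r • s := by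
    change W7Cech.secRing R V (e r) • s = _
    refine congrArg (· • s) ?_
    change X.presheaf.map (homOfLE (le_top : V ≤ ⊤)).op
      (f.appTop ((Scheme.ΓSpecIso (CommRingCat.of R)).inv.hom (e r))) = _
    rw [show (Scheme.ΓSpecIso (CommRingCat.of R)).inv.hom (e r) = r from e.symm_apply_apply r]
    rfl
  exact h1.trans hrs

/-- Submodules of modules without torsion have none. -/
theorem mono_smulMod_of_mono {A : Type u} [CommRing A] {X : Scheme.{u}} [X.Over (Spec (CommRingCat.of A))]
    {M N : X.Modules} (i : M ⟶ N) [Mono i] (a : A) [Mono (Formal.smulMod A N a)] :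
    Mono (Formal.smulMod A M a) := by
  haveI : Mono (Formal.smulMod A M a ≫ i) := by
    rw [W7Cech.smulMod_natural]
    exact mono_comp _ _
  exact mono_of_mono _ i

end Groth.Agent.TFOneLib
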