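import Groth.Agent.TFOneLib.Chain
import Groth.Agent.TFOneLib.Algebraize
import Groth.Agent.TFOneLib.FlatCrit
import Groth.Agent.TFOneLib.Family
import Groth.Agent.RelPCS.FlatBase

/-!
Towers of decomposed modifications and their limit quotient.
-/

set_option autoImplicit false
set_option linter.style.haveILetI false
set_option linter.unusedSectionVars false
set_option backward.isDefEq.respectTransparency false
set_option backward.isDefEq.respectTransparency.types false

universe u

open CategoryTheory CategoryTheory.Limits AlgebraicGeometry TopologicalSpace Opposite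

noncomputable section

namespace Groth.Agent.TFOneLib

/-- When the modification decomposes, multiplication identifies the quotients on `Y`. -/
theorem isIso_mul_of_decomp {X : Scheme.{u}} [IsLocallyNoetherian X] [IsReduced X] [NoetherianSpace X]
    {M N GY G1 G2 : X.Modules} {Y Y' : Set X} {πY : M ⟶ GY} {α : GY ⟶ N} {β : N ⟶ kernel πY} {w : α ≫ β = 0}
    (hM : TFOne.IsTF1 X M) (hGY : TFOne.IsQuotOn X M Y GY πY) (hS : (ShortComplex.mk α β w).ShortExact)
    {π1 : N ⟶ G1} {π2 : N ⟶ G2} (hG2 : TFOne.IsQuotOn X N Y' G2 π2)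
    (hY' : ∀ η ∈ genericPoints X, (η ∈ Y' ↔ η ∉ Y)) [IsIso (biprod.lift π1 π2)] : IsIso (α ≫ π1) := by
  have hN := mod_isTF1 hM hGY hS
  obtain ⟨hKq, hgK⟩ := mod_kernel_quot hM hGY hS
  obtain ⟨a, ha, -⟩ := exists_desc hN.2.2 hKq hG2 fun η hη h => (hgK η hη).2 ((hY' η hη).1 h)
  obtain ⟨b, hb, -⟩ := exists_desc hN.2.2 hG2 hKq fun η hη h => (hY' η hη).2 ((hgK η hη).1 h)
  have h2 : α ≫ π2 = 0 := by rw [← ha, ← Category.assoc, w, zero_comp]
  let φ := biprod.lift π1 π2
  let v : G1 ⟶ N := biprod.inl ≫ inv φ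
  have hv : v ≫ φ = biprod.inl := by simp [v]
  have hv1 : v ≫ π1 = 𝟙 _ := by
    have h := congrArg (· ≫ biprod.fst) hv
    simp only [φ, Category.assoc, biprod.lift_fst, biprod.inl_fst] at h
    exact h
  have hv2 : v ≫ π2 = 0 := by
    have h := congrArg (· ≫ biprod.snd) hv
    simp only [φ, Category.assoc, biprod.lift_snd, biprod.inl_snd] at h
    exact h
  have hvβ : v ≫ β = 0 := by rw [← hb, ← Category.assoc, hv2, zero_comp]
  haveI := hS.mono_f
  let s : G1 ⟶ GY := hS.exact.lift v hvβ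
  have hs : s ≫ α = v := hS.exact.lift_f v hvβ
  refine ⟨s, ?_, by rw [← Category.assoc, hs, hv1]⟩
  rw [← cancel_mono α, Category.assoc, hs, Category.id_comp, ← cancel_mono φ, Category.assoc, hv]
  apply biprod.hom_ext <;> simp [φ, h2]

variable {R : Type u} [CommRing R] [IsDomain R] [IsDiscreteValuationRing R]
  {X : Scheme.{u}} [X.Over (Spec (CommRingCat.of R))] {t : R}
  {Xs : Scheme.{u}} (i : Xs ⟶ X) [IsClosedImmersion i] [IsLocallyNoetherian Xs] [IsReduced Xs]
  [NoetherianSpace Xs]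
  (hi : ∀ V : X.affineOpens, i.ker.ideal V = Ideal.span {W7Cech.secRing R V.1 t})

include hi

/-- One step of a decomposed tower. -/
theorem exists_step {I N : X.Modules} [Mono (Formal.smulMod R I t)] {G0 G1 G2 : Xs.Modules} {Y Y' : Set Xs}
    (p : (Scheme.Modules.pullback i).obj I ⟶ G0) (hI : TFOne.IsTF1 Xs ((Scheme.Modules.pullback i).obj I))
    (hG0 : TFOne.IsQuotOn Xs ((Scheme.Modules.pullback i).obj I) Y G0 p) (hN : N = kernel (modQ i p))
    (p1 : (Scheme.Modules.pullback i).obj N ⟶ G1) (p2 : (Scheme.Modules.pullback i).obj N ⟶ G2)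
    (hG2 : TFOne.IsQuotOn Xs ((Scheme.Modules.pullback i).obj N) Y' G2 p2)
    (hY' : ∀ η ∈ genericPoints Xs, (η ∈ Y' ↔ η ∉ Y)) [IsIso (biprod.lift p1 p2)] :
    ∃ (j : N ⟶ I) (m : I ⟶ N) (θ : G0 ⟶ G1) (w : j ≫ modQ i p = 0), Mono j ∧
      (ShortComplex.mk j (modQ i p) w).Exact ∧ Epi (modQ i p) ∧ m ≫ j = Formal.smulMod R I t ∧
      IsIso θ ∧ m ≫ modQ i p1 = modQ i p ≫ (Scheme.Modules.pushforward i).map θ := by
  subst hN
  haveI := hG0.1
  haveI := GrothSS.preservesFiniteColimits_push i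
  obtain ⟨α, β, w, hS, hmul⟩ := exists_modification_mul i hi p
  haveI := isIso_mul_of_decomp hI hG0 hS (π1 := p1) hG2 hY'
  haveI := epi_unit i hi I
  let m : I ⟶ kernel (modQ i p) := kernel.lift _ (Formal.smulMod R I t) (by
    rw [← Category.assoc, smulMod_unit i hi I, zero_comp])
  refine ⟨kernel.ι _, m, α ≫ p1, kernel.condition _, inferInstance, ShortComplex.exact_kernel _, epi_comp _ _,
    kernel.lift_ι _ _ _, inferInstance, ?_⟩
  let adj := Scheme.Modules.pullbackPushforwardAdjunction i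
  change m ≫ adj.unit.app _ ≫ (Scheme.Modules.pushforward i).map p1 =
    (adj.unit.app I ≫ (Scheme.Modules.pushforward i).map p) ≫ (Scheme.Modules.pushforward i).map (α ≫ p1)
  rw [Category.assoc, ← Functor.map_comp, ← Category.assoc p, hmul m (kernel.lift_ι _ _ _), Functor.map_comp,
    ← Category.assoc m, ← Category.assoc (adj.unit.app I)]
  exact congrArg (· ≫ _) (adj.unit.naturality m)

/-- The modification of a torsion-free rank one module is again one. -/
theorem step_isTF1 {I N : X.Modules} [Mono (Formal.smulMod R I t)] [IsLocallyNoetherian X] {G0 : Xs.Modules}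
    {Y : Set Xs} (p : (Scheme.Modules.pullback i).obj I ⟶ G0) (hIc : Coh.IsCoh I)
    (hI : TFOne.IsTF1 Xs ((Scheme.Modules.pullback i).obj I))
    (hG0 : TFOne.IsQuotOn Xs ((Scheme.Modules.pullback i).obj I) Y G0 p) (hN : N = kernel (modQ i p)) :
    Coh.IsCoh N ∧ Mono (Formal.smulMod R N t) ∧ TFOne.IsTF1 Xs ((Scheme.Modules.pullback i).obj N) := by
  subst hN
  haveI := hG0.1
  haveI : G0.IsQuasicoherent := hG0.2.1.1
  obtain ⟨α, β, w, hS⟩ := exists_modification i hi p
  exact ⟨QC.isCoh_kernel hIc (QC.isCoh_pushforward_of_isFinite i hG0.2.1.2).1 _,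
    mono_smulMod_of_mono (kernel.ι (modQ i p)) t, mod_isTF1 hI hG0 hS⟩

/-- The chain of a decomposed tower. -/
theorem exists_mulChain [IsLocallyNoetherian X] (In : ℕ → X.Modules) (hc : Coh.IsCoh (In 0))
    (hm : Mono (Formal.smulMod R (In 0) t)) (hs : TFOne.IsTF1 Xs ((Scheme.Modules.pullback i).obj (In 0)))
    (Y Y' : Set Xs) (hY' : ∀ η ∈ genericPoints Xs, (η ∈ Y' ↔ η ∉ Y))
    (G G' : ℕ → Xs.Modules) (π : ∀ n, (Scheme.Modules.pullback i).obj (In n) ⟶ G n)
    (π' : ∀ n, (Scheme.Modules.pullback i).obj (In n) ⟶ G' n)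
    (hG : ∀ n, TFOne.IsQuotOn Xs ((Scheme.Modules.pullback i).obj (In n)) Y (G n) (π n))
    (hG' : ∀ n, TFOne.IsQuotOn Xs ((Scheme.Modules.pullback i).obj (In n)) Y' (G' n) (π' n))
    (hstep : ∀ n, In (n + 1) = kernel (modQ i (π n))) (hdec : ∀ n, IsIso (biprod.lift (π n) (π' n))) :
    (∀ n, Coh.IsCoh (In n)) ∧ ∃ C : MulChain (X := X) t, C.M = In ∧
      ∃ e : C.Q 0 ≅ (Scheme.Modules.pushforward i).obj (G 0), ∃ h : C.M 0 = In 0,
        C.q 0 ≫ e.hom = eqToHom h ≫ modQ i (π 0) := by
  have hall : ∀ n, Coh.IsCoh (In n) ∧ Mono (Formal.smulMod R (In n) t) ∧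
      TFOne.IsTF1 Xs ((Scheme.Modules.pullback i).obj (In n)) := fun n => by
    induction n with
    | zero => exact ⟨hc, hm, hs⟩
    | succ n ih => haveI := ih.2.1; exact step_isTF1 i hi (π n) ih.1 ih.2.2 (hG n) (hstep n)
  have hst := fun n => haveI := (hall n).2.1; haveI := hdec (n + 1)
    exists_step i hi (π n) (hall n).2.2 (hG n) (hstep n) (π (n + 1)) (π' (n + 1)) (hG' (n + 1)) hY'
  choose j m θ w hj hex hq hmj hθ hcomm using hst
  refine ⟨fun n => (hall n).1, ⟨In, fun n => (Scheme.Modules.pushforward i).obj (G n), j, fun n => modQ i (π n), m,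
    fun n => (Scheme.Modules.pushforward i).map (θ n), w, hj, hq, hex, hmj, hcomm,
    fun n => by haveI := hθ n; exact inferInstance⟩, rfl, Iso.refl _, rfl, ?_⟩
  simp

omit hi

/-- Pullback along a map on which `I` vanishes forgets the reduction modulo `I`. -/
theorem isIso_pullback_modPowπ {A : Type u} [CommRing A] {X Z : Scheme.{u}} [X.Over (Spec (CommRingCat.of A))]
    (I : Ideal A) (n : ℕ) (i : Z ⟶ X) (M : X.Modules)
    (h : ∀ a ∈ I ^ n, Formal.smulMod A M a ≫ (Scheme.Modules.pullbackPushforwardAdjunction i).unit.app M = 0) :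
    IsIso ((Scheme.Modules.pullback i).map (Formal.modPowπ I n M)) := by
  let adj := Scheme.Modules.pullbackPushforwardAdjunction i
  obtain ⟨g, hg⟩ := W7Exist.exists_desc_modPow I n (adj.unit.app M) h
  haveI : Epi ((Scheme.Modules.pullback i).map (Formal.modPowπ I n M)) := by
    haveI := adj.leftAdjoint_preservesColimits
    infer_instance
  let g' := (adj.homEquiv _ _).symm g
  have e1 : (Scheme.Modules.pullback i).map (Formal.modPowπ I n M) ≫ g' = 𝟙 _ := by
    have h1 : g' = (Scheme.Modules.pullback i).map g ≫ adj.counit.app _ := adj.homEquiv_counit _ _ _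
    rw [h1, ← Category.assoc, ← Functor.map_comp]
    exact (congrArg (fun f => (Scheme.Modules.pullback i).map f ≫ adj.counit.app _) hg).trans
      (adj.left_triangle_components M)
  exact ⟨g', e1, by rw [← cancel_epi ((Scheme.Modules.pullback i).map (Formal.modPowπ I n M)), ← Category.assoc, e1,
    Category.id_comp, Category.comp_id]⟩

/-- The limit quotient of a decomposed tower over a complete ring containing the base. -/
theorem exists_limit_quotient {A : Type u} [CommRing A] [IsNoetherianRing A] (φ : R →+* A)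
    [IsAdicComplete (Ideal.span {φ t}) A] {Xh : Scheme.{u}} [Xh.Over (Spec (CommRingCat.of A))]
    [IsProper (Xh ↘ Spec (CommRingCat.of A))] (g : Xh ⟶ X) [Flat g]
    (hg : g ≫ (X ↘ Spec (CommRingCat.of R)) = (Xh ↘ Spec (CommRingCat.of A)) ≫ Spec.map (CommRingCat.ofHom φ))
    (ih : Xs ⟶ Xh) (hih : ih ≫ g = i) [IsClosedImmersion ih]
    (hik : ∀ V : Xh.affineOpens, ih.ker.ideal V = Ideal.span {W7Cech.secRing A V.1 (φ t)})
    [IsLocallyNoetherian X] (C : MulChain (X := X) t) (hM : ∀ n, Coh.IsCoh (C.M n)) (G0 : Xs.Modules)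
    (e0 : C.Q 0 ≅ (Scheme.Modules.pushforward i).obj G0) (p0 : (Scheme.Modules.pullback i).obj (C.M 0) ⟶ G0)
    (hp0 : C.q 0 ≫ e0.hom = modQ i p0) :
    ∃ (F : Xh.Modules) (p : (Scheme.Modules.pullback g).obj (C.M 0) ⟶ F), Coh.IsCoh F ∧ Epi p ∧
      Mono (Formal.smulMod A F (φ t)) ∧ ∃ e : (Scheme.Modules.pullback ih).obj F ≅ G0,
        (Scheme.Modules.pullback ih).map p ≫ e.hom =
          (Scheme.Modules.pullbackComp ih g).hom.app (C.M 0) ≫
            (Scheme.Modules.pullbackCongr hih).hom.app (C.M 0) ≫ p0 := by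
  let P := Scheme.Modules.pullback g
  haveI := RelPCS.preservesFiniteLimits_pullback g
  haveI := (Scheme.Modules.pullbackPushforwardAdjunction g).leftAdjoint_preservesColimits.{0, 0}
  haveI : IsLocallyNoetherian Xh := LocallyOfFiniteType.isLocallyNoetherian (Xh ↘ Spec (CommRingCat.of A))
  have hsys := W7Exist.isCohFormal_pull (φ := φ) hg (Ideal.span {t}) (C.isCohFormal hM)
  rw [Ideal.map_span, Set.image_singleton] at hsys
  have hmap : ∀ n, (C.sys ⋙ P).map (homOfLE (Nat.le_succ n)).op = P.map (C.trans n) := fun n =>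
    congrArg P.map (C.sys_map n)
  have hM0 : Coh.IsCoh (P.obj (C.M 0)) := QC.isCoh_pullback g (hM 0)
  obtain ⟨F, p, hF, hp, hm, e, he⟩ := algebraize_quotient (φ t) (M₀ := P.obj (C.M 0)) hM0 (C.sys ⋙ P) hsys
    (fun n => P.map (C.p n)) (fun n => inferInstanceAs (Epi (P.map (C.p n))))
    (fun n => by rw [hmap]; exact (P.map_comp _ _).symm.trans (congrArg P.map (C.p_trans n)))
    (fun n => P.map (C.τ n)) (fun n => inferInstanceAs (Mono (P.map (C.τ n))))
    (fun n => by
      rw [hmap]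
      exact (P.map_comp _ _).symm.trans ((congrArg P.map (C.trans_τ n)).trans (W7Exist.pull_smulMod hg _ t)))
  obtain ⟨b, hb⟩ := C.exists_bottom
  haveI := GrothSS.isIso_counit_push i
  let adj := Scheme.Modules.pullbackPushforwardAdjunction i
  haveI : IsIso ((Scheme.Modules.pullback ih).map (Formal.modPowπ (Ideal.span {φ t}) 1 F)) := by
    refine isIso_pullback_modPowπ _ 1 ih F fun a ha => ?_
    rw [pow_one, Ideal.mem_span_singleton] at ha
    obtain ⟨c, rfl⟩ := ha
    rw [mul_comm, ← W7Exist.smulMod_comp, Category.assoc]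
    exact (congrArg (Formal.smulMod A F (φ t) ≫ ·) (W7Cech.smulMod_natural A _ c)).trans
      ((Category.assoc _ _ _).symm.trans ((congrArg (· ≫ _) (smulMod_unit ih hik F)).trans zero_comp))
  let ε := adj.counit.app G0
  let E : (Scheme.Modules.pullback ih).obj F ≅ G0 :=
    asIso ((Scheme.Modules.pullback ih).map (Formal.modPowπ (Ideal.span {φ t}) 1 F)) ≪≫
      (Scheme.Modules.pullback ih).mapIso e ≪≫ (Scheme.Modules.pullbackComp ih g).app (C.G 0) ≪≫
      (Scheme.Modules.pullbackCongr hih).app (C.G 0) ≪≫ (Scheme.Modules.pullback i).mapIso (b ≪≫ e0) ≪≫ asIso ε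
  refine ⟨F, p, hF, hp, hm, E, ?_⟩
  have h1 : (Scheme.Modules.pullback ih).map p ≫
      (Scheme.Modules.pullback ih).map (Formal.modPowπ (Ideal.span {φ t}) 1 F) ≫
        (Scheme.Modules.pullback ih).map e.hom = (Scheme.Modules.pullback ih).map (P.map (C.p 0)) := by
    rw [← Functor.map_comp, ← Functor.map_comp, he]
  have h2 : (Scheme.Modules.pullback i).map (C.p 0) ≫ (Scheme.Modules.pullback i).map (b ≪≫ e0).hom ≫ ε = p0 := by
    rw [← Category.assoc, ← Functor.map_comp, Iso.trans_hom, ← Category.assoc (C.p 0), hb, hp0]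
    exact (adj.homEquiv_counit _ _ _).symm.trans
      ((congrArg (adj.homEquiv _ _).symm (adj.homEquiv_unit _ _ _).symm).trans (Equiv.symm_apply_apply _ _))
  calc (Scheme.Modules.pullback ih).map p ≫ E.hom
      = ((Scheme.Modules.pullback ih).map (P.map (C.p 0)) ≫ (Scheme.Modules.pullbackComp ih g).hom.app (C.G 0)) ≫
          (Scheme.Modules.pullbackCongr hih).hom.app (C.G 0) ≫
            (Scheme.Modules.pullback i).map (b ≪≫ e0).hom ≫ ε := by
        rw [← h1]; simp [E]
    _ = ((Scheme.Modules.pullbackComp ih g).hom.app (C.M 0) ≫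
          (Scheme.Modules.pullback (ih ≫ g)).map (C.p 0)) ≫
          (Scheme.Modules.pullbackCongr hih).hom.app (C.G 0) ≫
            (Scheme.Modules.pullback i).map (b ≪≫ e0).hom ≫ ε :=
        congrArg (· ≫ _) ((Scheme.Modules.pullbackComp ih g).hom.naturality (C.p 0))
    _ = _ := by
        simp only [Category.assoc]
        rw [← Category.assoc ((Scheme.Modules.pullback (ih ≫ g)).map (C.p 0)),
          (Scheme.Modules.pullbackCongr hih).hom.naturality (C.p 0), Category.assoc, h2]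

end Groth.Agent.TFOneLib
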