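import Groth.Agent.TFOneLib.Elem
import Groth.Agent.CurveRR.Multi2
import Groth.Agent.DvrDom.ClosedProper
import Groth.Agent.KFlat.ClosedImm

/-!
Degrees on subcurves are sums over components.
-/

set_option autoImplicit false
set_option linter.style.haveILetI false
set_option linter.unusedSectionVars false
set_option backward.isDefEq.respectTransparency false

universe u

open CategoryTheory CategoryTheory.Limits AlgebraicGeometry TopologicalSpace Opposite
open Groth.Agent.CurveRR.Multi (D lenAt compSum degOn)

noncomputable section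

namespace Groth.Agent.TFOneLib

variable (k : Type u) [Field k] {X : Scheme.{u}} [X.Over (Spec (CommRingCat.of k))]

open Classical in
/-- The sum of the degrees of `E` on the components with generic point in `T`. -/
def dsum (r : ℕ) (E : X.Modules) (T : Set X) : ℤ :=
  ∑ᶠ Z : irreducibleComponents (X : Type u), if Z.2.1.genericPoint ∈ T then
    degOn k (Scheme.IdealSheafData.vanishingIdeal (Devissage.Zc Z.2.1.genericPoint)) r E else 0

theorem genericPoint_mem (Z : irreducibleComponents (X : Type u)) : Z.2.1.genericPoint ∈ genericPoints X := by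
  change closure {Z.2.1.genericPoint} ∈ irreducibleComponents (X : Type u)
  rw [(Z.2.1.isGenericPoint_genericPoint (isClosed_of_mem_irreducibleComponents _ Z.2)).def]
  exact Z.2

theorem dsum_congr {r : ℕ} {E : X.Modules} {S T : Set X} (h : ∀ η ∈ genericPoints X, (η ∈ S ↔ η ∈ T)) :
    dsum k r E S = dsum k r E T := by
  classical
  refine finsum_congr fun Z => ?_
  simp only [h _ (genericPoint_mem Z)]

theorem dsum_eq_zero {r : ℕ} {E : X.Modules} {T : Set X} (h : ∀ η ∈ genericPoints X, η ∉ T) : dsum k r E T = 0 := by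
  classical
  exact finsum_eq_zero_of_forall_eq_zero fun Z => if_neg (h _ (genericPoint_mem Z))

theorem dsum_add [NoetherianSpace X] {r : ℕ} {E : X.Modules} {A B U W : Set X}
    (hU : ∀ η ∈ genericPoints X, (η ∈ U ↔ η ∈ A ∨ η ∈ B))
    (hW : ∀ η ∈ genericPoints X, (η ∈ W ↔ η ∈ A ∧ η ∈ B)) :
    dsum k r E U + dsum k r E W = dsum k r E A + dsum k r E B := by
  classical
  haveI := (NoetherianSpace.finite_irreducibleComponents (α := X)).fintype
  simp only [dsum, finsum_eq_sum_of_fintype, ← Finset.sum_add_distrib]
  refine Finset.sum_congr rfl fun Z _ => ?_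
  simp only [hU _ (genericPoint_mem Z), hW _ (genericPoint_mem Z)]
  by_cases hA : Z.2.1.genericPoint ∈ A <;> by_cases hB : Z.2.1.genericPoint ∈ B <;> simp [hA, hB]

theorem lenAt_structure [IsReduced X] {η : X} (hη : η ∈ genericPoints X) :
    lenAt (Coh.structureModule X) η = 1 := by
  letI := (isField_stalk hη).toField
  rw [lenAt, CurveRR.Multi.length_stalkUnit, Module.length_eq_one]
  rfl

theorem lenAt_push [IsReduced X] {T : Scheme.{u}} (j : T ⟶ X) [IsClosedImmersion j] {η : X}
    (hη : η ∈ genericPoints X) (hT : η ∈ Set.range j) :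
    lenAt ((Scheme.Modules.pushforward j).obj (Coh.structureModule T)) η = 1 := by
  obtain ⟨t, rfl⟩ := hT
  letI := (isField_stalk hη).toField
  let σ := (j.stalkMap t).hom
  have hσs : Function.Surjective σ := j.stalkMap_surjective t
  have hσi : Function.Injective σ := σ.injective
  obtain ⟨e⟩ := CurveRR.Multi.nonempty_stalk_equiv (TMul.isInvertible_structureModule (X := T)) t
  let φ := KFlat.pushStalk j t (Coh.structureModule T)
  have hφ := KFlat.pushStalk_bijective j t (Coh.structureModule T)
  have hnt : Nontrivial (((Scheme.Modules.pushforward j).obj (Coh.structureModule T)).presheaf.stalk (j t)) := by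
    obtain ⟨g, hg⟩ := hφ.2 (e 1)
    refine ⟨⟨g, 0, fun h => one_ne_zero (α := T.presheaf.stalk t) (e.map_eq_zero_iff.1 ?_)⟩⟩
    exact hg.symm.trans ((congrArg φ h).trans (map_zero φ))
  haveI : IsSimpleModule (X.presheaf.stalk (j t))
      (((Scheme.Modules.pushforward j).obj (Coh.structureModule T)).presheaf.stalk (j t)) := by
    rw [isSimpleModule_iff_toSpanSingleton_surjective]
    refine ⟨hnt, fun m hm m' => ?_⟩
    obtain ⟨a, ha⟩ := hσs (e.symm (φ m))
    obtain ⟨b, hb⟩ := hσs (e.symm (φ m'))
    have ha0 : a ≠ 0 := fun h => hm (hφ.1 ((e.symm.map_eq_zero_iff.1 (by rw [← ha, h, map_zero])).trans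
      (map_zero φ).symm))
    refine ⟨b / a, hφ.1 ?_⟩
    change φ ((b / a) • m) = φ m'
    refine (KFlat.pushStalk_smul j t _ (b / a) m).trans (e.symm.injective ?_)
    refine ((e.symm.map_smul _ _).trans ?_).trans hb
    rw [← ha, smul_eq_mul, ← map_mul, div_mul_cancel₀ _ ha0]
  rw [lenAt, Module.length_eq_one]
  rfl

variable [IsProper (X ↘ Spec (CommRingCat.of k))] [IsReduced X]

/-- The componentwise formula for a coherent module with lengths zero or one. -/
theorem D_eq_dsum (hpure : ∀ C ∈ irreducibleComponents (X : Type u), topologicalKrullDim C = 1) {r : ℕ}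
    {E : X.Modules} (hE : FlatMod.IsFinLocFreeOfRank r E) {F : X.Modules} (hF : Coh.IsCoh F) {T : Set X}
    (h : ∀ η ∈ genericPoints X, (η ∈ T → lenAt F η = 1) ∧ (η ∉ T → η ∉ CohB1.support F)) :
    D k r E F = dsum k r E T := by
  classical
  haveI := CurveRR.isNoetherian_of_proper k X
  haveI := (NoetherianSpace.finite_irreducibleComponents (α := X)).fintype
  rw [CurveRR.Multi.D_eq_compSum k r E (dim_le_one hpure) hE F hF, compSum, dsum, finsum_eq_sum_of_fintype]
  refine Finset.sum_congr rfl fun Z _ => ?_
  rw [if_pos (hpure Z.1 Z.2)]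
  by_cases hT : Z.2.1.genericPoint ∈ T
  · rw [if_pos hT, (h _ (genericPoint_mem Z)).1 hT, one_mul]
  · rw [if_neg hT, CurveRR.Multi.lenAt_eq_zero ((h _ (genericPoint_mem Z)).2 hT), zero_mul]

theorem deg_eq_dsum_univ (hpure : ∀ C ∈ irreducibleComponents (X : Type u), topologicalKrullDim C = 1) {r : ℕ}
    {E : X.Modules} (hE : FlatMod.IsFinLocFreeOfRank r E) : Curv2.deg k X E r = dsum k r E Set.univ := by
  haveI := CurveRR.isNoetherian_of_proper k X
  have h := D_eq_dsum k hpure hE (F := Coh.structureModule X) RefStalk.isCoh_structureModule (T := Set.univ)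
    fun η hη => ⟨fun _ => lenAt_structure hη, fun h => absurd trivial h⟩
  rw [D, CurveRR.euler_eq_of_iso (TMul.leftUnitIso E)] at h
  exact h

/-- The degree of the restriction to a reduced closed subscheme. -/
theorem deg_closed (hpure : ∀ C ∈ irreducibleComponents (X : Type u), topologicalKrullDim C = 1) {r : ℕ}
    {E : X.Modules} (hE : FlatMod.IsFinLocFreeOfRank r E) {T : Scheme.{u}} (j : T ⟶ X) [IsClosedImmersion j] :
    letI : T.Over (Spec (CommRingCat.of k)) := ⟨j ≫ (X ↘ Spec (CommRingCat.of k))⟩
    Curv2.deg k T ((Scheme.Modules.pullback j).obj E) r = dsum k r E (Set.range j) := by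
  letI : T.Over (Spec (CommRingCat.of k)) := ⟨j ≫ (X ↘ Spec (CommRingCat.of k))⟩
  haveI := CurveRR.isNoetherian_of_proper k X
  haveI := LocallyOfFiniteType.isLocallyNoetherian j
  have hOc : Coh.IsCoh (Coh.structureModule T) := RefStalk.isCoh_structureModule
  haveI : (Coh.structureModule T).IsQuasicoherent := hOc.1
  have h := D_eq_dsum k hpure hE (F := (Scheme.Modules.pushforward j).obj (Coh.structureModule T))
    (QC.isCoh_pushforward_of_isFinite j hOc.2)
    (T := Set.range j) fun η hη => ⟨fun h => lenAt_push j hη h,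
      fun h => notMem_support (KFlat.subsingleton_stalk_push j _ h)⟩
  have e : CohB1.tensorMod ((Scheme.Modules.pushforward j).obj (Coh.structureModule T)) E ≅
      (Scheme.Modules.pushforward j).obj
        (CohB1.tensorMod (Coh.structureModule _) ((Scheme.Modules.pullback j).obj E)) :=
    KFlat.projFormulaIso j _ E
  have hP := CurveRR.Multi.isFinLocFreeOfRank_pullback j hE
  rw [D, CurveRR.euler_eq_of_iso (e ≪≫ (Scheme.Modules.pushforward j).mapIso (TMul.leftUnitIso _)),
    CurveRR.Multi.euler_push k j _ (CurveRR.isCoh_of_rank hP).1,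
    CurveRR.Multi.euler_push k j _ hOc.1] at h
  exact h

/-- The number `β` in componentwise form. -/
theorem rBeta_eq (hpure : ∀ C ∈ irreducibleComponents (X : Type u), topologicalKrullDim C = 1) {r : ℕ}
    {E : X.Modules} (hE : FlatMod.IsFinLocFreeOfRank r E) (T : Set X) (hT : IsClosed T) (G : X.Modules) :
    TFOne.rBeta X k (X ↘ Spec (CommRingCat.of k)) T hT E r G =
      (r : ℤ) * Curv2.euler k X G + dsum k r E T := by
  have hr : Set.range (VecSt.subschι X T hT) = T := by
    rw [Scheme.IdealSheafData.range_subschemeι, Scheme.IdealSheafData.coe_support_vanishingIdeal]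
    rfl
  have h := deg_closed k hpure hE (VecSt.subschι X T hT)
  rw [hr] at h
  unfold TFOne.rBeta
  rw [← h]

end Groth.Agent.TFOneLib
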