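import Groth.Agent.TFOneLib.ExtStable
import Groth.Agent.TFOneLib.Setup
import Groth.Agent.FlatQuotExt.Main
import Groth.Agent.GrothSS.ChangeRings

/-!
Geometric fibres over a discrete valuation ring, the effect of a modification on the generic fibre, and descent
of the torsion-free rank one property from a field extension.
-/

set_option autoImplicit false
set_option linter.style.haveILetI false
set_option linter.unusedSectionVars false
set_option backward.isDefEq.respectTransparency false
set_option backward.isDefEq.respectTransparency.types false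

universe u

open CategoryTheory CategoryTheory.Limits AlgebraicGeometry TopologicalSpace Opposite
open Groth.Agent.WeakAssLib (stalkHom stalkHom_smul)

noncomputable section

namespace Groth.Agent.TFOneLib

/-- A field-valued fibre over a DVR lies over the generic or the special fibre. -/
theorem fibre_cases {R : Type u} [CommRing R] [IsDomain R] [IsDiscreteValuationRing R] {X : Scheme.{u}}
    {f : X ⟶ Spec (CommRingCat.of R)} {Xs : Scheme.{u}}
    {qs : Xs ⟶ Spec (CommRingCat.of (IsLocalRing.ResidueField R))} {i : Xs ⟶ X}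
    (hsq : IsPullback i qs f (Spec.map (CommRingCat.ofHom (IsLocalRing.residue R))))
    {Xg : Scheme.{u}} {qg : Xg ⟶ Spec (CommRingCat.of (FractionRing R))} {j : Xg ⟶ X}
    (hgen : IsPullback j qg f (Spec.map (CommRingCat.ofHom (algebraMap R (FractionRing R)))))
    {Ω : Type u} [Field Ω] (t : Spec (CommRingCat.of Ω) ⟶ Spec (CommRingCat.of R)) {Y : Scheme.{u}} {i' : Y ⟶ X}
    {qY : Y ⟶ Spec (CommRingCat.of Ω)} (sq : IsPullback i' qY f t) :
    (∃ (χ : FractionRing R →+* Ω) (g : Y ⟶ Xg), g ≫ j = i' ∧ IsPullback g qY qg (Spec.map (CommRingCat.ofHom χ)) ∧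
      t = Spec.map (CommRingCat.ofHom χ) ≫ Spec.map (CommRingCat.ofHom (algebraMap R (FractionRing R)))) ∨
    (∃ (χ : IsLocalRing.ResidueField R →+* Ω) (g : Y ⟶ Xs), g ≫ i = i' ∧
      IsPullback g qY qs (Spec.map (CommRingCat.ofHom χ)) ∧
      t = Spec.map (CommRingCat.ofHom χ) ≫ Spec.map (CommRingCat.ofHom (IsLocalRing.residue R))) := by
  obtain ⟨ψ, rfl⟩ : ∃ ψ : R →+* Ω, Spec.map (CommRingCat.ofHom ψ) = t :=
    ⟨(Spec.preimage t).hom, Spec.map_preimage t⟩
  by_cases h : RingHom.ker ψ = ⊥
  · have hinj : Function.Injective ψ := (RingHom.injective_iff_ker_eq_bot ψ).2 h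
    let χ : FractionRing R →+* Ω := IsFractionRing.lift hinj
    have hχ : χ.comp (algebraMap R (FractionRing R)) = ψ :=
      RingHom.ext fun a => IsFractionRing.lift_algebraMap hinj a
    have ht : Spec.map (CommRingCat.ofHom ψ) =
        Spec.map (CommRingCat.ofHom χ) ≫ Spec.map (CommRingCat.ofHom (algebraMap R (FractionRing R))) := by
      rw [← Spec.map_comp, ← CommRingCat.ofHom_comp, hχ]
    refine Or.inl ⟨χ, hgen.lift i' (qY ≫ Spec.map (CommRingCat.ofHom χ)) (by rw [Category.assoc, ← ht, sq.w]),
      hgen.lift_fst _ _ _, ?_, ht⟩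
    exact IsPullback.of_right (cast (congrArg₂ (fun a b => IsPullback a qY f b) (hgen.lift_fst _ _ _).symm ht) sq)
      (hgen.lift_snd _ _ _) hgen
  · haveI : (RingHom.ker ψ).IsPrime := RingHom.ker_isPrime ψ
    have hm : RingHom.ker ψ = IsLocalRing.maximalIdeal R :=
      IsLocalRing.eq_maximalIdeal (Ideal.IsPrime.isMaximal ‹_› h)
    let χ : IsLocalRing.ResidueField R →+* Ω :=
      Ideal.Quotient.lift (IsLocalRing.maximalIdeal R) ψ fun a ha => by rwa [← hm] at ha
    have ht : Spec.map (CommRingCat.ofHom ψ) =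
        Spec.map (CommRingCat.ofHom χ) ≫ Spec.map (CommRingCat.ofHom (IsLocalRing.residue R)) := by
      rw [← Spec.map_comp, ← CommRingCat.ofHom_comp]
      rfl
    refine Or.inr ⟨χ, hsq.lift i' (qY ≫ Spec.map (CommRingCat.ofHom χ)) (by rw [Category.assoc, ← ht, sq.w]),
      hsq.lift_fst _ _ _, ?_, ht⟩
    exact IsPullback.of_right (cast (congrArg₂ (fun a b => IsPullback a qY f b) (hsq.lift_fst _ _ _).symm ht) sq)
      (hsq.lift_snd _ _ _) hsq

/-- A modification does not change the generic fibre. -/
theorem nonempty_iso_generic {R : Type u} [CommRing R] [IsDomain R] [IsDiscreteValuationRing R] {X : Scheme.{u}}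
    {f : X ⟶ Spec (CommRingCat.of R)} {Xs : Scheme.{u}}
    {qs : Xs ⟶ Spec (CommRingCat.of (IsLocalRing.ResidueField R))} {i : Xs ⟶ X} [IsClosedImmersion i]
    (hsq : IsPullback i qs f (Spec.map (CommRingCat.ofHom (IsLocalRing.residue R))))
    {Xg : Scheme.{u}} {qg : Xg ⟶ Spec (CommRingCat.of (FractionRing R))} {j : Xg ⟶ X}
    (hgen : IsPullback j qg f (Spec.map (CommRingCat.ofHom (algebraMap R (FractionRing R)))))
    {I : X.Modules} {G : Xs.Modules} (q : I ⟶ (Scheme.Modules.pushforward i).obj G) :
    Nonempty ((Scheme.Modules.pullback j).obj (kernel q) ≅ (Scheme.Modules.pullback j).obj I) := by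
  haveI := FlatQuotExt.isOpenImmersion_generic R
  haveI : IsOpenImmersion j := MorphismProperty.of_isPullback (P := @IsOpenImmersion) hgen.flip inferInstance
  haveI := RelPCS.preservesFiniteLimits_pullback j
  haveI : (Scheme.Modules.pullback j).Additive := Functor.additive_of_preserves_binary_products _
  let L := Scheme.Modules.pullback j
  have hz : IsZero (L.obj ((Scheme.Modules.pushforward i).obj G)) := by
    refine KFlat.isZero_of_stalks _ fun y => ?_
    have hy : j y ∉ Set.range i := by
      rintro ⟨x, hx⟩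
      have h1 := congrArg (fun φ => φ x) hsq.w
      have h2 := congrArg (fun φ => φ y) hgen.w
      simp only [Scheme.Hom.comp_apply] at h1 h2
      rw [hx, h2] at h1
      have h3 := congrArg PrimeSpectrum.asIdeal h1
      change Ideal.comap (algebraMap R (FractionRing R)) (PrimeSpectrum.asIdeal (qg y)) =
        Ideal.comap (IsLocalRing.residue R) (PrimeSpectrum.asIdeal (qs x)) at h3
      rw [Ideal.eq_bot_of_prime (PrimeSpectrum.asIdeal (qg y)), Ideal.eq_bot_of_prime (PrimeSpectrum.asIdeal (qs x)),
        ← RingHom.ker_eq_comap_bot, ← RingHom.ker_eq_comap_bot, IsLocalRing.ker_residue,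
        (RingHom.injective_iff_ker_eq_bot _).1 (IsFractionRing.injective R _)] at h3
      exact IsDiscreteValuationRing.not_a_field R h3.symm
    haveI := KFlat.subsingleton_stalk_push i G hy
    refine @ModuleCat.isZero_of_subsingleton _ _ _ ?_
    exact subsingleton_of_notMem fun h =>
      (ClSubLib.support_pullback_subset j ((Scheme.Modules.pushforward i).obj G) h) this
  haveI : IsIso (L.map (kernel.ι q)) := by
    have h0 : L.map q = 0 := hz.eq_of_tgt _ _
    haveI : IsIso (kernel.ι (L.map q)) := by
      have e := kernel.lift_ι (L.map q) (𝟙 _) (by rw [h0, comp_zero])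
      exact ⟨kernel.lift (L.map q) (𝟙 _) (by rw [h0, comp_zero]),
        by rw [← cancel_mono (kernel.ι (L.map q)), Category.assoc, e, Category.id_comp, Category.comp_id], e⟩
    have h2 : L.map (kernel.ι q) = (PreservesKernel.iso L q).hom ≫ kernel.ι (L.map q) :=
      by rw [PreservesKernel.iso_hom, kernelComparison_comp_ι]
    rw [h2]
    infer_instance
  exact ⟨asIso (L.map (kernel.ι q))⟩

/-- Torsion-free rank one descends along extension of the field. -/
theorem isTF1_descend {k Ω : Type u} [Field k] [Field Ω] [Algebra k Ω] {X Y : Scheme.{u}}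
    [X.Over (Spec (CommRingCat.of k))] [IsProper (X ↘ Spec (CommRingCat.of k))] [IsReduced X]
    (hgi : ∀ (C : Set X) (hC : C ∈ irreducibleComponents (X : Type u)), GeometricallyIntegral
      (VecSt.subschι X C (isClosed_of_mem_irreducibleComponents C hC) ≫ (X ↘ Spec (CommRingCat.of k))))
    {g : Y ⟶ X} {qY : Y ⟶ Spec (CommRingCat.of Ω)}
    (sq : IsPullback g qY (X ↘ Spec (CommRingCat.of k)) (Spec.map (CommRingCat.ofHom (algebraMap k Ω))))
    {M : X.Modules} (hM : Coh.IsCoh M) (h : TFOne.IsTF1 Y ((Scheme.Modules.pullback g).obj M)) :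
    TFOne.IsTF1 X M := by
  haveI := ext_flat sq
  haveI := CurveRR.isNoetherian_of_proper k X
  refine ⟨hM, fun x => ?_, fun η hη => ?_⟩
  · obtain ⟨y, rfl⟩ := (ext_surjective sq).surj x
    letI : Algebra (X.presheaf.stalk (g y)) (Y.presheaf.stalk y) := (g.stalkMap y).hom.toAlgebra
    haveI : Module.Flat (X.presheaf.stalk (g y)) (Y.presheaf.stalk y) := Flat.stalkMap g y
    haveI : IsLocalHom (algebraMap (X.presheaf.stalk (g y)) (Y.presheaf.stalk y)) :=
      inferInstanceAs (IsLocalHom (g.stalkMap y).hom)
    haveI := Module.FaithfullyFlat.of_flat_of_isLocalHom (A := X.presheaf.stalk (g y)) (B := Y.presheaf.stalk y)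
    let R := X.presheaf.stalk (g y)
    let L := Y.presheaf.stalk y
    let N : Type u := M.presheaf.stalk (g y)
    let e1 : ((Scheme.Modules.pullback g).obj M).presheaf.stalk y ≃ₗ[L] TensorProduct R L N :=
      ((KFlat.pullStalkIso g y).app M).toLinearEquiv
    refine ⟨fun a ha => isSMulRegular_iff_right_eq_zero_of_smul.2 fun m hm => ?_⟩
    have ha' : IsRegular (algebraMap R L a) := by
      refine isLeftRegular_iff_isRegular.1 fun x x' hx => ?_
      exact (Module.Flat.isSMulRegular_of_nonZeroDivisors (M := L) (isRegular_iff_mem_nonZeroDivisors.1 ha))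
        (by simp only [Algebra.smul_def]; exact hx)
    have h1 : algebraMap R L a • e1.symm (1 ⊗ₜ[R] m) = 0 := by
      rw [← map_smul]
      refine (congrArg e1.symm ?_).trans (map_zero _)
      rw [algebraMap_smul, ← TensorProduct.tmul_smul]
      exact (congrArg _ hm).trans (TensorProduct.tmul_zero _ _)
    have h2 := (h.2.1 y).isSMulRegular ha'
    have h3 : e1.symm (1 ⊗ₜ[R] m) = 0 := h2.right_eq_zero_of_smul h1
    rw [LinearEquiv.map_eq_zero_iff] at h3
    exact Module.FaithfullyFlat.tensorProduct_mk_injective (A := R) (B := L) N (h3.trans (TensorProduct.tmul_zero _ _).symm)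
  · obtain ⟨y, hy, rfl, -⟩ := exists_component hgi sq hη
    obtain ⟨e⟩ := h.2.2 y hy
    letI : Algebra (X.presheaf.stalk (g y)) (Y.presheaf.stalk y) := (g.stalkMap y).hom.toAlgebra
    letI := (isField_stalk hη).toField
    let R := X.presheaf.stalk (g y)
    let L := Y.presheaf.stalk y
    let N : Type u := M.presheaf.stalk (g y)
    haveI := ext_noetherian sq
    let e1 : ((Scheme.Modules.pullback g).obj M).presheaf.stalk y ≃ₗ[L] TensorProduct R L N :=
      ((KFlat.pullStalkIso g y).app M).toLinearEquiv
    have h1 : Module.finrank R N = 1 := by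
      rw [← Module.finrank_baseChange (R := L) (S := R) (M' := N), (e1.symm.trans e).finrank_eq, Module.finrank_self]
    haveI : Module.Finite R N := Module.finite_of_finrank_eq_succ h1
    exact ⟨(LinearEquiv.ofFinrankEq R N (by rw [Module.finrank_self, h1])).symm⟩

end Groth.Agent.TFOneLib
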