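import Groth.Agent.W7Exist.Completion
import Groth.Agent.W7Exist.Pull
import Mathlib.CategoryTheory.Functor.OfSequence

/-!
A chain of modifications `I⁰ ⊇ I¹ ⊇ ⋯` with exact sequences `I^{n+1} → I^n → Q_n` and multiplications
`m_n : I^n → I^{n+1}` by `t`, inducing isomorphisms `Q_n ≅ Q_{n+1}`: the formal system `I⁰/I^{n+1}`.
-/

set_option autoImplicit false
set_option linter.style.haveILetI false
set_option linter.unusedSectionVars false
set_option backward.isDefEq.respectTransparency false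
set_option backward.isDefEq.respectTransparency.types false

universe u

open CategoryTheory CategoryTheory.Limits AlgebraicGeometry TopologicalSpace Opposite

noncomputable section

namespace Groth.Agent.TFOneLib

variable {A : Type u} [CommRing A] {X : Scheme.{u}} [X.Over (Spec (CommRingCat.of A))] (t : A)

/-- A chain of modifications whose graded pieces are identified by multiplication by `t`. -/
structure MulChain where
  /-- the modules -/
  M : ℕ → X.Modules
  /-- the quotients -/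
  Q : ℕ → X.Modules
  /-- the inclusions -/
  j : ∀ n, M (n + 1) ⟶ M n
  /-- the projections -/
  q : ∀ n, M n ⟶ Q n
  /-- multiplication -/
  m : ∀ n, M n ⟶ M (n + 1)
  /-- multiplication on the quotients -/
  θ : ∀ n, Q n ⟶ Q (n + 1)
  w : ∀ n, j n ≫ q n = 0
  mono : ∀ n, Mono (j n)
  epi : ∀ n, Epi (q n)
  exact : ∀ n, (ShortComplex.mk (j n) (q n) (w n)).Exact
  hmj : ∀ n, m n ≫ j n = Formal.smulMod A (M n) t
  hθ : ∀ n, m n ≫ q (n + 1) = q n ≫ θ n
  iso : ∀ n, IsIso (θ n)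

namespace MulChain

variable {t} (C : MulChain (X := X) t)

/-- The inclusion into the bottom. -/
def c : ∀ n, C.M n ⟶ C.M 0
  | 0 => 𝟙 _
  | n + 1 => C.j n ≫ c n

/-- Multiplication by `t^n`. -/
def μ : ∀ n, C.M 0 ⟶ C.M n
  | 0 => 𝟙 _
  | n + 1 => μ n ≫ C.m n

theorem mono_c : ∀ n, Mono (C.c n)
  | 0 => inferInstanceAs (Mono (𝟙 _))
  | n + 1 => by haveI := mono_c n; haveI := C.mono n; exact mono_comp _ _

theorem jm (n : ℕ) : C.j n ≫ C.m n = Formal.smulMod A (C.M (n + 1)) t := by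
  haveI := C.mono n
  rw [← cancel_mono (C.j n), Category.assoc, C.hmj, ← W7Cech.smulMod_natural]

theorem μc : ∀ n, C.μ n ≫ C.c n = Formal.smulMod A (C.M 0) (t ^ n)
  | 0 => by
    change 𝟙 _ ≫ 𝟙 _ = _
    rw [pow_zero, Category.comp_id]
    refine Scheme.Modules.hom_ext _ _ fun W => ?_
    ext z
    change z = W7Cech.secRing A W (1 : A) • (show Γ(C.M 0, W) from z)
    rw [map_one, one_smul]
  | n + 1 => by
    change (C.μ n ≫ C.m n) ≫ C.j n ≫ C.c n = _
    rw [Category.assoc, ← Category.assoc (C.m n), C.hmj, W7Cech.smulMod_natural, ← Category.assoc, μc n,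
      W7Exist.smulMod_comp, pow_succ']

theorem epi_μq : ∀ n, Epi (C.μ n ≫ C.q n)
  | 0 => by haveI := C.epi 0; change Epi (𝟙 _ ≫ C.q 0); rw [Category.id_comp]; infer_instance
  | n + 1 => by
    haveI := epi_μq n
    haveI := C.iso n
    change Epi ((C.μ n ≫ C.m n) ≫ C.q (n + 1))
    rw [Category.assoc, C.hθ, ← Category.assoc]
    exact epi_comp _ _

/-- `I^n` is generated by `I^{n+1}` and `t^n I⁰`. -/
theorem eq_zero_of_generators (n : ℕ) {T : X.Modules} (h : C.M n ⟶ T) (h1 : C.j n ≫ h = 0)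
    (h2 : C.μ n ≫ h = 0) : h = 0 := by
  haveI := C.epi n
  haveI := C.epi_μq n
  have e : C.q n ≫ (C.exact n).desc h h1 = h := (C.exact n).g_desc h h1
  have h3 : (C.exact n).desc h h1 = 0 := by
    rw [← cancel_epi (C.μ n ≫ C.q n), Category.assoc, e, h2, comp_zero]
  rw [← e, h3, comp_zero]

/-- The quotient `I⁰/I^{n+1}`. -/
def G (n : ℕ) : X.Modules := cokernel (C.c (n + 1))

/-- The projection. -/
def p (n : ℕ) : C.M 0 ⟶ C.G n := cokernel.π (C.c (n + 1))

instance epi_p (n : ℕ) : Epi (C.p n) := inferInstanceAs (Epi (cokernel.π _))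

theorem c_p (n : ℕ) : C.c (n + 1) ≫ C.p n = 0 := cokernel.condition _

/-- The transition map. -/
def trans (n : ℕ) : C.G (n + 1) ⟶ C.G n :=
  cokernel.desc _ (C.p n) (by
    change (C.j (n + 1) ≫ C.c (n + 1)) ≫ C.p n = 0
    rw [Category.assoc, C.c_p, comp_zero])

@[reassoc] theorem p_trans (n : ℕ) : C.p (n + 1) ≫ C.trans n = C.p n := cokernel.π_desc _ _ _

/-- Multiplication by `t` between consecutive levels. -/
def τ (n : ℕ) : C.G n ⟶ C.G (n + 1) :=
  cokernel.desc _ (Formal.smulMod A (C.M 0) t ≫ C.p (n + 1)) (by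
    rw [← Category.assoc, ← W7Cech.smulMod_natural, ← C.hmj (n + 1), Category.assoc, Category.assoc,
      show C.j (n + 1) ≫ C.c (n + 1) ≫ C.p (n + 1) = C.c (n + 2) ≫ C.p (n + 1) from
        (Category.assoc _ _ _).symm, C.c_p, comp_zero])

@[reassoc] theorem p_τ (n : ℕ) : C.p n ≫ C.τ n = Formal.smulMod A (C.M 0) t ≫ C.p (n + 1) :=
  cokernel.π_desc _ _ _

theorem trans_τ (n : ℕ) : C.trans n ≫ C.τ n = Formal.smulMod A (C.G (n + 1)) t := by
  rw [← cancel_epi (C.p (n + 1)), p_trans_assoc, p_τ, W7Cech.smulMod_natural]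

/-- The inclusions are compatible. -/
theorem exists_c_le (N : ℕ) : ∀ d : ℕ, ∃ l : C.M (N + d) ⟶ C.M N, l ≫ C.c N = C.c (N + d)
  | 0 => ⟨𝟙 _, Category.id_comp _⟩
  | d + 1 => by
    obtain ⟨l, hl⟩ := exists_c_le N d
    exact ⟨C.j (N + d) ≫ l, by rw [Category.assoc, hl]; rfl⟩

/-- If `t x` lies in `I^{n+2}` then `x` lies in `I^{n+1}`. -/
theorem exists_factor_of_mul (n : ℕ) {T : X.Modules} (x : T ⟶ C.M 0) (y : T ⟶ C.M (n + 2))
    (h : x ≫ Formal.smulMod A (C.M 0) t = y ≫ C.c (n + 2)) : ∃ z, z ≫ C.c (n + 1) = x := by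
  suffices ∀ k, k ≤ n + 1 → ∃ z, z ≫ C.c k = x from this (n + 1) le_rfl
  intro k
  induction k with
  | zero => exact fun _ => ⟨x, Category.comp_id x⟩
  | succ k ih =>
    intro hk
    obtain ⟨z, hz⟩ := ih (by omega)
    obtain ⟨l, hl⟩ : ∃ l : C.M (n + 2) ⟶ C.M (k + 2), l ≫ C.c (k + 2) = C.c (n + 2) := by
      obtain ⟨d, hd⟩ : ∃ d, n + 2 = k + 2 + d := ⟨n - k, by omega⟩
      obtain ⟨l, hl⟩ := C.exists_c_le (k + 2) d
      rw [hd]
      exact ⟨l, hl⟩
    have h1 : (z ≫ C.m k) ≫ C.c (k + 1) = (y ≫ l ≫ C.j (k + 1)) ≫ C.c (k + 1) := by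
      have e1 : (z ≫ C.m k) ≫ C.c (k + 1) = x ≫ Formal.smulMod A (C.M 0) t := by
        change (z ≫ C.m k) ≫ C.j k ≫ C.c k = _
        rw [Category.assoc, ← Category.assoc (C.m k), C.hmj, W7Cech.smulMod_natural, ← Category.assoc, hz]
      rw [e1, h, Category.assoc, Category.assoc]
      exact congrArg (y ≫ ·) hl.symm
    haveI := C.mono_c (k + 1)
    have h2 : (z ≫ C.q k) ≫ C.θ k = 0 := by
      rw [Category.assoc, ← C.hθ, ← Category.assoc, (cancel_mono _).1 h1, Category.assoc, Category.assoc, C.w,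
        comp_zero, comp_zero]
    haveI := C.iso k
    have h3 : z ≫ C.q k = 0 := by rwa [← cancel_mono (C.θ k), zero_comp]
    haveI := C.mono k
    refine ⟨(C.exact k).lift z h3, ?_⟩
    change (C.exact k).lift z h3 ≫ C.j k ≫ C.c k = x
    rw [← Category.assoc]
    exact (congrArg (· ≫ C.c k) ((C.exact k).lift_f z h3)).trans hz

instance mono_τ (n : ℕ) : Mono (C.τ n) := by
  refine Preadditive.mono_of_cancel_zero _ fun {T} v hv => ?_
  obtain ⟨T', e, he, x, hx⟩ := surjective_up_to_refinements_of_epi (C.p n) v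
  have h0 : (x ≫ Formal.smulMod A (C.M 0) t) ≫ C.p (n + 1) = 0 := by
    rw [Category.assoc, ← p_τ, ← Category.assoc, ← hx, Category.assoc, hv, comp_zero]
  obtain ⟨T'', e', he', y, hy⟩ :=
    (ShortComplex.exact_cokernel (C.c (n + 2))).exact_up_to_refinements (x ≫ Formal.smulMod A (C.M 0) t) h0
  obtain ⟨z, hz⟩ := C.exists_factor_of_mul n (e' ≫ x) y ((Category.assoc _ _ _).trans hy)
  rw [← cancel_epi e, ← cancel_epi e', hx, ← Category.assoc, ← hz, Category.assoc, C.c_p, comp_zero, comp_zero,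
    comp_zero]

/-- The formal system `I⁰/I^{n+1}`. -/
def sys : ℕᵒᵖ ⥤ X.Modules := Functor.ofOpSequence (X := C.G) C.trans

theorem sys_map (n : ℕ) : C.sys.map (homOfLE (Nat.le_succ n)).op = C.trans n :=
  Functor.ofOpSequence_map_homOfLE_succ _ n

theorem killed (n : ℕ) : Formal.KilledBy (Ideal.span {t} ^ (n + 1)) (C.G n) := fun a ha => by
  rw [Ideal.span_singleton_pow, Ideal.mem_span_singleton] at ha
  obtain ⟨b, rfl⟩ := ha
  have h0 : Formal.smulMod A (C.G n) (t ^ (n + 1)) = 0 := by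
    rw [← cancel_epi (C.p n), ← W7Cech.smulMod_natural, ← C.μc (n + 1), Category.assoc, C.c_p, comp_zero,
      comp_zero]
  rw [mul_comm, ← W7Exist.smulMod_comp, h0, zero_comp]

theorem isCohFormal [IsLocallyNoetherian X] (hM : ∀ n, Coh.IsCoh (C.M n)) :
    Formal.IsCohFormal (Ideal.span {t}) C.sys := by
  refine ⟨fun n => QC.isCoh_cokernel (hM (n + 1)).1 (hM 0) (C.c (n + 1)), C.killed, fun n => ?_⟩
  let I := Ideal.span {t}
  suffices h : ∃ h : Formal.smulFamily (I ^ (n + 1)) (C.G (n + 1)) ≫ C.trans n = 0,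
      IsIso (cokernel.desc _ _ h) by
    rw [C.sys_map n]
    exact h
  have hw : Formal.smulFamily (I ^ (n + 1)) (C.G (n + 1)) ≫ C.trans n = 0 := Sigma.hom_ext _ _ fun a => by
    rw [comp_zero, ← Category.assoc, show Sigma.ι (fun _ : ↥(I ^ (n + 1)) => C.G (n + 1)) a ≫
      Formal.smulFamily (I ^ (n + 1)) (C.G (n + 1)) = Formal.smulMod A _ (a : A) from Sigma.ι_desc _ a,
      W7Cech.smulMod_natural, C.killed n a a.2, comp_zero]
  refine ⟨hw, ?_⟩
  let π' := cokernel.π (Formal.smulFamily (I ^ (n + 1)) (C.G (n + 1)))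
  have hker : C.c (n + 1) ≫ C.p (n + 1) ≫ π' = 0 := by
    refine C.eq_zero_of_generators (n + 1) _ ?_ ?_
    · rw [← Category.assoc, ← Category.assoc, show (C.j (n + 1) ≫ C.c (n + 1)) ≫ C.p (n + 1) =
        C.c (n + 1 + 1) ≫ C.p (n + 1) from rfl, C.c_p, zero_comp]
    · rw [← Category.assoc, C.μc, ← Category.assoc, W7Cech.smulMod_natural, Category.assoc]
      have hc := congrArg (Sigma.ι (fun _ : ↥(I ^ (n + 1)) => C.G (n + 1))
        ⟨t ^ (n + 1), Ideal.pow_mem_pow (Ideal.mem_span_singleton_self t) _⟩ ≫ ·)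
        (cokernel.condition (Formal.smulFamily (I ^ (n + 1)) (C.G (n + 1))))
      simp only [comp_zero] at hc
      rw [← Category.assoc, show Sigma.ι (fun _ : ↥(I ^ (n + 1)) => C.G (n + 1)) _ ≫
        Formal.smulFamily (I ^ (n + 1)) (C.G (n + 1)) = Formal.smulMod A _ (t ^ (n + 1)) from Sigma.ι_desc _ _] at hc
      exact (congrArg (C.p (n + 1) ≫ ·) hc).trans comp_zero
  refine ⟨cokernel.desc _ _ hker, ?_, ?_⟩
  · rw [← cancel_epi π', ← Category.assoc, cokernel.π_desc, ← cancel_epi (C.p (n + 1)), p_trans_assoc]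
    exact (cokernel.π_desc _ _ _).trans (congrArg (_ ≫ ·) (Category.comp_id _).symm)
  · refine (cancel_epi (C.p n)).1 ?_
    rw [← Category.assoc]
    refine (congrArg (· ≫ cokernel.desc _ _ hw) (cokernel.π_desc _ _ hker)).trans ?_
    rw [Category.assoc, cokernel.π_desc, p_trans]
    exact (Category.comp_id _).symm

/-- The bottom level is the first quotient. -/
theorem exists_bottom : ∃ e : C.G 0 ≅ C.Q 0, C.p 0 ≫ e.hom = C.q 0 := by
  haveI := C.epi 0
  have h : C.c 1 ≫ C.q 0 = 0 := by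
    change (C.j 0 ≫ 𝟙 _) ≫ C.q 0 = 0
    rw [Category.comp_id, C.w]
  let u := cokernel.desc (C.c 1) (C.q 0) h
  let v := (C.exact 0).desc (C.p 0) (by
    have := C.c_p 0
    change (C.j 0 ≫ 𝟙 _) ≫ C.p 0 = 0 at this
    rwa [Category.comp_id] at this)
  have hv : C.q 0 ≫ v = C.p 0 := (C.exact 0).g_desc _ _
  have hu : C.p 0 ≫ u = C.q 0 := cokernel.π_desc _ _ _
  refine ⟨⟨u, v, ?_, ?_⟩, hu⟩
  · rw [← cancel_epi (C.p 0), ← Category.assoc, hu, hv]
    exact (Category.comp_id _).symm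
  · rw [← cancel_epi (C.q 0), ← Category.assoc, hv, hu, Category.comp_id]

end MulChain

end Groth.Agent.TFOneLib
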