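import Groth.Agent.TFOneLib.Ext
import Groth.Agent.GeomRedAt.Open
import Groth.Agent.UOFlat.Equidim
import Groth.Agent.FlatDim.DimSets
import Groth.Agent.ValFibre.Basic
import Groth.Agent.SpQS.GenPts

/-!
Geometric fibres of a flat proper family over a discrete valuation ring whose closed fibre is a reduced curve with
geometrically integral components: they are reduced, and the generic ones are curves.
-/

set_option autoImplicit false
set_option linter.style.haveILetI false
set_option linter.unusedSectionVars false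
set_option backward.isDefEq.respectTransparency false
set_option backward.isDefEq.respectTransparency.types false

universe u

open CategoryTheory CategoryTheory.Limits AlgebraicGeometry TopologicalSpace
open Groth.Agent

noncomputable section

namespace Groth.Agent.TFOneLib

variable {A κ : Type u} [CommRing A] [IsDomain A] [IsDiscreteValuationRing A] [Field κ] {Xh Xs : Scheme.{u}}
  (q : Xh ⟶ Spec (CommRingCat.of A)) [IsProper q] [Flat q] [Xs.Over (Spec (CommRingCat.of κ))]
  [IsProper (Xs ↘ Spec (CommRingCat.of κ))] [IsReduced Xs]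
  {ih : Xs ⟶ Xh} [IsClosedImmersion ih] {c : Spec (CommRingCat.of κ) ⟶ Spec (CommRingCat.of A)}
  (sqs : IsPullback ih (Xs ↘ Spec (CommRingCat.of κ)) q c)
  (hc : c (IsLocalRing.closedPoint κ) = IsLocalRing.closedPoint A)
  (hgi : ∀ (C : Set Xs) (hC : C ∈ irreducibleComponents (Xs : Type u)), GeometricallyIntegral
    (VecSt.subschι Xs C (isClosed_of_mem_irreducibleComponents C hC) ≫ (Xs ↘ Spec (CommRingCat.of κ))))

include sqs hc

/-- The closed fibre is the image of `ih`. -/
theorem mem_range_iff (x : Xh) : x ∈ Set.range ih ↔ q x = IsLocalRing.closedPoint A := by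
  constructor
  · rintro ⟨x₀, rfl⟩
    rw [← Scheme.Hom.comp_apply, sqs.w, Scheme.Hom.comp_apply]
    exact (congrArg c (Subsingleton.elim (α := PrimeSpectrum κ) _ _)).trans hc
  · intro hx
    obtain ⟨p, hp, -⟩ := Scheme.Pullback.exists_preimage_pullback (f := q) (g := c) x (IsLocalRing.closedPoint κ)
      (hx.trans hc.symm)
    refine ⟨sqs.isoPullback.inv p, ?_⟩
    rw [← Scheme.Hom.comp_apply, IsPullback.isoPullback_inv_fst, hp]

omit hc in
/-- Every point specialises into the closed fibre. -/
theorem exists_closed_specializes (x : Xh) : ∃ x', x ⤳ x' ∧ q x' = IsLocalRing.closedPoint A := by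
  obtain ⟨x', hx', h⟩ : IsLocalRing.closedPoint A ∈ q '' closure {x} :=
    (IsLocalRing.specializes_closedPoint (q x)).mem_closed (q.isClosedMap _ isClosed_closure)
      ⟨x, subset_closure rfl, rfl⟩
  exact ⟨x', specializes_iff_mem_closure.2 hx', h⟩

include hgi

/-- The family is geometrically reduced at every point. -/
theorem gr_all (x : Xh) : GeomRedAt.GR q x := by
  obtain ⟨x', hxx', hx'⟩ := exists_closed_specializes q sqs x
  refine GeomRedAt.gr_of_specializes q hxx' ?_
  obtain ⟨x₀, rfl⟩ := (mem_range_iff q sqs hc x').2 hx'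
  let K := AlgebraicClosure κ
  let a : Spec (CommRingCat.of K) ⟶ Spec (CommRingCat.of κ) := Spec.map (CommRingCat.ofHom (algebraMap κ K))
  let g := pullback.fst (Xs ↘ Spec (CommRingCat.of κ)) a
  have sqY : IsPullback g (pullback.snd _ a) (Xs ↘ Spec (CommRingCat.of κ)) a := IsPullback.of_hasPullback _ _
  haveI := ext_reduced hgi sqY
  obtain ⟨y, hy⟩ := (ext_surjective sqY).surj x₀
  let e := (sqY.paste_horiz sqs).isoPullback
  haveI : IsReduced (pullback q (a ≫ c)) := isReduced_of_isOpenImmersion e.inv
  haveI := AlgebraicGeometry.isReduced_stalk_of_isReduced (X := pullback q (a ≫ c)) (e.hom y)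
  have h := GeomRedAt.gr_of_point q (a ≫ c) (e.hom y)
  rw [← Scheme.Hom.comp_apply, IsPullback.isoPullback_hom_fst, Scheme.Hom.comp_apply, hy] at h
  exact h

/-- All geometric fibres are reduced. -/
theorem isReduced_pullback_field {K : Type u} [Field K] (t : Spec (CommRingCat.of K) ⟶ Spec (CommRingCat.of A)) :
    IsReduced (pullback q t) := by
  haveI : ∀ p : ↥(pullback q t), _root_.IsReduced ((pullback q t).presheaf.stalk p) := fun p =>
    gr_all q sqs hc hgi _ K t p rfl
  exact isReduced_of_isReduced_stalk _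

open Unibranch in
/-- A point without proper generisations off the closed fibre has curves as fibre closures. -/
theorem fibreDimAt_eq_one (hpure : ∀ C ∈ irreducibleComponents (Xs : Type u), topologicalKrullDim C = 1) {z : Xh}
    (hz : ∀ w, w ⤳ z → w = z) (hzq : q z ≠ IsLocalRing.closedPoint A) : FlatMor.fibreDimAt q z = 1 := by
  haveI : IsLocallyNoetherian Xh := LocallyOfFiniteType.isLocallyNoetherian q
  obtain ⟨x', hzx', hx'⟩ := exists_closed_specializes q sqs z
  obtain ⟨x₀, rfl⟩ := (mem_range_iff q sqs hc x').2 hx'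
  let S : Set Xs := ih ⁻¹' closure {z}
  have hS : IsClosed S := isClosed_closure.preimage ih.continuous
  haveI : QuasiSober S := hS.isClosedEmbedding_subtypeVal.quasiSober
  obtain ⟨⟨w₀, hw₀⟩, -, hmax⟩ := SpQS.exists_isMaxPt_specializes (α := S) ⟨x₀, specializes_iff_mem_closure.1 hzx'⟩
  have hzw : z ⤳ ih w₀ := specializes_iff_mem_closure.2 hw₀
  have hyw : q (ih w₀) = IsLocalRing.closedPoint A := (mem_range_iff q sqs hc _).1 ⟨w₀, rfl⟩
  obtain ⟨p, hp⟩ : ∃ p, q.fiberι (IsLocalRing.closedPoint A) p = ih w₀ := by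
    change ih w₀ ∈ Set.range _
    rw [q.range_fiberι]
    exact hyw
  have hfib : IsClosed ({IsLocalRing.closedPoint A} : Set (Spec (CommRingCat.of A))) :=
    (IsLocalRing.isClosed_singleton_closedPoint A)
  have hmaxfib : ∀ w, w ⤳ ih w₀ → q w = IsLocalRing.closedPoint A → w = ih w₀ := by
    let st := (Spec (CommRingCat.of A)).presheaf.stalk (q (q.fiberι (IsLocalRing.closedPoint A) p))
    let pr : PrimeSpectrum A := q (q.fiberι (IsLocalRing.closedPoint A) p)
    letI : Algebra A st := StructureSheaf.stalkAlgebra _ pr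
    haveI : IsLocalization.AtPrime st pr.asIdeal := StructureSheaf.IsLocalization.to_stalk A pr
    haveI : IsDomain st := IsLocalization.isDomain_of_atPrime st pr.asIdeal
    have hprinc : (IsLocalRing.maximalIdeal st).IsPrincipal := by
      obtain ⟨g, hg⟩ := (IsPrincipalIdealRing.principal
        ((IsLocalRing.maximalIdeal st).comap (algebraMap A st))).principal
      refine ⟨⟨algebraMap A st g, ?_⟩⟩
      refine (IsLocalization.map_comap pr.asIdeal.primeCompl st (IsLocalRing.maximalIdeal st)).symm.trans ?_
      refine (congrArg (Ideal.map (algebraMap A st)) hg).trans ?_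
      exact (Ideal.map_span _ _).trans (congrArg Ideal.span (Set.image_singleton))
    rw [← hp]
    refine UOFlat.eq_of_specializes_of_dvr q _ p hprinc (gr_all q sqs hc hgi _ _ _ p rfl) (Flat.stalkMap q _)
      (hp ▸ hzw : z ⤳ _) hz hzq fun w hzw' hww hqw => ?_
    obtain ⟨u₀, rfl⟩ := (mem_range_iff q sqs hc w).2 hqw
    rw [hp] at hww ⊢
    have := hmax ⟨u₀, specializes_iff_mem_closure.1 hzw'⟩
      ((subtype_specializes_iff _ _).2 ((ih.isEmbedding.isInducing.specializes_iff).1 hww))
    exact congrArg (fun v : S => ih v.1) this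
  have hw₀g : w₀ ∈ genericPoints Xs := mem_genericPoints_of_min fun v hv =>
    ih.isEmbedding.injective (hmaxfib _ (hv.map ih.continuous) ((mem_range_iff q sqs hc _).1 ⟨v, rfl⟩))
  obtain ⟨e, he1, he2, -⟩ := exists_dim_closure_eq q z
  obtain ⟨δ, hd1, hd2, hd3⟩ := exists_dim_closure_eq q (ih w₀)
  have hδ : δ = 1 := by
    have h1 : closure {ih w₀} ∩ q ⁻¹' {q (ih w₀)} = ih '' closure {w₀} := by
      rw [← ih.isClosedEmbedding.closure_image_eq, Set.image_singleton, Set.inter_eq_left, hyw]
      exact closure_minimal (Set.singleton_subset_iff.2 hyw) (hfib.preimage q.continuous)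
    rw [h1] at hd3
    have h2 := IsHomeomorph.topologicalKrullDim_eq _
      (ih.isEmbedding.homeomorphImage (closure {w₀})).isHomeomorph
    rw [hd3, hpure _ hw₀g] at h2
    exact_mod_cast h2.symm
  have hfm : FlatDim.IsFibMax q (ih w₀) := fun w hw hqw => hmaxfib w hw (hqw.trans hyw)
  obtain rfl : e = δ := le_antisymm (FlatDim.le_of_isFibMax q hfm hzw he2 hd1)
    ((ValFibre.hasChain_of_specializes q hzw hd2).le he1)
  obtain ⟨b, δ', -, hD, hle, hhas, -, m, -, hmz, -, -, hm⟩ := DimFormula.exists_fibre_dims q z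
  obtain rfl := hz m hmz
  have h1 : b + δ' ≤ e := hm.le he1
  have h2 : e ≤ δ' := he2.le hle
  rw [hD, show b + δ' = 1 by omega]
  rfl

/-- Components of a generic geometric fibre are curves. -/
theorem pure_pullback_field (hpure : ∀ C ∈ irreducibleComponents (Xs : Type u), topologicalKrullDim C = 1)
    {K : Type u} [Field K] (ψ : A →+* K) (hψ : Function.Injective ψ) :
    ∀ C ∈ irreducibleComponents (↥(pullback q (Spec.map (CommRingCat.ofHom ψ))) : Type u),
      topologicalKrullDim C = 1 := by
  intro C hC
  let t := Spec.map (CommRingCat.ofHom ψ)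
  let qo := pullback.snd q t
  obtain ⟨y, hy⟩ := QuasiSober.sober hC.1 (isClosed_of_mem_irreducibleComponents C hC)
  have hyg : y ∈ genericPoints ↥(pullback q t) := by
    change closure {y} ∈ irreducibleComponents _; rw [hy.def]; exact hC
  letI := ψ.toAlgebra
  haveI : Module.IsTorsionFree A K := Module.IsTorsionFree.of_smul_eq_zero fun a x hax => by
    rcases mul_eq_zero.1 (show ψ a * x = 0 from hax) with h | h
    · exact Or.inl (hψ (h.trans (map_zero ψ).symm))
    · exact Or.inr h
  haveI : Flat t := Flat.SpecMap_iff.2 (RingHom.flat_algebraMap_iff.2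
    inferInstance)
  have hzq : q (pullback.fst q t y) ≠ IsLocalRing.closedPoint A := by
    rw [← Scheme.Hom.comp_apply, pullback.condition, Scheme.Hom.comp_apply]
    intro h
    have h2 : Ideal.comap ψ (PrimeSpectrum.asIdeal (pullback.snd q t y)) = IsLocalRing.maximalIdeal A :=
      congrArg PrimeSpectrum.asIdeal h
    rw [Ideal.eq_bot_of_prime (PrimeSpectrum.asIdeal (pullback.snd q t y)), ← RingHom.ker_eq_comap_bot,
      (RingHom.injective_iff_ker_eq_bot ψ).1 hψ] at h2
    exact IsDiscreteValuationRing.not_a_field A h2.symm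
  have hmax : ∀ w, w ⤳ pullback.fst q t y → w = pullback.fst q t y := fun w hw => by
    obtain ⟨y', hy', rfl⟩ := Flat.generalizingMap (pullback.fst q t) hw
    rw [eq_of_specializes hyg hy']
  rw [← hy.def, LocalDimBC.topologicalKrullDim_closure_eq qo y fun v hv => eq_of_specializes hyg hv,
    ← CMChart.fibreDimAt_eq_localDim qo y,
    LocalDimBC.fibreDimAt_of_isPullback q t _ qo (IsPullback.of_hasPullback q t) y]
  exact fibreDimAt_eq_one q sqs hc hgi hpure hmax hzq

end Groth.Agent.TFOneLib
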