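import Groth.Agent.TFOneLib.Good
import Groth.Agent.TFOneLib.Generic
import Groth.Agent.S0549
import Groth.Agent.AdicBasics.Dimension
import Groth.Agent.W7Hull.LiftHom
import Groth.Agent.DQCoh.RelTor

/-!
The completed family and its geometric generic fibre.
-/

set_option autoImplicit false
set_option linter.style.haveILetI false
set_option linter.unusedSectionVars false
set_option backward.isDefEq.respectTransparency false
set_option backward.isDefEq.respectTransparency.types false

universe u

open CategoryTheory CategoryTheory.Limits AlgebraicGeometry TopologicalSpace Opposite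
open Groth.Agent.WeakAssLib (mgerm mgerm_res mgerm_smul)

noncomputable section

namespace Groth.Agent.TFOneLib

/-- The base change of a family over a DVR to a complete DVR with the same residue field, and a geometric point of
its generic fibre. -/
structure Compl {R : Type u} [CommRing R] [IsDomain R] [IsDiscreteValuationRing R] {X Xs : Scheme.{u}}
    (f : X ⟶ Spec (CommRingCat.of R)) (qs : Xs ⟶ Spec (CommRingCat.of (IsLocalRing.ResidueField R))) (i : Xs ⟶ X)
    (t : R) where
  A : Type u
  [cr : CommRing A]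
  [dom : IsDomain A]
  [dvr : IsDiscreteValuationRing A]
  φ : R →+* A
  inj : Function.Injective φ
  unif : Irreducible (φ t)
  complete : IsAdicComplete (Ideal.span {φ t}) A
  Xh : Scheme.{u}
  q : Xh ⟶ Spec (CommRingCat.of A)
  g : Xh ⟶ X
  sq : IsPullback g q f (Spec.map (CommRingCat.ofHom φ))
  ih : Xs ⟶ Xh
  hih : ih ≫ g = i
  c : Spec (CommRingCat.of (IsLocalRing.ResidueField R)) ⟶ Spec (CommRingCat.of A)
  sqs : IsPullback ih qs q c
  hc : c (IsLocalRing.closedPoint (IsLocalRing.ResidueField R)) = IsLocalRing.closedPoint A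
  flat_g : Flat g
  closed : IsClosedImmersion ih
  ker : letI : Xh.Over (Spec (CommRingCat.of A)) := ⟨q⟩
    ∀ V : Xh.affineOpens, ih.ker.ideal V = Ideal.span {W7Cech.secRing A V.1 (φ t)}
  Ω : Type u
  [fld : Field Ω]
  [acl : IsAlgClosed Ω]
  ψ : A →+* Ω
  ψinj : Function.Injective ψ

attribute [instance] Compl.cr Compl.dom Compl.dvr Compl.fld Compl.acl

theorem exists_compl {R : Type u} [CommRing R] [IsDomain R] [IsDiscreteValuationRing R] {X Xs : Scheme.{u}}
    {f : X ⟶ Spec (CommRingCat.of R)} {qs : Xs ⟶ Spec (CommRingCat.of (IsLocalRing.ResidueField R))} {i : Xs ⟶ X}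
    (hsq : IsPullback i qs f (Spec.map (CommRingCat.ofHom (IsLocalRing.residue R)))) {t : R} (ht : Irreducible t) :
    Nonempty (Compl f qs i t) := by
  let m := IsLocalRing.maximalIdeal R
  obtain ⟨hd, hv⟩ := (Groth.Agent.S0549.result R).1 ⟨inferInstance, inferInstance⟩
  haveI := hd
  haveI := hv
  let A := AdicCompletion m R
  let φ : R →+* A := algebraMap R A
  haveI : IsHausdorff m R := IsHausdorff.of_le_jacobson _ _ (IsLocalRing.maximalIdeal_le_jacobson _)
  have hinj : Function.Injective φ := AdicCompletion.of_injective m R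
  have hmax : IsLocalRing.maximalIdeal A = Ideal.span {φ t} := by
    refine (AdicCompletion.maximalIdeal_eq_map (R := R)).trans ((congrArg (Ideal.map φ) ht.maximalIdeal_eq).trans ?_)
    rw [Ideal.map_span, Set.image_singleton]
  have hunif : Irreducible (φ t) := (IsDiscreteValuationRing.irreducible_iff_uniformizer _).2 hmax
  have hcomp : IsAdicComplete (Ideal.span {φ t}) A := by
    rw [← hmax]
    exact (inferInstance : IsAdicComplete (IsLocalRing.maximalIdeal A) A)
  haveI : IsLocalHom φ := by
    refine ((IsLocalRing.local_hom_TFAE φ).out 0 2).2 ?_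
    rw [ht.maximalIdeal_eq, Ideal.map_span, Set.image_singleton, hmax]
  let e := RingEquiv.ofBijective (IsLocalRing.ResidueField.map φ) (AdicCompletion.residueField_map_bijective R)
  let ρ : A →+* IsLocalRing.ResidueField R := e.symm.toRingHom.comp (IsLocalRing.residue A)
  have hρ : ρ.comp φ = IsLocalRing.residue R := by
    ext a
    change e.symm (IsLocalRing.residue A (φ a)) = IsLocalRing.residue R a
    rw [RingEquiv.symm_apply_eq]
    rfl
  let Xh := pullback f (Spec.map (CommRingCat.ofHom φ))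
  let g : Xh ⟶ X := pullback.fst f (Spec.map (CommRingCat.ofHom φ))
  let q : Xh ⟶ Spec (CommRingCat.of A) := pullback.snd f (Spec.map (CommRingCat.ofHom φ))
  have sq : IsPullback g q f (Spec.map (CommRingCat.ofHom φ)) := IsPullback.of_hasPullback _ _
  let c := Spec.map (CommRingCat.ofHom ρ)
  have hc : c ≫ Spec.map (CommRingCat.ofHom φ) = Spec.map (CommRingCat.ofHom (IsLocalRing.residue R)) := by
    rw [← Spec.map_comp, ← CommRingCat.ofHom_comp, hρ]
  let ih : Xs ⟶ Xh := sq.lift i (qs ≫ c) (by rw [Category.assoc, hc]; exact hsq.w)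
  have hih : ih ≫ g = i := sq.lift_fst _ _ _
  have sqs : IsPullback ih qs q c :=
    IsPullback.of_right (cast (congrArg₂ (fun a b => IsPullback a qs f b) hih.symm hc.symm) hsq)
      (sq.lift_snd _ _ _) sq
  haveI : IsClosedImmersion ih := MorphismProperty.of_isPullback (P := @IsClosedImmersion) sqs.flip
    (IsClosedImmersion.spec_of_surjective _ (e.symm.surjective.comp IsLocalRing.residue_surjective))
  haveI : Module.Flat R A := inferInstance
  haveI : Flat g := MorphismProperty.of_isPullback (P := @Flat) sq.flip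
    (Flat.SpecMap_iff.2 (RingHom.flat_algebraMap_iff.2 inferInstance))
  let d : Spec (CommRingCat.of (IsLocalRing.ResidueField R)) ≅ Spec (CommRingCat.of (IsLocalRing.ResidueField A)) :=
    asIso (Spec.map e.symm.toCommRingCatIso.hom)
  have sqA : IsPullback ih (qs ≫ d.hom) q (Spec.map (CommRingCat.ofHom (IsLocalRing.residue A))) := by
    refine sqs.of_iso (Iso.refl _) (Iso.refl _) d (Iso.refl _) ?_ ?_ ?_ ?_
    · simp
    · simp
    · simp
    · simp only [Iso.refl_hom, Category.comp_id]
      change c = Spec.map _ ≫ Spec.map _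
      rw [← Spec.map_comp]
      rfl
  exact ⟨{ A := A, φ := φ, inj := hinj, unif := hunif, complete := hcomp, Xh := Xh, q := q, g := g, sq := sq,
           ih := ih, hih := hih, c := c, sqs := sqs, flat_g := inferInstance,
           hc := PrimeSpectrum.ext (IsLocalRing.eq_maximalIdeal (Ideal.comap_isMaximal_of_surjective ρ
             (e.symm.surjective.comp IsLocalRing.residue_surjective))), closed := inferInstance,
           ker := fun V => ker_fibre q ih _ sqA hmax V,
           Ω := AlgebraicClosure (FractionRing A), ψ := (algebraMap (FractionRing A) _).comp (algebraMap A _),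
           ψinj := (algebraMap (FractionRing A) (AlgebraicClosure (FractionRing A))).injective.comp
             (IsFractionRing.injective A _) }⟩

namespace Compl

variable {R : Type u} [CommRing R] [IsDomain R] [IsDiscreteValuationRing R] {X Xs : Scheme.{u}}
  {f : X ⟶ Spec (CommRingCat.of R)} [IsProper f]
  {qs : Xs ⟶ Spec (CommRingCat.of (IsLocalRing.ResidueField R))} {i : Xs ⟶ X} {t : R} (C : Compl f qs i t)

instance overXh : C.Xh.Over (Spec (CommRingCat.of C.A)) := ⟨C.q⟩

theorem proper : IsProper C.q := MorphismProperty.of_isPullback (P := @IsProper) C.sq inferInstance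

/-- The geometric generic fibre. -/
def Yo : Scheme.{u} := pullback C.q (Spec.map (CommRingCat.ofHom C.ψ))

/-- The map to the completed family. -/
def u : C.Yo ⟶ C.Xh := pullback.fst C.q (Spec.map (CommRingCat.ofHom C.ψ))

/-- The structure map of the geometric generic fibre. -/
def qo : C.Yo ⟶ Spec (CommRingCat.of C.Ω) := pullback.snd C.q (Spec.map (CommRingCat.ofHom C.ψ))

instance overYo : C.Yo.Over (Spec (CommRingCat.of C.Ω)) := ⟨C.qo⟩

theorem squ : IsPullback C.u C.qo C.q (Spec.map (CommRingCat.ofHom C.ψ)) := IsPullback.of_hasPullback _ _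

theorem sqo : IsPullback (C.u ≫ C.g) C.qo f
    (Spec.map (CommRingCat.ofHom C.ψ) ≫ Spec.map (CommRingCat.ofHom C.φ)) :=
  C.squ.paste_horiz C.sq

theorem injo : Function.Injective (C.ψ.comp C.φ) := C.ψinj.comp C.inj

theorem properYo : IsProper C.qo :=
  haveI := C.proper
  MorphismProperty.of_isPullback (P := @IsProper) C.squ inferInstance

/-- Euler characteristics agree on the special and the geometric generic fibre. -/
theorem euler_eq {M : C.Xh.Modules} (hM : Coh.IsCoh M) (hfl : FlatMod.IsFlatOver C.q M) :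
    Curv2.euler C.Ω C.Yo ((Scheme.Modules.pullback C.u).obj M) =
      @Curv2.euler (IsLocalRing.ResidueField R) _ Xs ⟨qs⟩ ((Scheme.Modules.pullback C.ih).obj M) := by
  haveI := C.proper
  letI : Xs.Over (Spec (CommRingCat.of (IsLocalRing.ResidueField R))) := ⟨qs⟩
  exact euler_family C.q M hM hfl (Spec.map (CommRingCat.ofHom C.ψ)) C.c C.u C.ih C.squ C.sqs

/-- A coherent module without torsion which vanishes on the geometric generic fibre is zero. -/
theorem isZero_of_generic {M : C.Xh.Modules} (hM : Coh.IsCoh M) (hm : Mono (Formal.smulMod C.A M (C.φ t)))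
    (h : IsZero ((Scheme.Modules.pullback C.u).obj M)) : IsZero M := by
  haveI := C.proper
  haveI : IsLocallyNoetherian C.Xh := LocallyOfFiniteType.isLocallyNoetherian C.q
  haveI : Coh.IsQCoh M := hM.1
  haveI : M.IsQuasicoherent := hM.1
  refine KFlat.isZero_of_stalks M fun x => @ModuleCat.isZero_of_subsingleton _ _ _ ?_
  refine ⟨fun a b => ?_⟩
  suffices hall : ∀ c : M.presheaf.stalk x, c = 0 from (hall a).trans (hall b).symm
  intro c
  by_contra hc
  obtain ⟨V, hxV, s, rfl⟩ := M.presheaf.exists_germ_eq (x := x) c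
  obtain ⟨y, hyV, -, hwa, hne⟩ := WeakAssLib.exists_weakAss hM.1 hxV s hc
  obtain ⟨m, hm'⟩ := hwa
  have hy : (C.q y : PrimeSpectrum C.A).asIdeal = ⊥ := by
    by_contra hb
    have hmax : (C.q y : PrimeSpectrum C.A).asIdeal = IsLocalRing.maximalIdeal C.A :=
      IsLocalRing.eq_maximalIdeal (Ideal.IsPrime.isMaximal (PrimeSpectrum.isPrime _) hb)
    let s₀ := W7Cech.secRing C.A (⊤ : C.Xh.Opens) (C.φ t)
    have hg : (C.Xh.presheaf.germ ⊤ y trivial).hom s₀ ∈ IsLocalRing.maximalIdeal (C.Xh.presheaf.stalk y) := by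
      intro hu
      have h2 : y ∈ C.Xh.basicOpen s₀ := (C.Xh.mem_basicOpen s₀ y trivial).2 hu
      have e : s₀ = C.q.appTop ((Scheme.ΓSpecIso (CommRingCat.of C.A)).inv.hom (C.φ t)) := by
        change C.Xh.presheaf.map (homOfLE (le_top : (⊤ : C.Xh.Opens) ≤ ⊤)).op
          (Coh.toGlobal C.q (C.φ t)) = _
        exact ConcreteCategory.congr_hom (C.Xh.presheaf.map_id (op ⊤)) _
      rw [e, ← Scheme.preimage_basicOpen_top] at h2
      have h3 : (C.q y : PrimeSpectrum C.A) ∈ PrimeSpectrum.basicOpen (C.φ t) := by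
        rw [basicOpen_eq_of_affine] at h2
        exact h2
      rw [PrimeSpectrum.mem_basicOpen, hmax] at h3
      exact h3 (by rw [C.unif.maximalIdeal_eq]; exact Ideal.mem_span_singleton_self _)
    rw [← hm'] at hg
    obtain ⟨n, hn⟩ := hg
    change (C.Xh.presheaf.germ ⊤ y trivial).hom s₀ ^ n • m = 0 at hn
    have hstalk : ∀ v : M.presheaf.stalk y, WeakAssLib.stalkHom (Formal.smulMod C.A M (C.φ t)) y v =
        (C.Xh.presheaf.germ ⊤ y trivial).hom s₀ • v := fun v => by
      obtain ⟨W, hW, z, rfl⟩ := M.presheaf.exists_germ_eq (x := y) v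
      rw [WeakAssLib.stalkHom_germ (Formal.smulMod C.A M (C.φ t)) hW z]
      change mgerm M hW (W7Cech.secRing C.A W (C.φ t) • z) = _
      rw [mgerm_smul]
      refine congrArg (· • mgerm M hW z) ?_
      refine Eq.trans ?_ ((C.Xh.presheaf.germ_res_apply (homOfLE (le_top : W ≤ ⊤)) y hW s₀))
      refine congrArg _ ?_
      change C.Xh.presheaf.map _ _ = C.Xh.presheaf.map _ (C.Xh.presheaf.map _ _)
      rw [← CategoryTheory.comp_apply, ← Functor.map_comp]
      rfl
    have hm0 : m = 0 := by
      induction n with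
      | zero => simpa using hn
      | succ n ih =>
        refine ih (WeakAssLib.stalkHom_injective (Formal.smulMod C.A M (C.φ t)) y ?_)
        rw [hstalk, hstalk, smul_smul, ← pow_succ', hn, smul_zero]
    rw [hm0, LinearMap.toSpanSingleton_zero, LinearMap.ker_zero, Ideal.radical_top] at hm'
    exact (IsLocalRing.maximalIdeal.isMaximal _).ne_top hm'.symm
  obtain ⟨z, hz⟩ : y ∈ Set.range C.u := by
    change y ∈ Set.range (pullback.fst C.q (Spec.map (CommRingCat.ofHom C.ψ)))
    rw [Scheme.Pullback.range_fst]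
    refine ⟨IsLocalRing.closedPoint C.Ω, PrimeSpectrum.ext ?_⟩
    change Ideal.comap C.ψ (IsLocalRing.maximalIdeal C.Ω) = _
    rw [hy, Ideal.eq_bot_of_prime (IsLocalRing.maximalIdeal C.Ω), ← RingHom.ker_eq_comap_bot]
    exact (RingHom.injective_iff_ker_eq_bot _).1 C.ψinj
  have hsupp : z ∈ CohB1.support ((Scheme.Modules.pullback C.u).obj M) := by
    rw [SupportLib.support_pullback C.u M hM.2]
    change C.u z ∈ CohB1.support M
    rw [hz]
    exact fun hsub => hne (@Subsingleton.elim _ hsub _ _)
  exact hsupp ⟨fun a b => by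
    rw [← stalkHom_id _ z a, ← stalkHom_id _ z b, h.eq_of_src (𝟙 _) 0, stalkHom_zero, stalkHom_zero]⟩

variable [IsClosedImmersion i] [IsLocallyNoetherian Xs] [IsReduced Xs] [NoetherianSpace Xs]

/-- The limit quotient of a decomposed tower on the completed family. -/
theorem exists_quotient (In : ℕ → X.Modules) (hc : Coh.IsCoh (In 0)) (hfl : FlatMod.IsFlatOver f (In 0))
    (ht : Irreducible t)
    (hsq : IsPullback i qs f (Spec.map (CommRingCat.ofHom (IsLocalRing.residue R))))
    (hs : TFOne.IsTF1 Xs ((Scheme.Modules.pullback i).obj (In 0))) (Y Y' : Set Xs)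
    (hY' : ∀ η ∈ genericPoints Xs, (η ∈ Y' ↔ η ∉ Y)) (G G' : ℕ → Xs.Modules)
    (π : ∀ n, (Scheme.Modules.pullback i).obj (In n) ⟶ G n)
    (π' : ∀ n, (Scheme.Modules.pullback i).obj (In n) ⟶ G' n)
    (hG : ∀ n, TFOne.IsQuotOn Xs ((Scheme.Modules.pullback i).obj (In n)) Y (G n) (π n))
    (hG' : ∀ n, TFOne.IsQuotOn Xs ((Scheme.Modules.pullback i).obj (In n)) Y' (G' n) (π' n))
    (hstep : ∀ n, In (n + 1) = kernel (modQ i (π n))) (hdec : ∀ n, IsIso (biprod.lift (π n) (π' n))) :
    ∃ (F : C.Xh.Modules) (p : (Scheme.Modules.pullback C.g).obj (In 0) ⟶ F), Coh.IsCoh F ∧ Epi p ∧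
      Mono (Formal.smulMod C.A F (C.φ t)) ∧ FlatMod.IsFlatOver C.q F ∧
      ∃ e : (Scheme.Modules.pullback C.ih).obj F ≅ G 0, (Scheme.Modules.pullback C.ih).map p ≫ e.hom =
        (Scheme.Modules.pullbackComp C.ih C.g).hom.app (In 0) ≫
          (Scheme.Modules.pullbackCongr C.hih).hom.app (In 0) ≫ π 0 := by
  letI : X.Over (Spec (CommRingCat.of R)) := ⟨f⟩
  haveI : IsProper (X ↘ Spec (CommRingCat.of R)) := ‹IsProper f›
  haveI : IsLocallyNoetherian X := LocallyOfFiniteType.isLocallyNoetherian f
  haveI : IsProper (C.Xh ↘ Spec (CommRingCat.of C.A)) := C.proper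
  haveI := C.closed
  haveI := C.flat_g
  haveI := C.complete
  obtain ⟨hM, M, hM', e0, hM0, he0⟩ := exists_mulChain (t := t) i (ker_fibre f i _ hsq ht.maximalIdeal_eq) In hc
    (mono_smulMod_of_flat f (In 0) hfl ht.ne_zero) hs Y Y' hY' G G' π π' hG hG' hstep hdec
  obtain ⟨CM, CQ, Cj, Cq, Cm, Cθ, h1, h2, h3, h4, h5, h6, h7⟩ := M
  subst hM'
  obtain ⟨F, p, hF, hp, hm, e, he⟩ := exists_limit_quotient (t := t) i (A := C.A) C.φ C.g C.sq.w C.ih C.hih C.ker
    ⟨CM, CQ, Cj, Cq, Cm, Cθ, h1, h2, h3, h4, h5, h6, h7⟩ hM (G 0) e0 (π 0) (by simpa using he0)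
  exact ⟨F, p, hF, hp, hm, isFlatOver_of_mono_smulMod C.q hF.1 C.unif hm, e, he⟩

end Compl

end Groth.Agent.TFOneLib
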