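import Groth.Agent.TFOneLib.Compl
import Groth.Agent.FlatModBC.Basic
import Groth.Agent.Nakai.AlgEquiv
import Groth.Agent.SerrePn.Twists
import Groth.Agent.DerPerf.Local

/-!
A decomposed tower of modifications on the completed family, seen on the geometric generic fibre.
-/

set_option autoImplicit false
set_option linter.style.haveILetI false
set_option linter.unusedSectionVars false
set_option backward.isDefEq.respectTransparency false
set_option backward.isDefEq.respectTransparency.types false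

universe u

open CategoryTheory CategoryTheory.Limits AlgebraicGeometry TopologicalSpace
open Groth.Agent.WeakAssLib (stalkHom stalkHom_injective)

noncomputable section

namespace Groth.Agent.TFOneLib

/-- Twisting respects isomorphisms in both variables. -/
def twistIso {X : Scheme.{u}} {A A' B B' : X.Modules} (a : A ≅ A') (b : B ≅ B') :
    CohB1.tensorMod A B ≅ CohB1.tensorMod A' B' :=
  SerrePn.tmapIso a B ≪≫ TMul.commIso A' B ≪≫ SerrePn.tmapIso b A' ≪≫ TMul.commIso B' A'

variable {R : Type u} [CommRing R] [IsDomain R] [IsDiscreteValuationRing R] {X : Scheme.{u}}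
  {f : X ⟶ Spec (CommRingCat.of R)} [Flat f] [IsProper f] {Xs : Scheme.{u}}
  [Xs.Over (Spec (CommRingCat.of (IsLocalRing.ResidueField R)))]
  [IsProper (Xs ↘ Spec (CommRingCat.of (IsLocalRing.ResidueField R)))] [IsReduced Xs] {i : Xs ⟶ X} {t : R}
  (C : Compl f (Xs ↘ Spec (CommRingCat.of (IsLocalRing.ResidueField R))) i t)

namespace Compl

/-- Euler characteristics of a flat module on `X` on the special and the geometric generic fibre. -/
theorem euler_base {M : X.Modules} (hM : Coh.IsCoh M) (hfl : FlatMod.IsFlatOver f M) :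
    Curv2.euler C.Ω C.Yo ((Scheme.Modules.pullback (C.u ≫ C.g)).obj M) =
      Curv2.euler (IsLocalRing.ResidueField R) Xs ((Scheme.Modules.pullback i).obj M) := by
  refine (CurveRR.euler_eq_of_iso ((Scheme.Modules.pullbackComp C.u C.g).app M).symm).trans ?_
  refine (C.euler_eq (QC.isCoh_pullback C.g hM) fun x =>
    FlatModBC.isFlatOverAt_baseChange C.sq M x (hfl _)).trans ?_
  exact CurveRR.euler_eq_of_iso ((Scheme.Modules.pullbackComp C.ih C.g).app M ≪≫
    (Scheme.Modules.pullbackCongr C.hih).app M)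

/-- The degree is constant. -/
theorem deg_base {E : X.Modules} {r : ℕ} (hE : FlatMod.IsFinLocFreeOfRank r E) :
    Curv2.deg C.Ω C.Yo ((Scheme.Modules.pullback (C.u ≫ C.g)).obj E) r =
      Curv2.deg (IsLocalRing.ResidueField R) Xs ((Scheme.Modules.pullback i).obj E) r := by
  haveI : IsLocallyNoetherian X := LocallyOfFiniteType.isLocallyNoetherian f
  have hO := ResDesc.isFinLocFree_structureModule X
  unfold Curv2.deg
  rw [C.euler_base (CurveRR.isCoh_of_rank hE) (W7Hull.isFlatOver_of_isFinLocFree f (fun x => let ⟨U, hU⟩ := hE x; ⟨U, r, hU⟩)),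
    ← CurveRR.euler_eq_of_iso (FreeLite.pullUnitIso (C.u ≫ C.g)),
    ← CurveRR.euler_eq_of_iso (FreeLite.pullUnitIso i),
    C.euler_base RefStalk.isCoh_structureModule (W7Hull.isFlatOver_of_isFinLocFree f hO)]

/-- Euler characteristics of twists agree on the special and the geometric generic fibre. -/
theorem euler_twist {F : C.Xh.Modules} (hF : Coh.IsCoh F) (hfl : FlatMod.IsFlatOver C.q F) {E : X.Modules} {r : ℕ}
    (hE : FlatMod.IsFinLocFreeOfRank r E) :
    Curv2.euler C.Ω C.Yo (CohB1.tensorMod ((Scheme.Modules.pullback C.u).obj F)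
        ((Scheme.Modules.pullback (C.u ≫ C.g)).obj E)) =
      Curv2.euler (IsLocalRing.ResidueField R) Xs
        (CohB1.tensorMod ((Scheme.Modules.pullback C.ih).obj F) ((Scheme.Modules.pullback i).obj E)) := by
  haveI := C.proper
  haveI : IsLocallyNoetherian C.Xh := LocallyOfFiniteType.isLocallyNoetherian C.q
  have hE' := CurveRR.Multi.isFinLocFreeOfRank_pullback C.g hE
  have hfl' : FlatMod.IsFlatOver C.q (CohB1.tensorMod F ((Scheme.Modules.pullback C.g).obj E)) :=
    DQCoh.isFlatOver_of_iso (TMul.commIso _ F) fun x =>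
      Nakai.flatOver_tensor C.q (DerPerf.isFlat_of_isFinLocFree (fun x => let ⟨U, hU⟩ := hE' x; ⟨U, r, hU⟩) x) (hfl x)
  refine Eq.trans ?_ (Eq.trans
    (C.euler_eq (CurveRR.isCoh_tensor' hF (CurveRR.isCoh_of_rank hE')) hfl') ?_)
  · exact CurveRR.euler_eq_of_iso (twistIso (Iso.refl _) ((Scheme.Modules.pullbackComp C.u C.g).app E).symm ≪≫
      KFlat.pullTensorIso C.u F _)
  · exact CurveRR.euler_eq_of_iso ((KFlat.pullTensorIso C.ih F _).symm ≪≫
      twistIso (Iso.refl _) ((Scheme.Modules.pullbackComp C.ih C.g).app E ≪≫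
        (Scheme.Modules.pullbackCongr C.hih).app E))

variable (hgi : ∀ (D : Set Xs) (hD : D ∈ irreducibleComponents (Xs : Type u)), GeometricallyIntegral
    (VecSt.subschι Xs D (isClosed_of_mem_irreducibleComponents D hD) ≫
      (Xs ↘ Spec (CommRingCat.of (IsLocalRing.ResidueField R)))))

include hgi

theorem reducedYo : IsReduced C.Yo := by
  haveI := C.proper
  haveI := C.closed
  haveI : Flat C.q := MorphismProperty.of_isPullback (P := @Flat) C.sq inferInstance
  exact isReduced_pullback_field C.q C.sqs C.hc hgi _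

variable (hpure : ∀ D ∈ irreducibleComponents (Xs : Type u), topologicalKrullDim D = 1)

include hpure

theorem pureYo : ∀ D ∈ irreducibleComponents (C.Yo : Type u), topologicalKrullDim D = 1 := by
  haveI := C.proper
  haveI := C.closed
  haveI : Flat C.q := MorphismProperty.of_isPullback (P := @Flat) C.sq inferInstance
  exact pure_pullback_field C.q C.sqs C.hc hgi hpure C.ψ C.ψinj

/-- The torsion-free quotient under a flat quotient on the geometric generic fibre has no larger `β`. -/
theorem exists_generic_quot {I₀ E : X.Modules} {r : ℕ} (hE : FlatMod.IsFinLocFreeOfRank r E)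
    (hI : TFOne.IsTF1 C.Yo ((Scheme.Modules.pullback (C.u ≫ C.g)).obj I₀))
    (hIs : TFOne.IsTF1 Xs ((Scheme.Modules.pullback i).obj I₀))
    {F : C.Xh.Modules} (hF : Coh.IsCoh F) (hfl : FlatMod.IsFlatOver C.q F)
    (p : (Scheme.Modules.pullback C.g).obj I₀ ⟶ F) [Epi p] {Y : Set Xs} (hY : IsClosed Y) {G₀ : Xs.Modules}
    {π₀ : (Scheme.Modules.pullback i).obj I₀ ⟶ G₀}
    (hG₀ : TFOne.IsQuotOn Xs ((Scheme.Modules.pullback i).obj I₀) Y G₀ π₀)
    (e : (Scheme.Modules.pullback C.ih).obj F ≅ G₀) :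
    ∃ (Z : Set C.Yo) (hZ : IsClosed Z) (G : C.Yo.Modules)
      (π : (Scheme.Modules.pullback (C.u ≫ C.g)).obj I₀ ⟶ G),
      TFOne.IsQuotOn C.Yo ((Scheme.Modules.pullback (C.u ≫ C.g)).obj I₀) Z G π ∧
      (VecSt.IsSubcurve C.Yo Z ∨ Z = ∅) ∧
      (∀ η ∈ genericPoints C.Yo, (η ∈ Z ↔ η ∈ CohB1.support ((Scheme.Modules.pullback C.u).obj F))) ∧
      TFOne.rBeta C.Yo C.Ω C.qo Z hZ ((Scheme.Modules.pullback (C.u ≫ C.g)).obj E) r G ≤
        TFOne.rBeta Xs (IsLocalRing.ResidueField R) (Xs ↘ Spec (CommRingCat.of (IsLocalRing.ResidueField R))) Y hY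
          ((Scheme.Modules.pullback i).obj E) r G₀ := by
  haveI := C.reducedYo hgi
  haveI : IsProper (C.Yo ↘ Spec (CommRingCat.of C.Ω)) := C.properYo
  haveI := CurveRR.isNoetherian_of_proper C.Ω C.Yo
  haveI : IsLocallyNoetherian C.Yo := LocallyOfFiniteType.isLocallyNoetherian (C.Yo ↘ Spec (CommRingCat.of C.Ω))
  let M := (Scheme.Modules.pullback (C.u ≫ C.g)).obj I₀
  let Q := (Scheme.Modules.pullback C.u).obj F
  have hQ : Coh.IsCoh Q := QC.isCoh_pullback C.u hF
  let π : M ⟶ Q := (Scheme.Modules.pullbackComp C.u C.g).inv.app I₀ ≫ (Scheme.Modules.pullback C.u).map p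
  haveI : Epi π := inferInstance
  obtain ⟨G, πG, hG, hgen⟩ := exists_quot_generic hI (CohB1.support Q)
  haveI := hG.1
  have hw : kernel.ι π ≫ πG = 0 := hom_eq_zero hG.2.1.1 hG.2.2.1 _ fun η hη m => by
    rw [stalkHom_comp]
    by_cases hηG : η ∈ CohB1.support G
    · have h0 : stalkHom π η (stalkHom (kernel.ι π) η m) = 0 := by
        rw [← stalkHom_comp, kernel.condition, stalkHom_zero]
      rw [(injective_iff_map_eq_zero _).1 (stalkHom_injective_of_mem hI.2.2 π hη ((hgen η hη).1 hηG)) _ h0, map_zero]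
    · exact stalk_eq_zero hηG _
  let q' : Q ⟶ G := Abelian.epiDesc π πG hw
  have hq' : π ≫ q' = πG := Abelian.comp_epiDesc _ _ _
  haveI : Epi q' := epi_of_epi_fac hq'
  have hinj : ∀ η ∈ genericPoints C.Yo, Function.Injective (stalkHom q' η) := fun η hη => by
    rw [injective_iff_map_eq_zero]
    intro a ha
    by_cases hηQ : η ∈ CohB1.support Q
    · obtain ⟨m, rfl⟩ := stalkHom_surjective π η a
      rw [← stalkHom_comp, hq'] at ha
      rw [(injective_iff_map_eq_zero _).1
        (stalkHom_injective_of_quot hI.2.2 hG hη ((hgen η hη).2 hηQ)) _ ha, map_zero]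
    · exact stalk_eq_zero hηQ _
  have hcl : IsClosed (CohB1.support G) := QC.isClosed_support hG.2.1.2
  refine ⟨CohB1.support G, hcl, G, πG, hG, ?_, hgen, ?_⟩
  · rw [support_eq hG.2.1 hG.2.2.1]
    exact isSubcurve_or_empty
  · refine (rBeta_le_euler (k := C.Ω) (C.pureYo hgi hpure) (CurveRR.Multi.isFinLocFreeOfRank_pullback _ hE) hI.2.2
      hG hcl hQ q' hinj).trans (le_of_eq ?_)
    rw [rBeta_eq_euler hpure (CurveRR.Multi.isFinLocFreeOfRank_pullback i hE) hIs.2.2 hG₀ hY,
      C.euler_twist hF hfl hE]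
    exact CurveRR.euler_eq_of_iso (twistIso e (Iso.refl _))

end Compl

end Groth.Agent.TFOneLib
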