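import Groth.Agent.TFOneLib.Decomp
import Groth.Agent.K0ResLF.Pd

/-!
Numerical properties of elementary modifications of torsion-free rank one sheaves.
-/

set_option autoImplicit false
set_option linter.style.haveILetI false
set_option linter.unusedSectionVars false
set_option backward.isDefEq.respectTransparency false

universe u

open CategoryTheory CategoryTheory.Limits AlgebraicGeometry TopologicalSpace Opposite
open Groth.Agent.WeakAssLib (mgerm mgerm_res stalkHom stalkHom_germ stalkHom_smul stalkHom_injective stalk_exact)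

noncomputable section

namespace Groth.Agent.TFOneLib

variable {X : Scheme.{u}} [IsLocallyNoetherian X] [IsReduced X]

/-- An epimorphism out of a rank one module is injective at generic points of the support. -/
theorem stalkHom_injective_of_mem {F Q : X.Modules} (hF : TFOne.IsRkOne X F) (u : F ⟶ Q) [Epi u] {η : X}
    (hη : η ∈ genericPoints X) (hηQ : η ∈ CohB1.support Q) : Function.Injective (stalkHom u η) := by
  obtain ⟨e⟩ := hF η hη
  rw [injective_iff_map_eq_zero]
  intro m hm
  by_contra hm0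
  letI := (isField_stalk hη).toField
  refine hηQ ⟨fun a b => ?_⟩
  have he : e m ≠ 0 := fun h => hm0 (e.map_eq_zero_iff.1 h)
  have hall : ∀ c : F.presheaf.stalk η, stalkHom u η c = 0 := fun c => by
    have : c = (e c / e m) • m := e.injective (by rw [map_smul, smul_eq_mul, div_mul_cancel₀ _ he])
    rw [this, stalkHom_smul, hm, smul_zero]
  obtain ⟨a', rfl⟩ := stalkHom_surjective u η a
  obtain ⟨b', rfl⟩ := stalkHom_surjective u η b
  rw [hall, hall]

/-- A subobject of zero is zero on stalks. -/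
theorem stalk_eq_zero {G : X.Modules} {x : X} (h : x ∉ CohB1.support G) (v : G.presheaf.stalk x) : v = 0 := by
  haveI := subsingleton_of_notMem h
  exact Subsingleton.elim _ _

theorem notMem_of_forall {G : X.Modules} {x : X} (h : ∀ v : G.presheaf.stalk x, v = 0) : x ∉ CohB1.support G :=
  notMem_support ⟨fun a b => (h a).trans (h b).symm⟩

theorem mem_of_injective {F G : X.Modules} (hF : TFOne.IsRkOne X F) (u : F ⟶ G) {x : X}
    (hx : x ∈ genericPoints X) (h : Function.Injective (stalkHom u x)) : x ∈ CohB1.support G := fun hs => by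
  obtain ⟨m, hm⟩ := exists_ne_zero hF hx
  exact hm (h ((stalk_eq_zero (fun h' => h' hs) _).trans (map_zero _).symm))

section Curve

variable (k : Type u) [Field k] [X.Over (Spec (CommRingCat.of k))] [IsProper (X ↘ Spec (CommRingCat.of k))]

/-- The torsion-free quotient has the smallest Euler characteristic among quotients with the same generic support. -/
theorem euler_quot_le (hdim : topologicalKrullDim X ≤ 1) {F Q H : X.Modules} (hF : TFOne.IsRkOne X F) (u : F ⟶ Q)
    [Epi u] (hQ : Coh.IsCoh Q) {S : Set X} {v : F ⟶ H} (hH : TFOne.IsQuotOn X F S H v)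
    (h : ∀ η ∈ genericPoints X, (η ∈ CohB1.support Q ↔ η ∈ S)) :
    Curv2.euler k X H ≤ Curv2.euler k X Q := by
  haveI := hH.1
  have h0 : kernel.ι u ≫ v = 0 := by
    refine hom_eq_zero hH.2.1.1 hH.2.2.1 _ fun η hη m => ?_
    rw [stalkHom_comp]
    by_cases hS : η ∈ S
    · have h1 : stalkHom u η (stalkHom (kernel.ι u) η m) = 0 := by
        rw [← stalkHom_comp, kernel.condition, stalkHom_zero]
      rw [(injective_iff_map_eq_zero _).1 (stalkHom_injective_of_mem hF u hη ((h η hη).2 hS)) _ h1, map_zero]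
    · exact stalk_eq_zero (by rw [hH.2.2.2]; exact hS) _
  let r : Q ⟶ H := Abelian.epiDesc u v h0
  have hr : u ≫ r = v := Abelian.comp_epiDesc _ _ _
  haveI : Epi r := epi_of_epi_fac hr
  have hK : Coh.IsCoh (kernel r) := Groth.Agent.QC.isCoh_kernel hQ hH.2.1.1 r
  have e := CurveRR.euler_add (k := k) (CurveRR.shortExact_ker r) hK hQ hH.2.1
  have hnn := (euler_torsion (k := k) hdim hK fun η hη => ⟨fun a b => ?_⟩).1
  · simp only at e
    omega
  · suffices hz : ∀ m, (m : (kernel r).presheaf.stalk η) = 0 from (hz a).trans (hz b).symm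
    intro m
    refine stalkHom_injective (kernel.ι r) η ?_
    rw [map_zero]
    by_cases hS : η ∈ S
    · obtain ⟨x, hx⟩ := stalkHom_surjective u η (stalkHom (kernel.ι r) η m)
      have h1 : stalkHom v η x = 0 := by
        rw [← hr, stalkHom_comp, hx, ← stalkHom_comp, kernel.condition, stalkHom_zero]
      rw [← hx, (injective_iff_map_eq_zero _).1 (stalkHom_injective_of_quot hF hH hη hS) x h1, map_zero]
    · exact stalk_eq_zero (fun hq => hS ((h η hη).1 hq)) _

/-- Torsion-free quotients with the same generic support have the same Euler characteristic. -/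
theorem euler_quot_eq (hdim : topologicalKrullDim X ≤ 1) {F G H : X.Modules} (hF : TFOne.IsRkOne X F) {S T : Set X}
    {u : F ⟶ G} {v : F ⟶ H} (hG : TFOne.IsQuotOn X F S G u) (hH : TFOne.IsQuotOn X F T H v)
    (h : ∀ η ∈ genericPoints X, (η ∈ S ↔ η ∈ T)) : Curv2.euler k X G = Curv2.euler k X H := by
  haveI := hG.1; haveI := hH.1
  exact le_antisymm (euler_quot_le k hdim hF v hH.2.1 hG fun η hη => by rw [hH.2.2.2]; exact (h η hη).symm)
    (euler_quot_le k hdim hF u hG.2.1 hH fun η hη => by rw [hG.2.2.2]; exact h η hη)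

variable {M N GY : X.Modules} {Y : Set X} {πY : M ⟶ GY} {α : GY ⟶ N} {β : N ⟶ kernel πY} {w : α ≫ β = 0}
  (hM : TFOne.IsTF1 X M) (hGY : TFOne.IsQuotOn X M Y GY πY) (hS : (ShortComplex.mk α β w).ShortExact)

include hM hGY hS

theorem mod_generic {η : X} (hη : η ∈ genericPoints X) :
    (η ∈ Y → Function.Bijective (stalkHom α η) ∧ ∀ v : (kernel πY).presheaf.stalk η, v = 0) ∧
      (η ∉ Y → Function.Bijective (stalkHom β η) ∧ ∀ v : GY.presheaf.stalk η, v = 0) := by
  haveI := hS.mono_f; haveI := hS.epi_g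
  refine ⟨fun hY => ?_, fun hY => ?_⟩
  · have hK : ∀ v : (kernel πY).presheaf.stalk η, v = 0 := fun v => by
      refine stalkHom_injective (kernel.ι πY) η ?_
      rw [map_zero]
      refine (injective_iff_map_eq_zero _).1 (stalkHom_injective_of_quot hM.2.2 hGY hη hY) _ ?_
      rw [← stalkHom_comp, kernel.condition, stalkHom_zero]
    exact ⟨⟨stalkHom_injective α η, fun n => stalk_exact _ hS η n (hK _)⟩, hK⟩
  · have hG : ∀ v : GY.presheaf.stalk η, v = 0 := stalk_eq_zero (by rw [hGY.2.2.2]; exact hY)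
    refine ⟨⟨(injective_iff_map_eq_zero _).2 fun n hn => ?_, stalkHom_surjective β η⟩, hG⟩
    obtain ⟨m, hm⟩ := stalk_exact _ hS η n hn
    rw [← hm, hG m]
    exact map_zero _

theorem mod_isTF1 : TFOne.IsTF1 X N := by
  haveI := hS.mono_f; haveI := hS.epi_g; haveI := hGY.1
  have hKc : Coh.IsCoh (kernel πY) := Groth.Agent.QC.isCoh_kernel hM.1 hGY.2.1.1 πY
  refine ⟨K0ResLF.isCoh_mid hS hGY.2.1 hKc, fun x => ⟨fun r hr a b hab => ?_⟩, fun η hη => ?_⟩
  · have hK := isTorsionFree_of_mono (kernel.ι πY) hM.2.1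
    have h0 : stalkHom β x (a - b) = 0 := by
      refine ((hK x).isSMulRegular hr).right_eq_zero_of_smul ?_
      rw [← stalkHom_smul, smul_sub, show r • a = r • b from hab, sub_self, map_zero]
    obtain ⟨v, hv⟩ := stalk_exact _ hS x (a - b) h0
    have h1 : stalkHom α x (r • v) = stalkHom α x 0 := by
      rw [map_zero, stalkHom_smul]
      change r • stalkHom (ShortComplex.mk α β w).f x v = 0
      rw [hv, smul_sub, show r • a = r • b from hab, sub_self]
    have hv0 : v = 0 := ((hGY.2.2.1 x).isSMulRegular hr).right_eq_zero_of_smul (stalkHom_injective α x h1)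
    rw [← sub_eq_zero, ← hv, hv0]
    exact map_zero _
  · obtain ⟨e⟩ := hM.2.2 η hη
    by_cases hY : η ∈ Y
    · let f : GY.presheaf.stalk η →ₗ[X.presheaf.stalk η] N.presheaf.stalk η :=
        { toFun := stalkHom α η
          map_add' := map_add _
          map_smul' := stalkHom_smul α η }
      let p : M.presheaf.stalk η →ₗ[X.presheaf.stalk η] GY.presheaf.stalk η :=
        { toFun := stalkHom πY η
          map_add' := map_add _
          map_smul' := stalkHom_smul πY η }
      exact ⟨((LinearEquiv.ofBijective p ⟨stalkHom_injective_of_quot hM.2.2 hGY hη hY,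
        stalkHom_surjective πY η⟩).trans (LinearEquiv.ofBijective f ((mod_generic hM hGY hS hη).1 hY).1)).symm.trans e⟩
    · let f : N.presheaf.stalk η →ₗ[X.presheaf.stalk η] (kernel πY).presheaf.stalk η :=
        { toFun := stalkHom β η
          map_add' := map_add _
          map_smul' := stalkHom_smul β η }
      let j : (kernel πY).presheaf.stalk η →ₗ[X.presheaf.stalk η] M.presheaf.stalk η :=
        { toFun := stalkHom (kernel.ι πY) η
          map_add' := map_add _
          map_smul' := stalkHom_smul _ η }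
      have hj : Function.Bijective j := by
        refine ⟨stalkHom_injective (kernel.ι πY) η, fun m => ?_⟩
        exact stalk_exact _ (CurveRR.shortExact_ker πY) η m (((mod_generic hM hGY hS hη).2 hY).2 _)
      exact ⟨((LinearEquiv.ofBijective f ((mod_generic hM hGY hS hη).2 hY).1).trans
        (LinearEquiv.ofBijective j hj)).trans e⟩

/-- The cokernel part of the modification is its quotient away from `Y`. -/
theorem mod_kernel_quot : TFOne.IsQuotOn X N (CohB1.support (kernel πY)) (kernel πY) β ∧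
    ∀ η ∈ genericPoints X, (η ∈ CohB1.support (kernel πY) ↔ η ∉ Y) := by
  haveI := hS.epi_g; haveI := hGY.1
  refine ⟨⟨hS.epi_g, Groth.Agent.QC.isCoh_kernel hM.1 hGY.2.1.1 πY,
    isTorsionFree_of_mono (kernel.ι πY) hM.2.1, rfl⟩, fun η hη => ⟨fun h hY => ?_, fun hY => ?_⟩⟩
  · exact notMem_of_forall ((mod_generic hM hGY hS hη).1 hY).2 h
  · exact mem_of_injective (mod_isTF1 hM hGY hS).2.2 β hη ((mod_generic hM hGY hS hη).2 hY).1.1

/-- Splitting a quotient of the modification into the image of `G` and a quotient of the kernel. -/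
theorem mod_image {T : Set X} {GT : X.Modules} {πT : N ⟶ GT} (hGT : TFOne.IsQuotOn X N T GT πT) :
    ∃ (G' Q : X.Modules) (π' : M ⟶ G') (q : kernel πY ⟶ Q), TFOne.IsQuotOn X M (CohB1.support G') G' π' ∧
      Epi q ∧ Coh.IsCoh Q ∧ (∀ η ∈ genericPoints X, (η ∈ CohB1.support G' ↔ η ∈ Y ∧ η ∈ T)) ∧
      (∀ η ∈ genericPoints X, (η ∈ CohB1.support Q ↔ η ∈ T ∧ η ∉ Y)) ∧
      Curv2.euler k X GT = Curv2.euler k X G' + Curv2.euler k X Q := by
  haveI := hS.mono_f; haveI := hS.epi_g; haveI := hGY.1; haveI := hGT.1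
  have hN := mod_isTF1 hM hGY hS
  let φ : GY ⟶ GT := α ≫ πT
  let G' : X.Modules := kernel (cokernel.π φ)
  let Q : X.Modules := cokernel φ
  let i' : G' ⟶ GT := kernel.ι (cokernel.π φ)
  let p' : GY ⟶ G' := Abelian.factorThruImage φ
  haveI : Mono i' := inferInstanceAs (Mono (kernel.ι (cokernel.π φ)))
  haveI : Epi p' := inferInstanceAs (Epi (Abelian.factorThruImage φ))
  have hQ : Coh.IsCoh Q := Groth.Agent.QC.isCoh_cokernel hGY.2.1.1 hGT.2.1 φ
  have hG' : Coh.IsCoh G' := Groth.Agent.QC.isCoh_kernel hGT.2.1 hQ.1 (cokernel.π φ)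
  have hu : α ≫ (πT ≫ cokernel.π φ) = 0 := by rw [← Category.assoc]; exact cokernel.condition φ
  let q : kernel πY ⟶ Q := hS.exact.desc (πT ≫ cokernel.π φ) hu
  have hq : β ≫ q = πT ≫ cokernel.π φ := hS.exact.g_desc _ hu
  haveI : Epi (πT ≫ cokernel.π φ) := epi_comp _ _
  haveI : Epi q := epi_of_epi_fac hq
  have hSE := CurveRR.shortExact_ker (cokernel.π φ)
  have hGT' : ∀ η ∈ genericPoints X, η ∉ T → ∀ v : GT.presheaf.stalk η, v = 0 := fun η _ h =>
    stalk_eq_zero (by rw [hGT.2.2.2]; exact h)
  refine ⟨G', Q, πY ≫ p', q, ⟨epi_comp _ _, hG', isTorsionFree_of_mono i' hGT.2.2.1, rfl⟩, inferInstance, hQ,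
    fun η hη => ⟨fun h => ?_, fun h => ?_⟩, fun η hη => ⟨fun h => ?_, fun h => ?_⟩, ?_⟩
  · by_contra hc
    refine notMem_of_forall (fun v => ?_) h
    rcases not_and_or.1 hc with hY | hT
    · obtain ⟨a, rfl⟩ := stalkHom_surjective p' η v
      rw [((mod_generic hM hGY hS hη).2 hY).2 a, map_zero]
    · exact stalkHom_injective i' η ((hGT' η hη hT _).trans (map_zero _).symm)
  · refine mem_of_injective hM.2.2 (πY ≫ p') hη fun a b hab => ?_
    have hab' := congrArg (stalkHom i' η) hab
    have e1 : (πY ≫ p') ≫ i' = πY ≫ α ≫ πT := by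
      rw [Category.assoc]; exact congrArg (πY ≫ ·) (Abelian.image.fac φ)
    rw [← stalkHom_comp, ← stalkHom_comp, e1, stalkHom_comp, stalkHom_comp, stalkHom_comp, stalkHom_comp] at hab'
    exact stalkHom_injective_of_quot hM.2.2 hGY hη h.1
      (((mod_generic hM hGY hS hη).1 h.1).1.1 (stalkHom_injective_of_quot hN.2.2 hGT hη h.2 hab'))
  · refine ⟨?_, fun hY => ?_⟩
    · by_contra hT
      refine notMem_of_forall (fun v => ?_) h
      obtain ⟨a, rfl⟩ := stalkHom_surjective (cokernel.π φ) η v
      rw [hGT' η hη hT a, map_zero]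
    · refine notMem_of_forall (fun v => ?_) h
      obtain ⟨a, rfl⟩ := stalkHom_surjective q η v
      rw [((mod_generic hM hGY hS hη).1 hY).2 a, map_zero]
  · refine mem_of_injective hN.2.2 (πT ≫ cokernel.π φ) hη ((injective_iff_map_eq_zero _).2 fun n hn => ?_)
    rw [stalkHom_comp] at hn
    obtain ⟨v, hv⟩ := stalk_exact _ hSE η (stalkHom πT η n) hn
    obtain ⟨a, ha⟩ := stalkHom_surjective p' η v
    rw [← ha, ((mod_generic hM hGY hS hη).2 h.2).2 a, map_zero, map_zero] at hv
    exact (injective_iff_map_eq_zero _).1 (stalkHom_injective_of_quot hN.2.2 hGT hη h.1) n hv.symm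
  · have e := CurveRR.euler_add (k := k) hSE hG' hGT.2.1 hQ
    simp only at e
    exact e

/-- The kernel of `M_U ⟶ M_Y` is a quotient of the modification. -/
theorem mod_sub {U : Set X} {GU : X.Modules} {πU : M ⟶ GU} (hGU : TFOne.IsQuotOn X M U GU πU)
    (hYU : ∀ η ∈ genericPoints X, η ∈ Y → η ∈ U) :
    ∃ (H : X.Modules) (v : N ⟶ H), TFOne.IsQuotOn X N (CohB1.support H) H v ∧
      (∀ η ∈ genericPoints X, (η ∈ CohB1.support H ↔ η ∈ U ∧ η ∉ Y)) ∧
      Curv2.euler k X GU = Curv2.euler k X GY + Curv2.euler k X H := by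
  haveI := hS.epi_g; haveI := hGY.1; haveI := hGU.1
  have hN := mod_isTF1 hM hGY hS
  obtain ⟨p, hp, hpe⟩ := exists_desc hM.2.2 hGU hGY hYU
  haveI := hpe
  have hH : Coh.IsCoh (kernel p) := Groth.Agent.QC.isCoh_kernel hGU.2.1 hGY.2.1.1 p
  let g : kernel πY ⟶ kernel p := kernel.lift p (kernel.ι πY ≫ πU) (by rw [Category.assoc, hp, kernel.condition])
  haveI : Epi g := by
    rw [epi_iff_surjective_up_to_refinements]
    intro A y
    obtain ⟨A', e, he, x, hx⟩ := surjective_up_to_refinements_of_epi πU (y ≫ kernel.ι p)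
    have hx0 : x ≫ πY = 0 := by
      rw [← hp, ← Category.assoc, ← hx, Category.assoc, Category.assoc, kernel.condition, comp_zero, comp_zero]
    refine ⟨A', e, he, kernel.lift πY x hx0, ?_⟩
    rw [← cancel_mono (kernel.ι p), Category.assoc, hx, Category.assoc, kernel.lift_ι, ← Category.assoc,
      kernel.lift_ι]
  refine ⟨kernel p, β ≫ g, ⟨epi_comp _ _, hH, isTorsionFree_of_mono (kernel.ι p) hGU.2.2.1, rfl⟩,
    fun η hη => ⟨fun h => ?_, fun h => ?_⟩, ?_⟩
  · refine ⟨?_, fun hY => ?_⟩
    · by_contra hU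
      refine notMem_of_forall (fun v => stalkHom_injective (kernel.ι p) η ?_) h
      exact (stalk_eq_zero (by rw [hGU.2.2.2]; exact hU) _).trans (map_zero _).symm
    · refine notMem_of_forall (fun v => ?_) h
      obtain ⟨a, rfl⟩ := stalkHom_surjective g η v
      rw [((mod_generic hM hGY hS hη).1 hY).2 a, map_zero]
  · refine mem_of_injective hN.2.2 (β ≫ g) hη fun a b hab => ?_
    have hab' := congrArg (stalkHom (kernel.ι p) η) hab
    rw [← stalkHom_comp, ← stalkHom_comp, Category.assoc, kernel.lift_ι, stalkHom_comp, stalkHom_comp,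
      stalkHom_comp, stalkHom_comp] at hab'
    exact ((mod_generic hM hGY hS hη).2 h.2).1.1
      (stalkHom_injective (kernel.ι πY) η (stalkHom_injective_of_quot hM.2.2 hGU hη h.1 hab'))
  · have e := CurveRR.euler_add (k := k) (CurveRR.shortExact_ker p) hH hGU.2.1 hGY.2.1
    simp only at e
    omega

end Curve

end Groth.Agent.TFOneLib
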