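import Groth.Agent.TFOneLib.Stable
import Groth.Agent.TFOneLib.Split
import Groth.Agent.FreeLite.Basic
import Groth.Agent.WittSub.Main
import Groth.Agent.TFOneLib.Family
import Groth.Agent.WeakAssBC.Scheme
import Groth.Agent.LocalDimBC.Scheme
import Groth.Agent.SupportLib.Pull
import Groth.Agent.QC.Pullback
import Mathlib.AlgebraicGeometry.Geometrically.Integral
import Mathlib.AlgebraicGeometry.Morphisms.UniversallyOpen

/-!
Torsion-free rank one modules under extension of the base field.
-/

set_option autoImplicit false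
set_option linter.style.haveILetI false
set_option linter.unusedSectionVars false
set_option backward.isDefEq.respectTransparency false
set_option backward.isDefEq.respectTransparency.types false

universe u

open CategoryTheory CategoryTheory.Limits AlgebraicGeometry TopologicalSpace Opposite
open Groth.Agent.WeakAssLib (mgerm mgerm_res mgerm_smul ext_germ stalkHom stalkHom_germ stalkHom_smul)
open Groth.Agent.QC (res)

noncomputable section

namespace Groth.Agent.TFOneLib

theorem mem_genericPoints_of_min {X : Scheme.{u}} {x : X} (h : ∀ z : X, z ⤳ x → z = x) : x ∈ genericPoints X := by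
  obtain ⟨η, hη, hηx⟩ := exists_generic x
  rwa [← h η hηx]

/-- A point with field local ring is a generic point. -/
theorem mem_genericPoints_of_isField {X : Scheme.{u}} {x : X} (hx : IsField (X.presheaf.stalk x)) :
    x ∈ genericPoints X := by
  letI := hx.toField
  refine mem_genericPoints_of_min fun z hz => ?_
  have hr := Scheme.range_fromSpecStalk (X := X) (x := x)
  obtain ⟨p, hp⟩ : z ∈ Set.range (X.fromSpecStalk x) := by rw [hr]; exact hz
  obtain ⟨q, hq⟩ : x ∈ Set.range (X.fromSpecStalk x) := by rw [hr]; exact specializes_rfl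
  haveI : Subsingleton ↥(Spec (X.presheaf.stalk x)) := inferInstanceAs (Subsingleton (PrimeSpectrum _))
  exact hp.symm.trans ((congrArg _ (Subsingleton.elim p q)).trans hq)

/-- Weakly associated points of torsion-free modules are generic points. -/
theorem mem_genericPoints_of_weakAss {X : Scheme.{u}} [IsLocallyNoetherian X] [IsReduced X] [NoetherianSpace X]
    {F : X.Modules} (hq : Coh.IsQCoh F) (hF : TorSh.IsTorsionFree F) {x : X}
    (hx : Curv2.IsWeakAssPoint F x) : x ∈ genericPoints X := by
  classical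
  by_contra hgen
  obtain ⟨m, hm⟩ := hx
  haveI : F.IsQuasicoherent := hq
  obtain ⟨U₁, hx₁, s₁, rfl⟩ := F.presheaf.exists_germ_eq (x := x) m
  let 𝒮 := {C | C ∈ irreducibleComponents (X : Type u) ∧ x ∉ C}
  have hcl : IsClosed (⋃₀ 𝒮) := by
    rw [Set.sUnion_eq_biUnion]
    exact (NoetherianSpace.finite_irreducibleComponents.subset fun C hC => hC.1).isClosed_biUnion
      fun C hC => isClosed_of_mem_irreducibleComponents C hC.1
  have hxN : x ∈ U₁ ⊓ ⟨(⋃₀ 𝒮)ᶜ, hcl.isOpen_compl⟩ := ⟨hx₁, fun ⟨C, hC, hxC⟩ => hC.2 hxC⟩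
  obtain ⟨W, hW, hxW, hle⟩ := exists_isAffineOpen_mem_and_subset hxN
  have h1 : W ≤ U₁ := fun y hy => (hle hy).1
  let s := res F h1 s₁
  have hms : (F.presheaf.germ U₁ x hx₁).hom s₁ = mgerm F hxW s := (mgerm_res F h1 hxW s₁).symm
  have hs0 : s = 0 := by
    refine section_eq_zero hF s fun η hη hηW => ?_
    have hηx : η ⤳ x := by
      rw [specializes_iff_mem_closure]
      by_contra hc
      exact (hle hηW).2 ⟨closure {η}, ⟨hη, hc⟩, subset_closure rfl⟩
    obtain ⟨a, hap, haq⟩ : ∃ a, a ∈ (hW.primeIdealOf ⟨x, hxW⟩).asIdeal ∧ a ∉ (hW.primeIdealOf ⟨η, hηW⟩).asIdeal := by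
      by_contra hne
      push Not at hne
      have h2 := ((PrimeSpectrum.le_iff_specializes (hW.primeIdealOf ⟨x, hxW⟩) (hW.primeIdealOf ⟨η, hηW⟩)).1 hne).map
        hW.fromSpec.continuous
      rw [hW.fromSpec_primeIdealOf, hW.fromSpec_primeIdealOf] at h2
      have h4 : x ⤳ η := h2
      exact hgen (by rw [(h4.antisymm hηx).eq]; exact hη)
    have ham : (X.presheaf.germ W x hxW).hom a ∈ IsLocalRing.maximalIdeal (X.presheaf.stalk x) := by
      intro hu
      exact (WeakAssLib.mem_primeIdealOf hW hxW a).1 ((X.mem_basicOpen a x hxW).2 hu) hap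
    rw [← hm] at ham
    obtain ⟨n, hn⟩ := ham
    have h0 : mgerm F hxW (a ^ n • s) = 0 := by
      rw [mgerm_smul, map_pow, ← hms]
      exact hn
    obtain ⟨V, hxV, i, i', hV⟩ := TopCat.Presheaf.germ_eq F.presheaf x hxW hxW (a ^ n • s) 0 (h0.trans (map_zero _).symm)
    have hηV : η ∈ V := hηx.mem_open V.isOpen hxV
    have h3 : mgerm F hηW (a ^ n • s) = 0 := by
      rw [← mgerm_res F (leOfHom i) hηV]
      exact (congrArg (mgerm F hηV) (hV.trans (map_zero _))).trans (map_zero _)
    rw [mgerm_smul, map_pow] at h3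
    exact ((WeakAssLib.isUnit_germ hW hηW haq).pow n).smul_eq_zero.1 h3
  rw [hms, hs0, map_zero, LinearMap.toSpanSingleton_zero, LinearMap.ker_zero, Ideal.radical_top] at hm
  exact (IsLocalRing.maximalIdeal.isMaximal _).ne_top hm.symm

section Ext

variable {k Ω : Type u} [Field k] [Field Ω] [Algebra k Ω] {X Y : Scheme.{u}} [X.Over (Spec (CommRingCat.of k))]
  [IsProper (X ↘ Spec (CommRingCat.of k))] [IsReduced X]
  (hgi : ∀ (C : Set X) (hC : C ∈ irreducibleComponents (X : Type u)), GeometricallyIntegral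
    (VecSt.subschι X C (isClosed_of_mem_irreducibleComponents C hC) ≫ (X ↘ Spec (CommRingCat.of k))))
  {g : Y ⟶ X} {qY : Y ⟶ Spec (CommRingCat.of Ω)}
  (sq : IsPullback g qY (X ↘ Spec (CommRingCat.of k)) (Spec.map (CommRingCat.ofHom (algebraMap k Ω))))

include sq

theorem ext_flat : Flat g :=
  MorphismProperty.of_isPullback (P := @Flat) sq.flip
    (Flat.SpecMap_iff.2 (by
      haveI : Module.Flat k Ω := inferInstance
      exact RingHom.flat_algebraMap_iff.2 inferInstance))

theorem ext_surjective : Surjective g :=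
  MorphismProperty.of_isPullback (P := @Surjective) sq.flip ⟨fun _ => ⟨IsLocalRing.closedPoint Ω,
    Subsingleton.elim (α := PrimeSpectrum k) _ _⟩⟩

theorem ext_proper : IsProper qY := MorphismProperty.of_isPullback (P := @IsProper) sq inferInstance

theorem ext_noetherian : IsNoetherian Y := by
  haveI := ext_proper sq
  haveI : IsLocallyNoetherian Y := LocallyOfFiniteType.isLocallyNoetherian qY
  haveI : CompactSpace Y := QuasiCompact.compactSpace_of_compactSpace qY
  exact ⟨⟩

/-- Generic points go to generic points. -/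
theorem image_generic {y : Y} (hy : y ∈ genericPoints Y) : g y ∈ genericPoints X := by
  haveI := ext_flat sq
  refine mem_genericPoints_of_min fun z hz => ?_
  obtain ⟨y', hy', rfl⟩ := Flat.generalizingMap g hz
  rw [eq_of_specializes hy hy']

include hgi

/-- The part over a component. -/
theorem exists_component {η : X} (hη : η ∈ genericPoints X) :
    ∃ y ∈ genericPoints Y, g y = η ∧ ∀ z, η ⤳ g z → y ⤳ z := by
  let C := closure ({η} : Set X)
  let ι := VecSt.subschι X C (isClosed_of_mem_irreducibleComponents C hη)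
  have sqT := (IsPullback.of_hasPullback g ι).flip
  haveI hT : IsIntegral (pullback g ι) :=
    (hgi C hη).geometrically_isIntegral _ _ _ (sqT.paste_vert sq)
  let J : pullback g ι ⟶ Y := pullback.fst g ι
  have hrange : Set.range J = g ⁻¹' C := by
    rw [Scheme.Pullback.range_fst, range_subschι]
  let y : Y := J (genericPoint ↥(pullback g ι))
  have hyz : ∀ z, η ⤳ g z → y ⤳ z := fun z hz => by
    obtain ⟨t, rfl⟩ : z ∈ Set.range J := by rw [hrange]; exact specializes_iff_mem_closure.1 hz
    exact (genericPoint_specializes t).map J.continuous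
  obtain ⟨z₀, hz₀⟩ := (ext_surjective sq).surj η
  have hgy : g y = η :=
    eq_of_specializes hη ((hz₀ ▸ (hyz z₀ (hz₀ ▸ specializes_rfl)).map g.continuous : g y ⤳ η))
  refine ⟨y, mem_genericPoints_of_min fun z hz => ?_, hgy, hyz⟩
  have h1 : g z ⤳ η := hgy ▸ hz.map g.continuous
  exact (hz.antisymm (hyz z (by rw [eq_of_specializes hη h1]))).eq

/-- The generic point over a component is unique. -/
theorem eq_of_generic {y y' : Y} (hy : y ∈ genericPoints Y) (hy' : y' ∈ genericPoints Y) (h : g y = g y') :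
    y = y' := by
  obtain ⟨y₀, hy₀, -, hyz⟩ := exists_component hgi sq (image_generic sq hy)
  have h1 := eq_of_specializes hy (hyz y specializes_rfl)
  have h2 := eq_of_specializes hy' (hyz y' (by rw [h]))
  exact h1.symm.trans h2

/-- Above a generic point the local rings are domains. -/
theorem isDomain_stalk {y : Y} (hy : g y ∈ genericPoints X) : IsDomain (Y.presheaf.stalk y) := by
  classical
  let η := g y
  let C := closure ({η} : Set X)
  let ι := VecSt.subschι X C (isClosed_of_mem_irreducibleComponents C hy)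
  have sqT := (IsPullback.of_hasPullback g ι).flip
  haveI hT : IsIntegral (pullback g ι) :=
    (hgi C hy).geometrically_isIntegral _ _ _ (sqT.paste_vert sq)
  haveI := CurveRR.isNoetherian_of_proper k X
  let 𝒮 := {D | D ∈ irreducibleComponents (X : Type u) ∧ D ≠ C}
  have hcl : IsClosed (⋃₀ 𝒮) := by
    rw [Set.sUnion_eq_biUnion]
    exact (NoetherianSpace.finite_irreducibleComponents.subset fun D hD => hD.1).isClosed_biUnion
      fun D hD => isClosed_of_mem_irreducibleComponents D hD.1
  let U : X.Opens := ⟨(⋃₀ 𝒮)ᶜ, hcl.isOpen_compl⟩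
  have hηU : η ∈ U := by
    rintro ⟨D, ⟨hD, hDC⟩, hηD⟩
    refine hDC (Set.Subset.antisymm ?_ (closure_minimal (Set.singleton_subset_iff.2 hηD)
      (isClosed_of_mem_irreducibleComponents D hD)))
    obtain ⟨θ, hθ⟩ := QuasiSober.sober hD.1 (isClosed_of_mem_irreducibleComponents D hD)
    have : θ = η := eq_of_specializes hy (hθ.specializes hηD)
    rw [← hθ.def, this]
  have hUC : (U : Set X) ⊆ C := fun x hx => by
    obtain ⟨θ, hθ, hθx⟩ := exists_generic x
    by_contra hxC
    exact hx ⟨closure {θ}, ⟨hθ, fun e => hxC (e ▸ specializes_iff_mem_closure.1 hθx)⟩,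
      specializes_iff_mem_closure.1 hθx⟩
  haveI : Surjective (ι ∣_ U) := ⟨fun x => by
    obtain ⟨c, hc⟩ : x.1 ∈ Set.range ι := by rw [range_subschι]; exact hUC x.2
    refine ⟨⟨c, show ι c ∈ U from hc ▸ x.2⟩, U.ι.isOpenEmbedding.injective ?_⟩
    rw [← Scheme.Hom.comp_apply, morphismRestrict_ι]
    exact hc⟩
  haveI := isIso_of_isClosedImmersion_of_surjective (ι ∣_ U)
  let h : U.toScheme ⟶ VecSt.subsch X C (isClosed_of_mem_irreducibleComponents C hy) :=
    inv (ι ∣_ U) ≫ (ι ⁻¹ᵁ U).ι
  have hh : h ≫ ι = U.ι := by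
    rw [Category.assoc, ← morphismRestrict_ι, IsIso.inv_hom_id_assoc]
  have sqW : IsPullback (g ∣_ U) (g ⁻¹ᵁ U).ι U.ι g := isPullback_morphismRestrict g U
  let L : (g ⁻¹ᵁ U).toScheme ⟶ pullback g ι :=
    pullback.lift (g ⁻¹ᵁ U).ι ((g ∣_ U) ≫ h) (by rw [Category.assoc, hh, morphismRestrict_ι])
  haveI : IsOpenImmersion L := by
    refine MorphismProperty.of_isPullback (P := @IsOpenImmersion)
      (g' := L) (f' := g ∣_ U) (g := h) (f := pullback.snd g ι) ?_ inferInstance
    refine (IsPullback.of_right (h₁₂ := pullback.fst g ι) (v₁₃ := g) (h₂₂ := ι) ?_ (pullback.lift_snd _ _ _)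
      (IsPullback.of_hasPullback g ι)).flip
    exact cast (congrArg₂ (fun a b => IsPullback a (g ∣_ U) g b) (pullback.lift_fst _ _ _).symm hh.symm) sqW.flip
  haveI : Nonempty (g ⁻¹ᵁ U).toScheme := ⟨⟨y, hηU⟩⟩
  haveI : IsIntegral (g ⁻¹ᵁ U).toScheme := isIntegral_of_isOpenImmersion L
  haveI : IsDomain ((g ⁻¹ᵁ U).toScheme.presheaf.stalk ⟨y, hηU⟩) := inferInstance
  exact MulEquiv.isDomain ((g ⁻¹ᵁ U).toScheme.presheaf.stalk ⟨y, hηU⟩)
    ((g ⁻¹ᵁ U).stalkIso ⟨y, hηU⟩).commRingCatIsoToRingEquiv.symm.toMulEquiv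

omit hgi in
/-- The pullback of a free stalk is free. -/
theorem stalk_free {F : X.Modules} {y : Y}
    (e : F.presheaf.stalk (g y) ≃ₗ[X.presheaf.stalk (g y)] X.presheaf.stalk (g y)) :
    Nonempty (((Scheme.Modules.pullback g).obj F).presheaf.stalk y ≃ₗ[Y.presheaf.stalk y] Y.presheaf.stalk y) := by
  letI : Algebra (X.presheaf.stalk (g y)) (Y.presheaf.stalk y) := (g.stalkMap y).hom.toAlgebra
  let R := X.presheaf.stalk (g y)
  let L := Y.presheaf.stalk y
  let N : Type u := F.presheaf.stalk (g y)
  let e1 : ((Scheme.Modules.pullback g).obj F).presheaf.stalk y ≃ₗ[L] TensorProduct R L N :=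
    ((KFlat.pullStalkIso g y).app F).toLinearEquiv
  let e2 : TensorProduct R L N ≃ₗ[L] TensorProduct R L R :=
    TensorProduct.AlgebraTensorModule.congr (LinearEquiv.refl L L) e
  exact ⟨e1.trans (e2.trans (TensorProduct.AlgebraTensorModule.rid R L L))⟩

omit hgi in
theorem stalk_zero {F : X.Modules} {y : Y} (h : Subsingleton (F.presheaf.stalk (g y))) :
    Subsingleton (((Scheme.Modules.pullback g).obj F).presheaf.stalk y) := by
  letI : Algebra (X.presheaf.stalk (g y)) (Y.presheaf.stalk y) := (g.stalkMap y).hom.toAlgebra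
  refine ((KFlat.pullStalkIso g y).app F).toLinearEquiv.toEquiv.subsingleton_congr.2 ⟨fun a b => ?_⟩
  suffices hall : ∀ c : TensorProduct (X.presheaf.stalk (g y)) (Y.presheaf.stalk y) (F.presheaf.stalk (g y)), c = 0
    from (hall a).trans (hall b).symm
  intro c
  induction c using TensorProduct.induction_on with
  | zero => rfl
  | tmul a m => rw [Subsingleton.elim m 0, TensorProduct.tmul_zero]
  | add a b ha hb => rw [ha, hb, add_zero]

/-- Weakly associated points after extension of the field are generic. -/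
theorem weakAss_generic {F : X.Modules} (hq : Coh.IsQCoh F) (hF : TorSh.IsTorsionFree F)
    (hrk : ∀ η ∈ genericPoints X, Subsingleton (F.presheaf.stalk η) ∨
      Nonempty (F.presheaf.stalk η ≃ₗ[X.presheaf.stalk η] X.presheaf.stalk η))
    {y : Y} (hy : Curv2.IsWeakAssPoint ((Scheme.Modules.pullback g).obj F) y) : y ∈ genericPoints Y := by
  haveI := CurveRR.isNoetherian_of_proper k X
  have hx := mem_genericPoints_of_weakAss hq hF (WeakAssBC.isWeakAssPoint_of_baseChange sq F (hq := hq) y hy)
  obtain ⟨m, hm⟩ := hy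
  have hm0 : m ≠ 0 := by
    rintro rfl
    rw [LinearMap.toSpanSingleton_zero, LinearMap.ker_zero, Ideal.radical_top] at hm
    exact (IsLocalRing.maximalIdeal.isMaximal _).ne_top hm.symm
  rcases hrk _ hx with h | ⟨⟨e⟩⟩
  · haveI := stalk_zero sq h
    exact absurd (Subsingleton.elim m 0) hm0
  · haveI := isDomain_stalk hgi sq hx
    obtain ⟨e'⟩ := stalk_free sq e
    refine mem_genericPoints_of_isField (IsLocalRing.isField_iff_maximalIdeal_eq.2 ?_)
    rw [← hm, eq_bot_iff]
    intro a ha
    obtain ⟨n, hn⟩ := ha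
    have h1 : a ^ n * e' m = 0 := by
      rw [← smul_eq_mul, ← e'.map_smul, show a ^ n • m = 0 from hn, map_zero]
    exact (Ideal.mem_bot).2 (eq_zero_of_pow_eq_zero
      ((mul_eq_zero.1 h1).resolve_right fun h => hm0 (e'.map_eq_zero_iff.1 h)))

/-- The extended curve is reduced. -/
theorem ext_reduced : IsReduced Y := by
  haveI := CurveRR.isNoetherian_of_proper k X
  obtain ⟨e⟩ : Nonempty ((Scheme.Modules.pullback g).obj (Coh.structureModule X) ≅ Coh.structureModule Y) :=
    ⟨Groth.Agent.FreeLite.pullUnitIso g⟩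
  have hO : Coh.IsCoh (Coh.structureModule X) := RefStalk.isCoh_structureModule
  have hst : ∀ η ∈ genericPoints X, Nonempty ((Coh.structureModule X).presheaf.stalk η ≃ₗ[X.presheaf.stalk η]
      X.presheaf.stalk η) := fun η _ =>
    (CurveRR.Multi.nonempty_stalk_equiv TMul.isInvertible_structureModule η).map LinearEquiv.symm
  have hOtf : TorSh.IsTorsionFree (Coh.structureModule X) := fun x => by
    haveI := LocFree.free_stalk_of_isFinLocFree (ResDesc.isFinLocFree_structureModule X) x
    infer_instance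
  constructor
  intro V
  refine ⟨fun s hs => ?_⟩
  obtain ⟨n, hn⟩ := hs
  have hP : Coh.IsQCoh ((Scheme.Modules.pullback g).obj (Coh.structureModule X)) := QC.isQCoh_pullback g hO.1
  have hz : e.inv.app V (show Γ(Coh.structureModule Y, V) from s) = 0 := by
    refine WeakAssLib.eq_zero_of_forall hP _ fun y hy hw => ?_
    have hgen := weakAss_generic hgi sq hO.1 hOtf (fun η hη => Or.inr (hst η hη)) hw
    haveI := isDomain_stalk hgi sq (image_generic sq hgen)
    have h0 : (Y.presheaf.germ V y hy).hom s = 0 :=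
      eq_zero_of_pow_eq_zero (n := n) (by rw [← map_pow, hn, map_zero])
    rw [← stalkHom_germ e.inv hy]
    refine (congrArg (stalkHom e.inv y) (?_ : mgerm (Coh.structureModule Y) hy s = 0)).trans (map_zero _)
    have h1 := mgerm_smul (Coh.structureModule Y) hy s (show Γ(Coh.structureModule Y, V) from (1 : Γ(Y, V)))
    rw [h0, zero_smul] at h1
    refine Eq.trans (congrArg (mgerm (Coh.structureModule Y) hy) ?_) h1
    exact (mul_one s).symm
  have h2 := congrArg (e.hom.app V) hz
  rw [map_zero, ← CategoryTheory.comp_apply, ← Scheme.Modules.Hom.comp_app, e.inv_hom_id] at h2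
  exact h2

/-- Pullbacks of torsion-free modules with lengths at most one are torsion-free. -/
theorem isTorsionFree_pullback {F : X.Modules} (hq : Coh.IsQCoh F) (hF : TorSh.IsTorsionFree F)
    (hrk : ∀ η ∈ genericPoints X, Subsingleton (F.presheaf.stalk η) ∨
      Nonempty (F.presheaf.stalk η ≃ₗ[X.presheaf.stalk η] X.presheaf.stalk η)) :
    TorSh.IsTorsionFree ((Scheme.Modules.pullback g).obj F) := by
  haveI := ext_noetherian sq
  haveI := ext_reduced hgi sq
  exact isTorsionFree_of_sep fun V s hs => WeakAssLib.eq_zero_of_forall (QC.isQCoh_pullback g hq) s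
    fun y hy hw => hs y (weakAss_generic hgi sq hq hF hrk hw) hy

/-- Torsion-free rank one survives extension of the field. -/
theorem isTF1_pullback {F : X.Modules} (hF : TFOne.IsTF1 X F) : TFOne.IsTF1 Y ((Scheme.Modules.pullback g).obj F) := by
  haveI := ext_noetherian sq
  refine ⟨QC.isCoh_pullback g hF.1, isTorsionFree_pullback hgi sq hF.1.1 hF.2.1 fun η hη => Or.inr (hF.2.2 η hη),
    fun y hy => ?_⟩
  obtain ⟨e⟩ := hF.2.2 _ (image_generic sq hy)
  exact stalk_free sq e

/-- Quotients on subcurves survive extension of the field. -/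
theorem isQuotOn_pullback {F G : X.Modules} {Z : Set X} {π : F ⟶ G} (hF : TFOne.IsRkOne X F)
    (hG : TFOne.IsQuotOn X F Z G π) :
    TFOne.IsQuotOn Y ((Scheme.Modules.pullback g).obj F) (g ⁻¹' Z) ((Scheme.Modules.pullback g).obj G)
      ((Scheme.Modules.pullback g).map π) := by
  haveI := ext_noetherian sq
  haveI := CurveRR.isNoetherian_of_proper k X
  haveI := hG.1
  haveI := (Scheme.Modules.pullbackPushforwardAdjunction g).leftAdjoint_preservesColimits
  haveI : Coh.IsQCoh G := hG.2.1.1
  refine ⟨inferInstance, QC.isCoh_pullback g hG.2.1, isTorsionFree_pullback hgi sq hG.2.1.1 hG.2.2.1 fun η hη => ?_,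
    by rw [SupportLib.support_pullback g G hG.2.1.2, hG.2.2.2]⟩
  by_cases hηZ : η ∈ Z
  · obtain ⟨e⟩ := hF η hη
    let f : F.presheaf.stalk η →ₗ[X.presheaf.stalk η] G.presheaf.stalk η :=
      { toFun := stalkHom π η
        map_add' := map_add _
        map_smul' := stalkHom_smul _ η }
    exact Or.inr ⟨(LinearEquiv.ofBijective f ⟨stalkHom_injective_of_quot hF hG hη hηZ,
      stalkHom_surjective π η⟩).symm.trans e⟩
  · exact Or.inl (subsingleton_of_notMem (by rw [hG.2.2.2]; exact hηZ))

/-- The extended curve has pure dimension one. -/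
theorem ext_pure (hpure : ∀ C ∈ irreducibleComponents (X : Type u), topologicalKrullDim C = 1) :
    ∀ C ∈ irreducibleComponents (Y : Type u), topologicalKrullDim C = 1 := by
  intro C hC
  obtain ⟨y, hy⟩ := QuasiSober.sober hC.1 (isClosed_of_mem_irreducibleComponents C hC)
  haveI := ext_proper sq
  have hyg : y ∈ genericPoints Y := by change closure {y} ∈ irreducibleComponents Y; rw [hy.def]; exact hC
  haveI := ext_proper sq
  rw [← hy.def, LocalDimBC.topologicalKrullDim_closure_eq qY y fun z hz => eq_of_specializes hyg hz,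
    LocalDimBC.localDim_of_isPullback _ _ g qY sq y,
    ← LocalDimBC.topologicalKrullDim_closure_eq (X ↘ Spec (CommRingCat.of k)) (g y)
      fun z hz => eq_of_specializes (image_generic sq hyg) hz]
  exact hpure _ (image_generic sq hyg)

/-- Subcurves of the extension are preimages of subcurves. -/
theorem exists_subcurve {Z' : Set Y} (hZ' : VecSt.IsSubcurve Y Z') :
    ∃ Z : Set X, IsClosed Z ∧ VecSt.IsSubcurve X Z ∧ Z' = g ⁻¹' Z := by
  haveI := ext_noetherian sq
  haveI := CurveRR.isNoetherian_of_proper k X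
  obtain ⟨𝒮, h𝒮, ⟨C₀, hC₀⟩, rfl⟩ := hZ'
  have hgen : ∀ C ∈ 𝒮, ∃ y ∈ genericPoints Y, C = closure {y} := fun C hC => by
    obtain ⟨y, hy⟩ := QuasiSober.sober (h𝒮 hC).1 (isClosed_of_mem_irreducibleComponents C (h𝒮 hC))
    exact ⟨y, by change closure {y} ∈ irreducibleComponents Y; rw [hy.def]; exact h𝒮 hC, hy.def.symm⟩
  let 𝒯 : Set (Set X) := {D | ∃ y ∈ genericPoints Y, closure {y} ∈ 𝒮 ∧ D = closure {g y}}
  have h𝒯 : 𝒯 ⊆ irreducibleComponents (X : Type u) := by
    rintro D ⟨y, hy, -, rfl⟩
    exact image_generic sq hy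
  refine ⟨⋃₀ 𝒯, ?_, ⟨𝒯, h𝒯, ?_, rfl⟩, Set.ext fun z => ⟨?_, ?_⟩⟩
  · rw [Set.sUnion_eq_biUnion]
    exact (NoetherianSpace.finite_irreducibleComponents.subset h𝒯).isClosed_biUnion
      fun D hD => isClosed_of_mem_irreducibleComponents D (h𝒯 hD)
  · obtain ⟨y, hy, rfl⟩ := hgen C₀ hC₀
    exact ⟨_, y, hy, hC₀, rfl⟩
  · rintro ⟨C, hC, hz⟩
    obtain ⟨y, hy, rfl⟩ := hgen C hC
    exact ⟨_, ⟨y, hy, hC, rfl⟩, specializes_iff_mem_closure.1 ((specializes_iff_mem_closure.2 hz).map g.continuous)⟩
  · rintro ⟨D, ⟨y, hy, hC, rfl⟩, hz⟩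
    obtain ⟨y₀, hy₀, hgy₀, hyz⟩ := exists_component hgi sq (image_generic sq hy)
    obtain rfl := eq_of_generic hgi sq hy₀ hy hgy₀
    exact ⟨_, hC, specializes_iff_mem_closure.1 (hyz z (specializes_iff_mem_closure.2 hz))⟩

/-- The components of the extension are geometrically integral. -/
theorem ext_gi : ∀ (C : Set Y) (hC : C ∈ irreducibleComponents (Y : Type u)), GeometricallyIntegral
    (VecSt.subschι Y C (isClosed_of_mem_irreducibleComponents C hC) ≫ qY) := by
  intro C' hC'
  obtain ⟨y, hy⟩ := QuasiSober.sober hC'.1 (isClosed_of_mem_irreducibleComponents C' hC')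
  have hyg : y ∈ genericPoints Y := by change closure {y} ∈ irreducibleComponents Y; rw [hy.def]; exact hC'
  have hη := image_generic sq hyg
  let C := closure ({g y} : Set X)
  let ι := VecSt.subschι X C (isClosed_of_mem_irreducibleComponents C hη)
  have sqT := (IsPullback.of_hasPullback g ι).flip
  haveI hT : IsIntegral (pullback g ι) :=
    (hgi C hη).geometrically_isIntegral _ _ _ (sqT.paste_vert sq)
  let J : pullback g ι ⟶ Y := pullback.fst g ι
  haveI : GeometricallyIntegral (J ≫ qY) :=
    MorphismProperty.of_isPullback (P := @GeometricallyIntegral) (sqT.paste_vert sq) (hgi C hη)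
  have hrange : Set.range J = C' := by
    rw [Scheme.Pullback.range_fst, range_subschι, ← hy.def]
    obtain ⟨y₀, hy₀, hgy₀, hyz⟩ := exists_component hgi sq hη
    obtain rfl := eq_of_generic hgi sq hy₀ hyg hgy₀
    ext z
    refine ⟨fun hz => specializes_iff_mem_closure.1 (hyz z (specializes_iff_mem_closure.2 hz)), fun hz => ?_⟩
    exact specializes_iff_mem_closure.1 ((specializes_iff_mem_closure.2 hz).map g.continuous)
  let ι' := VecSt.subschι Y C' (isClosed_of_mem_irreducibleComponents C' hC')
  haveI : IsReduced (VecSt.subsch Y C' (isClosed_of_mem_irreducibleComponents C' hC')) :=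
    DvrDom.isReduced_vanishingIdeal_subscheme _
  obtain ⟨e, he⟩ := WittSub.exists_iso_of_range_eq J ι' (by rw [hrange, range_subschι])
  have h : ι' ≫ qY = e.inv ≫ J ≫ qY := by rw [← he, Category.assoc, e.inv_hom_id_assoc]
  change GeometricallyIntegral (ι' ≫ qY)
  rw [h, MorphismProperty.cancel_left_of_respectsIso @GeometricallyIntegral]
  infer_instance

end Ext

end Groth.Agent.TFOneLib
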