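import Groth.Agent.TFOneLib.Cases
import Groth.Agent.TFOneLib.FlatCrit
import Groth.Agent.TFOneLib.Tower
import Groth.Agent.FibDepth.Global
import Groth.Agent.ModDesc.Iso

/-!
Extensions of a module on the generic fibre to relatively torsion-free rank one modules over a DVR.
-/

set_option autoImplicit false
set_option linter.style.haveILetI false
set_option linter.unusedSectionVars false
set_option backward.isDefEq.respectTransparency false
set_option backward.isDefEq.respectTransparency.types false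

universe u

open CategoryTheory CategoryTheory.Limits AlgebraicGeometry TopologicalSpace Opposite

noncomputable section

namespace Groth.Agent.TFOneLib

variable {R : Type u} [CommRing R] [IsDomain R] [IsDiscreteValuationRing R] {X : Scheme.{u}}
  {f : X ⟶ Spec (CommRingCat.of R)} [IsProper f] {Xs : Scheme.{u}}
  [Xs.Over (Spec (CommRingCat.of (IsLocalRing.ResidueField R)))] {i : Xs ⟶ X}
  (hsq : IsPullback i (Xs ↘ Spec (CommRingCat.of (IsLocalRing.ResidueField R))) f
    (Spec.map (CommRingCat.ofHom (IsLocalRing.residue R))))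
  [IsReduced Xs]
  (hpure : ∀ C ∈ irreducibleComponents (Xs : Type u), topologicalKrullDim C = 1)
  (hgi : ∀ (C : Set Xs) (hC : C ∈ irreducibleComponents (Xs : Type u)), GeometricallyIntegral
    (VecSt.subschι Xs C (isClosed_of_mem_irreducibleComponents C hC) ≫
      (Xs ↘ Spec (CommRingCat.of (IsLocalRing.ResidueField R)))))
  {Xg : Scheme.{u}} [Xg.Over (Spec (CommRingCat.of (FractionRing R)))] {j : Xg ⟶ X}
  (hgen : IsPullback j (Xg ↘ Spec (CommRingCat.of (FractionRing R))) f
    (Spec.map (CommRingCat.ofHom (algebraMap R (FractionRing R)))))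

/-- An extension of the generic fibre of `I₀`. -/
structure IsGood (f : X ⟶ Spec (CommRingCat.of R)) (i : Xs ⟶ X) (j : Xg ⟶ X) (I₀ I : X.Modules) : Prop where
  coh : Coh.IsCoh I
  flat : FlatMod.IsFlatOver f I
  tf : TFOne.IsTF1 Xs ((Scheme.Modules.pullback i).obj I)
  gen : Nonempty ((Scheme.Modules.pullback j).obj I ≅ (Scheme.Modules.pullback j).obj I₀)

include hsq

theorem isClosedImmersion_fibre : IsClosedImmersion i :=
  MorphismProperty.of_isPullback (P := @IsClosedImmersion) hsq.flip
    (IsClosedImmersion.spec_of_surjective _ (by exact Ideal.Quotient.mk_surjective))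

theorem proper_fibre : IsProper (Xs ↘ Spec (CommRingCat.of (IsLocalRing.ResidueField R))) :=
  MorphismProperty.of_isPullback (P := @IsProper) hsq inferInstance

include hgi in
/-- The given extension is good. -/
theorem good_base {I₀ : X.Modules} (hI : TFOne.IsRelTF1 f I₀) : IsGood f i j I₀ I₀ := by
  haveI := proper_fibre hsq
  haveI : IsLocallyNoetherian X := LocallyOfFiniteType.isLocallyNoetherian f
  have hq : Coh.IsQCoh I₀ := FibDepth.isQCoh_of_isFP hI.2.1
  have hc : Coh.IsCoh I₀ := ⟨hq, ModDesc.isFT_of_isFP hI.2.1⟩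
  refine ⟨hc, hI.1, ?_, ⟨Iso.refl _⟩⟩
  let Ω := AlgebraicClosure (IsLocalRing.ResidueField R)
  let qs := Xs ↘ Spec (CommRingCat.of (IsLocalRing.ResidueField R))
  let c := Spec.map (CommRingCat.ofHom (algebraMap (IsLocalRing.ResidueField R) Ω))
  have sq : IsPullback (pullback.fst qs c) (pullback.snd qs c) qs c := IsPullback.of_hasPullback qs c
  have h := hI.2.2 Ω _ _ _ _ (sq.paste_horiz hsq)
  have h' := isTF1_of_iso ((Scheme.Modules.pullbackComp (pullback.fst qs c) i).app I₀).symm h
  exact isTF1_descend hgi sq (QC.isCoh_pullback i hc) h'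

include hgen in
/-- A modification of a good extension is good. -/
theorem good_step {I₀ I : X.Modules} (h : IsGood f i j I₀ I) {Y : Set Xs} {G : Xs.Modules}
    {p : (Scheme.Modules.pullback i).obj I ⟶ G}
    (hG : TFOne.IsQuotOn Xs ((Scheme.Modules.pullback i).obj I) Y G p) :
    IsGood f i j I₀ (kernel (modQ i p)) := by
  haveI := proper_fibre hsq
  haveI := CurveRR.isNoetherian_of_proper (IsLocalRing.ResidueField R) Xs
  haveI := isClosedImmersion_fibre hsq
  haveI : IsLocallyNoetherian X := LocallyOfFiniteType.isLocallyNoetherian f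
  obtain ⟨t, ht⟩ := IsDiscreteValuationRing.exists_irreducible R
  letI : X.Over (Spec (CommRingCat.of R)) := ⟨f⟩
  haveI := mono_smulMod_of_flat f I h.flat ht.ne_zero
  obtain ⟨hc, hm, htf⟩ := step_isTF1 (t := t) i (ker_fibre f i _ hsq ht.maximalIdeal_eq) p h.coh h.tf hG rfl
  obtain ⟨e0⟩ := h.gen
  obtain ⟨e1⟩ := nonempty_iso_generic hsq hgen (modQ i p)
  exact ⟨hc, isFlatOver_of_mono_smulMod f hc.1 ht hm, htf, ⟨e1 ≪≫ e0⟩⟩

/-- The special fibre keeps its Euler characteristic. -/
theorem euler_step {I : X.Modules} (hIc : Coh.IsCoh I) (hIf : FlatMod.IsFlatOver f I)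
    (hI : TFOne.IsTF1 Xs ((Scheme.Modules.pullback i).obj I)) {Y : Set Xs} {G : Xs.Modules}
    {p : (Scheme.Modules.pullback i).obj I ⟶ G}
    (hG : TFOne.IsQuotOn Xs ((Scheme.Modules.pullback i).obj I) Y G p) :
    Curv2.euler (IsLocalRing.ResidueField R) Xs ((Scheme.Modules.pullback i).obj (kernel (modQ i p))) =
      Curv2.euler (IsLocalRing.ResidueField R) Xs ((Scheme.Modules.pullback i).obj I) := by
  haveI := proper_fibre hsq
  haveI := CurveRR.isNoetherian_of_proper (IsLocalRing.ResidueField R) Xs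
  haveI := hG.1
  obtain ⟨α, β, w, hS⟩ := exists_fibre_modification R X f Xs i hsq I hIf G p _ rfl
  have hN := mod_isTF1 hI hG hS
  have hK : Coh.IsCoh (kernel p) := QC.isCoh_kernel hI.1 hG.2.1.1 p
  have e1 := CurveRR.euler_add (k := IsLocalRing.ResidueField R) hS hG.2.1 hN.1 hK
  have e2 := CurveRR.euler_add (k := IsLocalRing.ResidueField R) (CurveRR.shortExact_ker p) hK hI.1 hG.2.1
  change Curv2.euler (IsLocalRing.ResidueField R) Xs ((Scheme.Modules.pullback i).obj (kernel (modQ i p))) =
    Curv2.euler (IsLocalRing.ResidueField R) Xs G + Curv2.euler (IsLocalRing.ResidueField R) Xs (kernel p) at e1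
  change Curv2.euler (IsLocalRing.ResidueField R) Xs ((Scheme.Modules.pullback i).obj I) =
    Curv2.euler (IsLocalRing.ResidueField R) Xs (kernel p) + Curv2.euler (IsLocalRing.ResidueField R) Xs G at e2
  rw [e1, e2, add_comm]

variable {I₀ I E : X.Modules} {r : ℕ} (h : IsGood f i j I₀ I)

include h hgen hgi

theorem isRelTF1_of_good (hI : TFOne.IsRelTF1 f I₀) : TFOne.IsRelTF1 f I := by
  haveI : IsLocallyNoetherian X := LocallyOfFiniteType.isLocallyNoetherian f
  haveI := proper_fibre hsq
  refine ⟨h.flat, QC.isFP_of_isQCoh_of_isFT (hM := h.coh.1) h.coh.2, fun Ω _ _ t Y i' qY sq => ?_⟩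
  rcases fibre_cases hsq hgen t sq with ⟨χ, g, rfl, sqg, -⟩ | ⟨χ, g, rfl, sqg, -⟩
  · obtain ⟨e⟩ := h.gen
    exact isTF1_of_iso ((Scheme.Modules.pullbackComp g j).symm.app I₀ ≪≫
      (Scheme.Modules.pullback g).mapIso e.symm ≪≫ (Scheme.Modules.pullbackComp g j).app I)
      (hI.2.2 Ω t Y _ qY sq)
  · letI := χ.toAlgebra
    exact isTF1_of_iso ((Scheme.Modules.pullbackComp g i).app I) (isTF1_pullback hgi sqg h.tf)

theorem fibSimple_of_good (hg : TFOne.FibSimple (Xg ↘ Spec (CommRingCat.of (FractionRing R)))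
      ((Scheme.Modules.pullback j).obj I₀))
    (hs : TFOne.IsSimple Xs (IsLocalRing.ResidueField R)
      (Xs ↘ Spec (CommRingCat.of (IsLocalRing.ResidueField R))) ((Scheme.Modules.pullback i).obj I)) :
    TFOne.FibSimple f I := by
  haveI := proper_fibre hsq
  intro Ω _ _ t Y i' qY sq
  rcases fibre_cases hsq hgen t sq with ⟨χ, g, rfl, sqg, -⟩ | ⟨χ, g, rfl, sqg, -⟩
  · obtain ⟨e⟩ := h.gen
    exact isSimple_of_iso qY ((Scheme.Modules.pullback g).mapIso e.symm ≪≫ (Scheme.Modules.pullbackComp g j).app I)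
      (hg Ω _ Y g qY sqg)
  · letI := χ.toAlgebra
    exact isSimple_of_iso qY ((Scheme.Modules.pullbackComp g i).app I) (ext_simple hgi sqg h.tf hs)

include hpure

theorem fibSemistable_of_good (hE : FlatMod.IsFinLocFreeOfRank r E)
    (hg : TFOne.FibSemistable (Xg ↘ Spec (CommRingCat.of (FractionRing R)))
      ((Scheme.Modules.pullback j).obj I₀) ((Scheme.Modules.pullback j).obj E) r)
    (hs : TFOne.IsSemistable Xs (IsLocalRing.ResidueField R)
      (Xs ↘ Spec (CommRingCat.of (IsLocalRing.ResidueField R))) ((Scheme.Modules.pullback i).obj I)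
      ((Scheme.Modules.pullback i).obj E) r) :
    TFOne.FibSemistable f I E r := by
  haveI := proper_fibre hsq
  intro Ω _ _ t Y i' qY sq
  rcases fibre_cases hsq hgen t sq with ⟨χ, g, rfl, sqg, -⟩ | ⟨χ, g, rfl, sqg, -⟩
  · obtain ⟨e⟩ := h.gen
    exact isSemistable_of_iso qY ((Scheme.Modules.pullback g).mapIso e.symm ≪≫
      (Scheme.Modules.pullbackComp g j).app I) ((Scheme.Modules.pullbackComp g j).app E) (hg Ω _ Y g qY sqg)
  · letI := χ.toAlgebra
    exact isSemistable_of_iso qY ((Scheme.Modules.pullbackComp g i).app I) ((Scheme.Modules.pullbackComp g i).app E)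
      (ext_semistable hgi sqg hpure (CurveRR.Multi.isFinLocFreeOfRank_pullback i hE) h.tf hs)

theorem fibQuasistable_of_good (hE : FlatMod.IsFinLocFreeOfRank r E)
    (σ : Spec (CommRingCat.of R) ⟶ X) (hσ : σ ≫ f = 𝟙 _)
    (σg : Spec (CommRingCat.of (FractionRing R)) ⟶ Xg)
    (hσg : σg ≫ (Xg ↘ Spec (CommRingCat.of (FractionRing R))) = 𝟙 _)
    (hσgj : σg ≫ j = Spec.map (CommRingCat.ofHom (algebraMap R (FractionRing R))) ≫ σ)
    (hg : TFOne.FibQuasistableAlong (Xg ↘ Spec (CommRingCat.of (FractionRing R)))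
      ((Scheme.Modules.pullback j).obj I₀) ((Scheme.Modules.pullback j).obj E) σg hσg r)
    (hs : ∀ x : Xs, i x = σ (IsLocalRing.closedPoint R) → TFOne.IsQuasistableAtPt Xs (IsLocalRing.ResidueField R)
      (Xs ↘ Spec (CommRingCat.of (IsLocalRing.ResidueField R))) ((Scheme.Modules.pullback i).obj I)
      ((Scheme.Modules.pullback i).obj E) r x) :
    TFOne.FibQuasistableAlong f I E σ hσ r := by
  haveI := proper_fibre hsq
  intro Ω _ _ t Y i' qY sq y hy hyq
  rcases fibre_cases hsq hgen t sq with ⟨χ, g, rfl, sqg, ht⟩ | ⟨χ, g, rfl, sqg, ht⟩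
  · obtain ⟨e⟩ := h.gen
    have hyg : y ≫ g = Spec.map (CommRingCat.ofHom χ) ≫ σg := by
      apply hgen.hom_ext
      · rw [Category.assoc, hy, ht, Category.assoc, Category.assoc, hσgj]
      · rw [Category.assoc, Category.assoc, hσg, sqg.w, ← Category.assoc, hyq, Category.id_comp, Category.comp_id]
    exact isQuasistableAtPt_of_iso qY ((Scheme.Modules.pullback g).mapIso e.symm ≪≫
      (Scheme.Modules.pullbackComp g j).app I) ((Scheme.Modules.pullbackComp g j).app E)
      (hg Ω _ Y g qY sqg y hyg hyq)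
  · letI := χ.toAlgebra
    refine isQuasistableAtPt_of_iso qY ((Scheme.Modules.pullbackComp g i).app I)
      ((Scheme.Modules.pullbackComp g i).app E)
      (ext_quasistableAtPt hgi sqg hpure (CurveRR.Multi.isFinLocFreeOfRank_pullback i hE) h.tf (hs _ ?_))
    have h1 := congrArg (fun φ => φ (IsLocalRing.closedPoint Ω)) hy
    simp only [Scheme.Hom.comp_apply] at h1
    rw [h1]
    refine congrArg σ ?_
    rw [ht, Scheme.Hom.comp_apply]
    generalize (Spec.map (CommRingCat.ofHom χ)) (IsLocalRing.closedPoint Ω) = z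
    refine PrimeSpectrum.ext ?_
    change Ideal.comap (IsLocalRing.residue R) (PrimeSpectrum.asIdeal z) = IsLocalRing.maximalIdeal R
    rw [Ideal.eq_bot_of_prime (PrimeSpectrum.asIdeal z), ← RingHom.ker_eq_comap_bot, IsLocalRing.ker_residue]

end Groth.Agent.TFOneLib
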