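import Groth.Agent.TFOneLib.Fibre

/-!
The elementary modification: `0 → G → i^* I^G → K → 0`.
-/

set_option autoImplicit false
set_option linter.style.haveILetI false
set_option linter.unusedSectionVars false
set_option backward.isDefEq.respectTransparency false
set_option backward.isDefEq.respectTransparency.types false

universe u

open CategoryTheory CategoryTheory.Limits AlgebraicGeometry TopologicalSpace Opposite

noncomputable section

namespace Groth.Agent.TFOneLib

variable {A : Type u} [CommRing A] {X : Scheme.{u}} [X.Over (Spec (CommRingCat.of A))] {t : A}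
  {Z : Scheme.{u}} (i : Z ⟶ X) [IsClosedImmersion i]

/-- The composite `I ⟶ i_* i^* I ⟶ i_* G`. -/
abbrev modQ {I : X.Modules} {G : Z.Modules} (p : (Scheme.Modules.pullback i).obj I ⟶ G) :
    I ⟶ (Scheme.Modules.pushforward i).obj G :=
  (Scheme.Modules.pullbackPushforwardAdjunction i).unit.app I ≫ (Scheme.Modules.pushforward i).map p

variable (hi : ∀ V : X.affineOpens, i.ker.ideal V = Ideal.span {W7Cech.secRing A V.1 t})

include hi in
/-- The fundamental sequence of an elementary modification, with its first map given by multiplication. -/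
theorem exists_modification_mul {I : X.Modules} [Mono (Formal.smulMod A I t)] {G : Z.Modules}
    (p : (Scheme.Modules.pullback i).obj I ⟶ G) [Epi p] :
    ∃ (α : G ⟶ (Scheme.Modules.pullback i).obj (kernel (modQ i p)))
      (β : (Scheme.Modules.pullback i).obj (kernel (modQ i p)) ⟶ kernel p) (w : α ≫ β = 0),
      (ShortComplex.mk α β w).ShortExact ∧
        ∀ m : I ⟶ kernel (modQ i p), m ≫ kernel.ι (modQ i p) = Formal.smulMod A I t →
          p ≫ α = (Scheme.Modules.pullback i).map m := by
  let adj := Scheme.Modules.pullbackPushforwardAdjunction i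
  let L := Scheme.Modules.pullback i
  let P := Scheme.Modules.pushforward i
  haveI := GrothSS.preservesFiniteColimits_push i
  haveI := GrothSS.preservesFiniteLimits_push i
  haveI := GrothSS.isIso_counit_push i
  haveI hPf : (Scheme.Modules.pushforward i).Faithful := adj.fullyFaithfulROfIsIsoCounit.faithful
  have hη : ∀ M : X.Modules, Epi (adj.unit.app M) := epi_unit i hi
  haveI : Epi (adj.unit.app I) := hη I
  haveI : Epi (modQ i p) := epi_comp _ _
  let q := modQ i p
  let j : kernel q ⟶ I := kernel.ι q
  have hσq : Formal.smulMod A I t ≫ q = 0 := by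
    rw [← Category.assoc, smulMod_unit i hi I, zero_comp]
  let m : I ⟶ kernel q := kernel.lift q (Formal.smulMod A I t) hσq
  have hmj : m ≫ j = Formal.smulMod A I t := kernel.lift_ι _ _ _
  have hjm : j ≫ m = Formal.smulMod A (kernel q) t := by
    rw [← cancel_mono j, Category.assoc, hmj, W7Cech.smulMod_natural]
  have hnat : ∀ {M N : X.Modules} (g : M ⟶ N), adj.unit.app M ≫ P.map (L.map g) = g ≫ adj.unit.app N :=
    fun g => (adj.unit.naturality g).symm
  have hjp : L.map j ≫ p = 0 := by
    apply (adj.homEquiv _ _).injective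
    rw [Adjunction.homEquiv_unit, Adjunction.homEquiv_unit, Functor.map_zero, comp_zero, Functor.map_comp,
      ← Category.assoc, hnat, Category.assoc]
    exact kernel.condition q
  let β : L.obj (kernel q) ⟶ kernel p := kernel.lift p (L.map j) hjp
  have hβι : β ≫ kernel.ι p = L.map j := kernel.lift_ι _ _ _
  haveI : Epi β := by
    apply P.epi_of_epi_map
    rw [epi_iff_surjective_up_to_refinements]
    intro T y
    obtain ⟨T', e, he, x, hx⟩ := surjective_up_to_refinements_of_epi (adj.unit.app I) (y ≫ P.map (kernel.ι p))
    have hxq : x ≫ q = 0 := by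
      change x ≫ adj.unit.app I ≫ P.map p = 0
      rw [← Category.assoc, ← hx, Category.assoc, Category.assoc, ← P.map_comp, kernel.condition, P.map_zero,
        comp_zero, comp_zero]
    refine ⟨T', e, he, kernel.lift q x hxq ≫ adj.unit.app (kernel q), ?_⟩
    rw [← cancel_mono (P.map (kernel.ι p)), Category.assoc, hx, Category.assoc, Category.assoc, ← P.map_comp, hβι,
      hnat, ← Category.assoc (kernel.lift q x hxq), kernel.lift_ι]
  have hm0 : kernel.ι p ≫ L.map m = 0 := by
    rw [← cancel_epi β, ← Category.assoc, hβι, ← L.map_comp, hjm, pullback_smulMod i hi, comp_zero]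
  let α : G ⟶ L.obj (kernel q) := Abelian.epiDesc p (L.map m) hm0
  have hpα : p ≫ α = L.map m := Abelian.comp_epiDesc _ _ _
  have hqα : q ≫ P.map α = m ≫ adj.unit.app (kernel q) := by
    change (adj.unit.app I ≫ P.map p) ≫ P.map α = _
    rw [Category.assoc, ← P.map_comp, hpα, hnat]
  have w : α ≫ β = 0 := by
    rw [← cancel_epi p, ← Category.assoc, hpα, ← cancel_mono (kernel.ι p), Category.assoc, hβι, ← L.map_comp, hmj,
      pullback_smulMod i hi, comp_zero, zero_comp]
  haveI : Mono α := by
    apply P.mono_of_mono_map
    refine Preadditive.mono_of_cancel_zero _ fun {T} y hy => ?_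
    obtain ⟨T', e, he, x, hx⟩ := surjective_up_to_refinements_of_epi q y
    have h0 : (x ≫ m) ≫ adj.unit.app (kernel q) = 0 := by
      rw [Category.assoc, ← hqα, ← Category.assoc, ← hx, Category.assoc, hy, comp_zero]
    obtain ⟨T'', e', he', z, hz⟩ := (exact_unit i hi (kernel q)).exact_up_to_refinements (x ≫ m) h0
    change e' ≫ x ≫ m = z ≫ Formal.smulMod A (kernel q) t at hz
    have h1 : (e' ≫ x) ≫ Formal.smulMod A I t = (z ≫ j) ≫ Formal.smulMod A I t := by
      have h2 := congrArg (· ≫ j) hz
      simp only [Category.assoc, hmj] at h2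
      rw [Category.assoc, h2, Category.assoc, W7Cech.smulMod_natural]
    have h3 : e' ≫ x = z ≫ j := (cancel_mono _).1 h1
    rw [← cancel_epi e, ← cancel_epi e', hx, ← Category.assoc, h3, Category.assoc, kernel.condition, comp_zero,
      comp_zero, comp_zero]
  have hex : (ShortComplex.mk α β w).Exact := by
    rw [← ShortComplex.exact_map_iff_of_faithful (ShortComplex.mk α β w) P,
      ShortComplex.exact_iff_exact_up_to_refinements]
    intro T y hy
    change y ≫ P.map β = 0 at hy
    obtain ⟨T', e, he, z, hz⟩ := surjective_up_to_refinements_of_epi (adj.unit.app (kernel q)) y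
    have h0 : (z ≫ j) ≫ adj.unit.app I = 0 := by
      rw [Category.assoc, ← hnat, ← hβι, P.map_comp]
      have h1 : (z ≫ adj.unit.app (kernel q)) ≫ P.map β = 0 := by
        refine (congrArg (· ≫ P.map β) hz.symm).trans ?_
        simp [hy]
      have h2 := congrArg (· ≫ P.map (kernel.ι p)) h1
      simp only [Category.assoc, zero_comp] at h2
      exact h2
    obtain ⟨T'', e', he', x, hx⟩ := (exact_unit i hi I).exact_up_to_refinements (z ≫ j) h0
    change e' ≫ z ≫ j = x ≫ Formal.smulMod A I t at hx
    have h3 : e' ≫ z = x ≫ m := by rw [← cancel_mono j, Category.assoc, hx, Category.assoc, hmj]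
    refine ⟨T'', e' ≫ e, epi_comp _ _, x ≫ q, ?_⟩
    change (e' ≫ e) ≫ y = (x ≫ q) ≫ P.map α
    rw [Category.assoc, hz, ← Category.assoc, h3, Category.assoc, Category.assoc, hqα]
  refine ⟨α, β, w, { exact := hex }, fun m' hm' => hpα.trans (congrArg L.map ?_)⟩
  rw [← cancel_mono j, hmj]
  exact hm'.symm

include hi in
/-- The fundamental sequence of an elementary modification. -/
theorem exists_modification {I : X.Modules} [Mono (Formal.smulMod A I t)] {G : Z.Modules}
    (p : (Scheme.Modules.pullback i).obj I ⟶ G) [Epi p] :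
    ∃ (α : G ⟶ (Scheme.Modules.pullback i).obj (kernel (modQ i p)))
      (β : (Scheme.Modules.pullback i).obj (kernel (modQ i p)) ⟶ kernel p) (w : α ≫ β = 0),
      (ShortComplex.mk α β w).ShortExact := by
  obtain ⟨α, β, w, h, -⟩ := exists_modification_mul i hi p
  exact ⟨α, β, w, h⟩

end Groth.Agent.TFOneLib
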