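import Groth.Agent.TFOneLib.Simp
import Groth.Agent.S18853
import Groth.Agent.S0558
import Groth.Agent.S18855
import Groth.Agent.SmLocalST.SmoothField
import Groth.Agent.FlatFunLib.ModCond
import Groth.Agent.CurveRR.Tensor
import Groth.Agent.FSchExist.Algebraize

/-!
The modification algorithm making a semistable extension quasi-stable along a section through the smooth locus.
-/

set_option autoImplicit false
set_option linter.style.haveILetI false
set_option linter.unusedSectionVars false
set_option backward.isDefEq.respectTransparency false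
set_option backward.isDefEq.respectTransparency.types false

universe u

open CategoryTheory CategoryTheory.Limits AlgebraicGeometry TopologicalSpace
open Groth.Agent.WeakAssLib (stalkHom stalkHom_injective)

noncomputable section

namespace Groth.Agent.TFOneLib

/-- A point with integral local ring lies on a single component. -/
theorem exact_stalk {X : Scheme.{u}} (S : ShortComplex X.Modules) (hS : S.Exact) (x : X)
    (m : S.X₂.presheaf.stalk x) (hm : stalkHom S.g x m = 0) : ∃ m₁, stalkHom S.f x m₁ = m := by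
  let S' : ShortComplex (SheafOfModules.{u} X.ringCatSheaf) := S
  have hS' : S'.Exact := hS
  have h1 : (S'.map (SheafOfModules.toSheaf.{u} X.ringCatSheaf)).Exact := hS'.map _
  have h2 := (TopCat.Sheaf.exact_iff_stalkFunctor_map_exact (X := X.carrier) _).1 h1 x
  rw [ShortComplex.ab_exact_iff] at h2
  exact h2 m hm

theorem stalk_eq_zero' {X : Scheme.{u}} {G : X.Modules} {x : X} (h : x ∉ CohB1.support G)
    (v : G.presheaf.stalk x) : v = 0 := by
  haveI := subsingleton_of_notMem h
  exact Subsingleton.elim _ _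

theorem notMem_of_forall' {X : Scheme.{u}} {G : X.Modules} {x : X} (h : ∀ v : G.presheaf.stalk x, v = 0) :
    x ∉ CohB1.support G :=
  notMem_support ⟨fun a b => (h a).trans (h b).symm⟩

theorem exact_ker {X : Scheme.{u}} {A B : X.Modules} (f : A ⟶ B) :
    (ShortComplex.mk (kernel.ι f) f (kernel.condition f)).Exact :=
  ShortComplex.exact_of_f_is_kernel _ (kernelIsKernel f)

theorem exact_ker_map {X Z : Scheme.{u}} (i : Z ⟶ X) {A B : Z.Modules} (f : A ⟶ B) :
    (ShortComplex.mk ((Scheme.Modules.pushforward i).map (kernel.ι f)) ((Scheme.Modules.pushforward i).map f)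
      (by rw [← Functor.map_comp, kernel.condition, Functor.map_zero])).Exact :=
  ShortComplex.exact_of_f_is_kernel _
    (isLimitForkMapOfIsLimit' (Scheme.Modules.pushforward i) (kernel.condition f) (kernelIsKernel f))

theorem eq_of_isDomain_stalk {X : Scheme.{u}} {x η η' : X} [IsDomain (X.presheaf.stalk x)] (hη : η ∈ genericPoints X)
    (hη' : η' ∈ genericPoints X) (h : η ⤳ x) (h' : η' ⤳ x) : η = η' := by
  let z := X.fromSpecStalk x (⟨⊥, Ideal.bot_prime⟩ : PrimeSpectrum (X.presheaf.stalk x))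
  have key : ∀ {θ : X}, θ ∈ genericPoints X → θ ⤳ x → z = θ := by
    intro θ hθ hθx
    obtain ⟨P, rfl⟩ : θ ∈ Set.range (X.fromSpecStalk x) := by rw [Scheme.range_fromSpecStalk]; exact hθx
    exact eq_of_specializes hθ
      (((PrimeSpectrum.le_iff_specializes _ P).1 (bot_le (a := P.asIdeal))).map (X.fromSpecStalk x).continuous)
  exact (key hη h).symm.trans (key hη' h')

variable {R : Type u} [CommRing R] [IsDomain R] [IsDiscreteValuationRing R] {X : Scheme.{u}}
  {f : X ⟶ Spec (CommRingCat.of R)} [Flat f] [IsProper f] {Xs : Scheme.{u}}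
  [Xs.Over (Spec (CommRingCat.of (IsLocalRing.ResidueField R)))] {i : Xs ⟶ X}
  (hsq : IsPullback i (Xs ↘ Spec (CommRingCat.of (IsLocalRing.ResidueField R))) f
    (Spec.map (CommRingCat.ofHom (IsLocalRing.residue R))))
  [IsReduced Xs]
  (hpure : ∀ C ∈ irreducibleComponents (Xs : Type u), topologicalKrullDim C = 1)
  (hgi : ∀ (C : Set Xs) (hC : C ∈ irreducibleComponents (Xs : Type u)), GeometricallyIntegral
    (VecSt.subschι Xs C (isClosed_of_mem_irreducibleComponents C hC) ≫
      (Xs ↘ Spec (CommRingCat.of (IsLocalRing.ResidueField R)))))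
  {Xg : Scheme.{u}} [Xg.Over (Spec (CommRingCat.of (FractionRing R)))] {j : Xg ⟶ X}
  (hgen : IsPullback j (Xg ↘ Spec (CommRingCat.of (FractionRing R))) f
    (Spec.map (CommRingCat.ofHom (algebraMap R (FractionRing R)))))

local notation "κ" => IsLocalRing.ResidueField R
local notation "qs" => Xs ↘ Spec (CommRingCat.of (IsLocalRing.ResidueField R))

include hsq

/-- The local ring of the closed fibre at a point of the smooth locus is a domain. -/
theorem isDomain_stalk_of_smooth (U : X.Opens) [Smooth (U.ι ≫ f)] (x₀ : Xs) (hx : i x₀ ∈ U) :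
    IsDomain (Xs.presheaf.stalk x₀) := by
  have sq := (isPullback_morphismRestrict i U).paste_vert hsq
  haveI : Smooth ((i ⁻¹ᵁ U).ι ≫ qs) := MorphismProperty.of_isPullback (P := @Smooth) sq inferInstance
  haveI := SmLocalST.isRegularLocalRing_stalk_of_smooth_field ((i ⁻¹ᵁ U).ι ≫ qs) ⟨x₀, hx⟩
  haveI : IsDomain ((i ⁻¹ᵁ U).toScheme.presheaf.stalk ⟨x₀, hx⟩) := Groth.Agent.S0558.result _
  exact Function.Injective.isDomain (((i ⁻¹ᵁ U).stalkIso ⟨x₀, hx⟩).commRingCatIsoToRingEquiv.symm.toRingHom)
    ((i ⁻¹ᵁ U).stalkIso ⟨x₀, hx⟩).commRingCatIsoToRingEquiv.symm.injective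

variable {I₀ E : X.Modules} {r : ℕ} (hr : 0 < r) (hE : FlatMod.IsFinLocFreeOfRank r E) {d : ℤ}
  (hEd : Curv2.deg (IsLocalRing.ResidueField R) Xs ((Scheme.Modules.pullback i).obj E) r = -(r : ℤ) * d)
  (σ : Spec (CommRingCat.of R) ⟶ X) (hσ : σ ≫ f = 𝟙 _)
  (σg : Spec (CommRingCat.of (FractionRing R)) ⟶ Xg)
  (hσg : σg ≫ (Xg ↘ Spec (CommRingCat.of (FractionRing R))) = 𝟙 _)
  (hσgj : σg ≫ j = Spec.map (CommRingCat.ofHom (algebraMap R (FractionRing R))) ≫ σ)
  (hg : TFOne.FibQuasistableAlong (Xg ↘ Spec (CommRingCat.of (FractionRing R)))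
    ((Scheme.Modules.pullback j).obj I₀) ((Scheme.Modules.pullback j).obj E) σg hσg r)
  (x₀ : Xs) (hx₀ : i x₀ = σ (IsLocalRing.closedPoint R))
  {W : Set Xs} (hW : W ∈ irreducibleComponents (Xs : Type u)) (hxW : x₀ ∈ W)
  (huniq : ∀ η ∈ genericPoints Xs, η ⤳ x₀ → η ∈ W)

include hpure hgi hgen hr hE hEd hσ hσgj hg hx₀ hW hxW huniq

/-- A decomposed tower at a proper subcurve through the marked point has positive `β`. -/
theorem pos_of_tower (In : ℕ → X.Modules) (hIn : IsGood f i j I₀ (In 0))
    (hχ : Curv2.euler κ Xs ((Scheme.Modules.pullback i).obj (In 0)) = d) {Y Y' : Set Xs} (hY : IsClosed Y)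
    (hYs : VecSt.IsSubcurve Xs Y) (hYne : Y ≠ Set.univ) (hWY : W ⊆ Y)
    (hY' : ∀ η ∈ genericPoints Xs, (η ∈ Y' ↔ η ∉ Y)) (G G' : ℕ → Xs.Modules)
    (π : ∀ n, (Scheme.Modules.pullback i).obj (In n) ⟶ G n)
    (π' : ∀ n, (Scheme.Modules.pullback i).obj (In n) ⟶ G' n)
    (hG : ∀ n, TFOne.IsQuotOn Xs ((Scheme.Modules.pullback i).obj (In n)) Y (G n) (π n))
    (hG' : ∀ n, TFOne.IsQuotOn Xs ((Scheme.Modules.pullback i).obj (In n)) Y' (G' n) (π' n))
    (hstep : ∀ n, In (n + 1) = kernel (modQ i (π n))) (hdec : ∀ n, IsIso (biprod.lift (π n) (π' n))) :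
    0 < TFOne.rBeta Xs κ qs Y hY ((Scheme.Modules.pullback i).obj E) r (G 0) := by
  classical
  haveI := proper_fibre hsq
  haveI := isClosedImmersion_fibre hsq
  haveI := CurveRR.isNoetherian_of_proper κ Xs
  obtain ⟨t, ht⟩ := IsDiscreteValuationRing.exists_irreducible R
  obtain ⟨C⟩ := exists_compl hsq ht
  haveI := C.proper
  haveI := C.closed
  haveI : IsLocallyNoetherian C.Xh := LocallyOfFiniteType.isLocallyNoetherian C.q
  obtain ⟨F, p, hF, hp, hm, hfl, e, he⟩ :=
    C.exists_quotient In hIn.coh hIn.flat ht hsq hIn.tf Y Y' hY' G G' π π' hG hG' hstep hdec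
  obtain ⟨g', χ, hg', sqg, hχ'⟩ := C.exists_generic hsq hgen
  obtain ⟨eI⟩ := hIn.gen
  -- the section
  let a := Spec.map (CommRingCat.ofHom C.φ)
  let σh : Spec (CommRingCat.of C.A) ⟶ C.Xh := C.sq.lift (a ≫ σ) (𝟙 _)
    (by rw [Category.assoc, hσ, Category.comp_id, Category.id_comp])
  have hσh1 : σh ≫ C.g = a ≫ σ := C.sq.lift_fst _ _ _
  have hσh2 : σh ≫ C.q = 𝟙 _ := C.sq.lift_snd _ _ _
  let y : Spec (CommRingCat.of C.Ω) ⟶ C.Yo := C.squ.lift (Spec.map (CommRingCat.ofHom C.ψ) ≫ σh) (𝟙 _)
    (by rw [Category.assoc, hσh2, Category.comp_id, Category.id_comp])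
  have hy1 : y ≫ C.u = Spec.map (CommRingCat.ofHom C.ψ) ≫ σh := C.squ.lift_fst _ _ _
  have hy2 : y ≫ C.qo = 𝟙 _ := C.squ.lift_snd _ _ _
  have hyg : y ≫ g' = Spec.map (CommRingCat.ofHom χ) ≫ σg := by
    apply hgen.hom_ext
    · rw [Category.assoc, hg', reassoc_of% hy1, hσh1, Category.assoc, hσgj, reassoc_of% hχ']
    · rw [Category.assoc, Category.assoc, hσg, sqg.w, ← Category.assoc, hy2, Category.id_comp, Category.comp_id]
  have hq := isQuasistableAtPt_of_iso C.qo
    ((Scheme.Modules.pullback g').mapIso eI.symm ≪≫ (Scheme.Modules.pullbackComp g' j).app (In 0) ≪≫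
      (Scheme.Modules.pullbackCongr hg').app (In 0))
    ((Scheme.Modules.pullbackComp g' j).app E ≪≫ (Scheme.Modules.pullbackCongr hg').app E)
    (hg C.Ω _ C.Yo g' C.qo sqg y hyg hy2)
  haveI := C.reducedYo hgi
  haveI : IsProper (C.Yo ↘ Spec (CommRingCat.of C.Ω)) := C.properYo
  haveI := CurveRR.isNoetherian_of_proper C.Ω C.Yo
  haveI : IsLocallyNoetherian C.Yo := LocallyOfFiniteType.isLocallyNoetherian (C.Yo ↘ Spec (CommRingCat.of C.Ω))
  obtain ⟨Z, hZ, GZ, πZ, hGZ, hZs, hZgen, hle⟩ := C.exists_generic_quot hgi hpure hE hq.1.1 hIn.tf hF hfl p hY (hG 0) e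
  let M := (Scheme.Modules.pullback C.g).obj (In 0)
  let U := Scheme.Modules.pullback C.u
  let θ' := (Scheme.Modules.pullbackComp C.u C.g).inv.app (In 0)
  let θ₁ := (Scheme.Modules.pullbackComp C.u C.g).hom.app (In 0)
  let K := kernel p
  have hK : Coh.IsCoh K := QC.isCoh_kernel (QC.isCoh_pullback C.g hIn.coh) hF.1 p
  letI := C.ψ.toAlgebra
  haveI : Module.IsTorsionFree C.A C.Ω := Module.IsTorsionFree.of_smul_eq_zero fun a x hax => by
    rcases mul_eq_zero.1 (show C.ψ a * x = 0 from hax) with h | h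
    · exact Or.inl (C.ψinj (h.trans (map_zero C.ψ).symm))
    · exact Or.inr h
  haveI : Flat (Spec.map (CommRingCat.ofHom C.ψ)) := Flat.SpecMap_iff.2 (RingHom.flat_algebraMap_iff.2 inferInstance)
  haveI : Flat C.u := MorphismProperty.of_isPullback (P := @Flat) C.squ.flip inferInstance
  haveI : Mono (U.map (kernel.ι p)) := FlatFunLib.mono_pullback_of_flat C.u (kernel.ι p)
  have hTo := hq.1.1
  -- generic points seen in the quotient
  have hinjK : ∀ η ∈ genericPoints C.Yo, η ∈ Z → ∀ v, stalkHom (U.map (kernel.ι p) ≫ θ₁) η v = 0 := by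
    intro η hη hηZ v
    haveI : Epi (θ' ≫ U.map p) := inferInstance
    refine stalkHom_injective_of_mem hTo.2.2 (θ' ≫ U.map p) hη ((hZgen η hη).1 hηZ) ?_
    rw [map_zero, ← stalkHom_comp, show (U.map (kernel.ι p) ≫ θ₁) ≫ θ' ≫ U.map p = 0 by
      simp only [θ₁, θ', Category.assoc]; rw [Iso.hom_inv_id_app_assoc, ← U.map_comp, kernel.condition, U.map_zero], stalkHom_zero]
  -- the marked point
  let xh := σh (IsLocalRing.closedPoint C.A)
  have hxh : xh = C.ih x₀ := by
    obtain ⟨pp, hpp, -⟩ := Scheme.Pullback.exists_preimage_pullback (f := C.q) (g := C.c) xh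
      (IsLocalRing.closedPoint (IsLocalRing.ResidueField R)) (by
        rw [← Scheme.Hom.comp_apply, hσh2, C.hc]; rfl)
    obtain ⟨x', hx'⟩ : ∃ x', C.ih x' = xh := ⟨C.sqs.isoPullback.inv pp, by
      rw [← Scheme.Hom.comp_apply, IsPullback.isoPullback_inv_fst, hpp]⟩
    rw [← hx']
    refine congrArg C.ih (i.isClosedEmbedding.injective ?_)
    rw [hx₀]
    have h1 : i x' = σ (a (IsLocalRing.closedPoint C.A)) := by
      refine (congrArg (fun φ : Xs ⟶ X => φ x') C.hih.symm).trans ?_
      rw [Scheme.Hom.comp_apply, hx', ← Scheme.Hom.comp_apply, hσh1, Scheme.Hom.comp_apply]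
    have h2 : a (IsLocalRing.closedPoint C.A) = IsLocalRing.closedPoint R := by
      have h3 : f (i x') = IsLocalRing.closedPoint R := by
        rw [← Scheme.Hom.comp_apply, hsq.w, Scheme.Hom.comp_apply]
        refine PrimeSpectrum.ext ?_
        change Ideal.comap (IsLocalRing.residue R) (PrimeSpectrum.asIdeal (qs x')) = IsLocalRing.maximalIdeal R
        rw [Ideal.eq_bot_of_prime (PrimeSpectrum.asIdeal (qs x')), ← RingHom.ker_eq_comap_bot, IsLocalRing.ker_residue]
      rw [h1, ← Scheme.Hom.comp_apply, hσ] at h3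
      exact h3
    rw [h1, h2]
  -- the quotient is an isomorphism at the marked point
  have hK0 : ∀ v : K.presheaf.stalk xh, v = 0 := by
    let P := Scheme.Modules.pullback C.ih
    let adj := Scheme.Modules.pullbackPushforwardAdjunction C.ih
    let π₁ := P.map p ≫ e.hom
    let θ := (Scheme.Modules.pullbackComp C.ih C.g).hom.app (In 0) ≫
      (Scheme.Modules.pullbackCongr C.hih).hom.app (In 0)
    haveI : IsIso θ := inferInstance
    have hinj : Function.Injective (stalkHom (P.map p) x₀) := by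
      rw [injective_iff_map_eq_zero]
      intro v hv
      have hk : ∀ w : (kernel (π 0)).presheaf.stalk x₀, w = 0 := by
        have htf := isTorsionFree_of_mono (kernel.ι (π 0)) hIn.tf.2.1
        haveI := (hG 0).1
        have hc : Coh.IsCoh (kernel (π 0)) := QC.isCoh_kernel hIn.tf.1 (hG 0).2.1.1 _
        refine fun w => stalk_eq_zero' ?_ w
        rw [support_eq hc htf]
        rintro ⟨_, ⟨-, η, hη, rfl, hηs⟩, hx⟩
        have hηY : η ∈ Y := hWY (huniq η hη (specializes_iff_mem_closure.2 hx))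
        refine notMem_of_forall' (fun w => stalkHom_injective (kernel.ι (π 0)) η ?_) hηs
        rw [map_zero]
        refine (injective_iff_map_eq_zero _).1 (stalkHom_injective_of_quot hIn.tf.2.2 (hG 0) hη hηY) _ ?_
        rw [← stalkHom_comp, kernel.condition, stalkHom_zero]
      have h0 : stalkHom (π 0) x₀ (stalkHom θ x₀ v) = 0 := by
        rw [← stalkHom_comp, show θ ≫ π 0 = P.map p ≫ e.hom by rw [he, Category.assoc]]; refine (stalkHom_comp _ _ x₀ v).trans ?_; rw [hv, map_zero]
      obtain ⟨w, hw⟩ := exact_stalk _ (exact_ker (π 0)) x₀ _ h0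
      rw [hk w, map_zero] at hw
      exact stalkHom_injective θ x₀ (hw.symm.trans (map_zero _).symm)
    have hpush : ∀ v : ((Scheme.Modules.pushforward C.ih).obj (P.obj M)).presheaf.stalk xh,
        stalkHom ((Scheme.Modules.pushforward C.ih).map (P.map p)) xh v = 0 → v = 0 := by
      intro v hv
      have hnot : xh ∉ CohB1.support ((Scheme.Modules.pushforward C.ih).obj (kernel (P.map p))) := by
        rw [FSchExist.support_push C.ih, hxh]
        rintro ⟨z, hz, hzx⟩
        obtain rfl := C.ih.isClosedEmbedding.injective hzx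
        refine hz ⟨fun a b => stalkHom_injective (kernel.ι (P.map p)) _ (hinj ?_)⟩
        rw [← stalkHom_comp, ← stalkHom_comp, kernel.condition, stalkHom_zero, stalkHom_zero]
      obtain ⟨w, hw⟩ := exact_stalk _ (exact_ker_map C.ih (P.map p)) xh v hv
      rw [← hw, stalk_eq_zero' hnot w, map_zero]
    by_contra hne
    push_neg at hne
    obtain ⟨v₀, hv₀⟩ := hne
    -- every element of the kernel is a multiple of `t`
    have hdiv : ∀ v : K.presheaf.stalk xh, ∃ w, stalkHom (Formal.smulMod C.A K (C.φ t)) xh w = v := by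
      intro v
      have h1 : stalkHom (adj.unit.app M) xh (stalkHom (kernel.ι p) xh v) = 0 := by
        refine hpush _ ?_
        have := adj.unit.naturality p
        simp only [Functor.id_map, Functor.comp_map] at this
        refine (stalkHom_comp _ _ xh _).symm.trans ((congrArg (fun φ => stalkHom φ xh _) this.symm).trans ?_)
        refine (stalkHom_comp p _ xh _).trans ?_
        rw [← stalkHom_comp (kernel.ι p) p, kernel.condition, stalkHom_zero, map_zero]
      obtain ⟨m, hm1⟩ := exact_stalk _ (exact_unit C.ih C.ker M) xh _ h1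
      have h2 : stalkHom p xh m = 0 := by
        refine stalkHom_injective (Formal.smulMod C.A F (C.φ t)) xh ?_
        rw [map_zero, ← stalkHom_comp, ← W7Cech.smulMod_natural, stalkHom_comp]
        refine (congrArg (stalkHom p xh) hm1).trans ?_
        rw [← stalkHom_comp, kernel.condition, stalkHom_zero]
      obtain ⟨w, hw⟩ := exact_stalk _ (exact_ker p) xh m h2
      refine ⟨w, stalkHom_injective (kernel.ι p) xh ?_⟩
      rw [← stalkHom_comp, W7Cech.smulMod_natural, stalkHom_comp]
      exact (congrArg _ hw).trans hm1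
    have hP : ∀ v : (P.obj K).presheaf.stalk x₀, v = 0 := by
      haveI : Epi (P.map (cokernel.π (Formal.smulMod C.A K (C.φ t)))) := inferInstance
      haveI : Mono (P.map (cokernel.π (Formal.smulMod C.A K (C.φ t)))) := by
        have hc := isColimitCoforkMapOfIsColimit' P (cokernel.condition (Formal.smulMod C.A K (C.φ t)))
          (cokernelIsCokernel _)
        obtain ⟨l, hl⟩ := CokernelCofork.IsColimit.desc' hc (𝟙 _)
          (by rw [pullback_smulMod C.ih C.ker K, zero_comp])
        haveI : IsSplitMono (P.map (cokernel.π (Formal.smulMod C.A K (C.φ t)))) := IsSplitMono.mk' ⟨l, hl⟩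
        infer_instance
      have hcz : x₀ ∉ CohB1.support (P.obj (cokernel (Formal.smulMod C.A K (C.φ t)))) := by
        haveI : Coh.IsQCoh (cokernel (Formal.smulMod C.A K (C.φ t))) := (QC.isCoh_cokernel hK.1 hK _).1
        rw [SupportLib.support_pullback C.ih _ (QC.isCoh_cokernel hK.1 hK _).2]
        show C.ih x₀ ∉ CohB1.support (cokernel (Formal.smulMod C.A K (C.φ t)))
        rw [← hxh]
        refine notMem_of_forall' fun c => ?_
        obtain ⟨v, rfl⟩ := stalkHom_surjective (cokernel.π (Formal.smulMod C.A K (C.φ t))) xh c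
        obtain ⟨w, rfl⟩ := hdiv v
        rw [← stalkHom_comp, cokernel.condition, stalkHom_zero]
      intro v
      refine stalkHom_injective (P.map (cokernel.π (Formal.smulMod C.A K (C.φ t)))) x₀ ?_
      exact (stalk_eq_zero' hcz _).trans (map_zero _).symm
    refine hv₀ (stalk_eq_zero' ?_ v₀)
    rw [hxh]
    intro hmem
    have hx₀s : x₀ ∈ CohB1.support (P.obj K) := by
      haveI : Coh.IsQCoh K := hK.1
      rw [SupportLib.support_pullback C.ih K hK.2]
      exact hmem
    exact notMem_of_forall' hP hx₀s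
  -- the section meets the support
  have hyZ : y (IsLocalRing.closedPoint C.Ω) ∈ Z := by
    obtain ⟨η, hη, hηy⟩ := exists_generic (y (IsLocalRing.closedPoint C.Ω))
    refine (hηy.mem_closed hZ ((hZgen η hη).2 ?_))
    have hsp : C.u η ⤳ xh := by
      refine (hηy.map C.u.continuous).trans ?_
      rw [← Scheme.Hom.comp_apply, hy1, Scheme.Hom.comp_apply]
      exact (IsLocalRing.specializes_closedPoint _).map σh.continuous
    haveI : Coh.IsQCoh F := hF.1
    rw [SupportLib.support_pullback C.u F hF.2]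
    change C.u η ∈ CohB1.support F
    intro hsub
    have hKη : C.u η ∉ CohB1.support K := fun h =>
      notMem_of_forall' hK0 (hsp.mem_closed (QC.isClosed_support hK.2) h)
    have hMη : C.u η ∉ CohB1.support M := notMem_of_forall' fun m => by
      obtain ⟨w, hw⟩ := exact_stalk _ (exact_ker p) (C.u η) m (@Subsingleton.elim _ hsub _ _)
      rw [← hw, stalk_eq_zero' hKη w, map_zero]
    have hMo : η ∉ CohB1.support (U.obj M) := by
      haveI : Coh.IsQCoh M := (QC.isCoh_pullback C.g hIn.coh).1
      rw [SupportLib.support_pullback C.u M (QC.isCoh_pullback C.g hIn.coh).2]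
      exact hMη
    obtain ⟨m, hm'⟩ := exists_ne_zero hTo.2.2 hη
    refine hm' (stalkHom_injective θ' η ?_)
    rw [map_zero]
    exact stalk_eq_zero' hMo _
  have hZne : Z ≠ Set.univ := by
    intro hu
    have hz : IsZero (U.obj K) := by
      haveI : Mono θ₁ := inferInstance
      refine (IsZero.iff_id_eq_zero _).2 ?_
      rw [← cancel_mono (U.map (kernel.ι p) ≫ θ₁), Category.id_comp, zero_comp]
      exact hom_eq_zero hTo.1.1 hTo.2.1 _ fun η hη v => hinjK η hη (hu ▸ trivial) v
    letI : C.Xh.Over (Spec (CommRingCat.of C.A)) := ⟨C.q⟩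
    haveI : Mono (Formal.smulMod C.A M (C.φ t)) := mono_smulMod_of_flat C.q M
      (fun x => FlatModBC.isFlatOverAt_baseChange C.sq (In 0) x (hIn.flat _)) C.unif.ne_zero
    have hKz : IsZero K := C.isZero_of_generic hK (mono_smulMod_of_mono (kernel.ι p) _) hz
    haveI : Mono p := Preadditive.mono_of_isZero_kernel p hKz
    haveI : IsIso p := isIso_of_mono_of_epi p
    haveI : IsIso (π 0) := by
      have h1 : IsIso ((Scheme.Modules.pullback C.ih).map p ≫ e.hom) := inferInstance
      rw [he, ← Category.assoc] at h1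
      haveI := h1
      exact IsIso.of_isIso_comp_left ((Scheme.Modules.pullbackComp C.ih C.g).hom.app (In 0) ≫
        (Scheme.Modules.pullbackCongr C.hih).hom.app (In 0)) (π 0)
    refine hYne (Set.eq_univ_of_forall fun x => ?_)
    obtain ⟨η, hη, hηx⟩ := exists_generic x
    refine hηx.mem_closed hY ?_
    rw [← (hG 0).2.2.2]
    exact mem_of_injective hIn.tf.2.2 (π 0) hη (stalkHom_injective (π 0) η)
  have hZsub : VecSt.IsSubcurve C.Yo Z := hZs.resolve_right fun h => by rw [h] at hyZ; exact hyZ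
  exact (hq.2 Z hZ hZsub hZne hyZ GZ πZ hGZ).trans_le hle

end Groth.Agent.TFOneLib
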