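import Groth.Agent.TFOneLib.Euler
import Groth.Agent.CurveVA.Domain
import Groth.Agent.KrullSch.Coherent

/-!
Rational functions algebraic over the ground field on geometrically integral curves are constants.
-/

set_option autoImplicit false
set_option linter.style.haveILetI false
set_option linter.unusedSectionVars false
set_option backward.isDefEq.respectTransparency false

universe u

open CategoryTheory CategoryTheory.Limits AlgebraicGeometry TopologicalSpace Opposite Polynomial
open Groth.Agent.WeakAssLib (mgerm mgerm_res mgerm_smul stalkHom stalkHom_germ stalkHom_smul)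
open scoped TensorProduct

noncomputable section

namespace Groth.Agent.TFOneLib

variable (k : Type u) [Field k] {X : Scheme.{u}}

/-- The constants in a stalk, for an explicit structure morphism. -/
def cstStalk (q : X ⟶ Spec (CommRingCat.of k)) (x : X) : k →+* X.presheaf.stalk x :=
  (X.presheaf.germ ⊤ x trivial).hom.comp (Coh.toGlobal q)

variable {k}

theorem stalkMap_cstStalk {Y : Scheme.{u}} (f : Y ⟶ X) (q : X ⟶ Spec (CommRingCat.of k)) (y : Y) (a : k) :
    (f.stalkMap y).hom (cstStalk k q (f y) a) = cstStalk k (f ≫ q) y a := by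
  change (f.stalkMap y).hom ((X.presheaf.germ ⊤ (f y) trivial).hom (Coh.toGlobal q a)) = _
  rw [← CommRingCat.comp_apply, Scheme.Hom.germ_stalkMap, CommRingCat.comp_apply]
  rfl

/-- A product decomposition `c · p = (bX − a) · q` with small degrees makes `A ⊗ k[X]/(p)` fail to be a domain. -/
theorem natDegree_eq_one_of_domain {A : Type u} [CommRing A] [IsDomain A] [Algebra k A] {p : k[X]}
    [Fact (Irreducible p)] (hm : p.Monic) (hdom : IsDomain (A ⊗[k] AdjoinRoot p)) (a b c : A) (hb : b ≠ 0)
    (q : A[X]) (hq0 : q ≠ 0) (hqd : q.natDegree < p.natDegree)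
    (he : (C b * Polynomial.X - C a) * q = C c * p.map (algebraMap k A)) : p.natDegree ≤ 1 := by
  by_contra hd
  push Not at hd
  let θ := AdjoinRoot.root p
  let pb := AdjoinRoot.powerBasis' hm
  let B := Algebra.TensorProduct.basis A pb.basis
  let ev : A[X] →ₐ[A] (A ⊗[k] AdjoinRoot p) := Polynomial.aeval ((1 : A) ⊗ₜ[k] θ)
  have hev : ∀ r : A[X], r.natDegree < p.natDegree → ev r = 0 → r = 0 := by
    intro r hr h0
    have hsum : ev r = ∑ i : Fin pb.dim, r.coeff i • B i := by
      rw [show pb.dim = p.natDegree from rfl] at *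
      change Polynomial.aeval ((1 : A) ⊗ₜ[k] θ) r = _
      rw [Polynomial.aeval_eq_sum_range' hr, Finset.sum_range]
      refine Finset.sum_congr rfl fun i _ => ?_
      rw [Algebra.TensorProduct.tmul_pow, one_pow]
      congr 1
      rw [Algebra.TensorProduct.basis_apply, pb.basis_eq_pow]
      rfl
    rw [hsum] at h0
    have hc := Fintype.linearIndependent_iff.1 B.linearIndependent _ h0
    ext i
    rw [Polynomial.coeff_zero]
    by_cases hi : i < pb.dim
    · exact hc ⟨i, hi⟩
    · exact Polynomial.coeff_eq_zero_of_natDegree_lt (lt_of_lt_of_le hr (not_lt.1 hi))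
  have hp0 : ev (p.map (algebraMap k A)) = 0 := by
    change Polynomial.aeval _ _ = _
    rw [Polynomial.aeval_map_algebraMap]
    change Polynomial.aeval ((Algebra.TensorProduct.includeRight : AdjoinRoot p →ₐ[k] A ⊗[k] AdjoinRoot p) θ) p = 0
    rw [Polynomial.aeval_algHom_apply, AdjoinRoot.aeval_eq, AdjoinRoot.mk_self, map_zero]
  have h := congrArg ev he
  rw [map_mul, map_mul, hp0, mul_zero] at h
  rcases mul_eq_zero.1 h with h1 | h1
  · have := congrArg (fun r : A[X] => r.coeff 1) (hev _ (lt_of_le_of_lt (by
      refine (Polynomial.natDegree_sub_le _ _).trans (max_le ?_ (by simp))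
      exact (Polynomial.natDegree_C_mul_le _ _).trans Polynomial.natDegree_X_le) hd) h1)
    simp [Polynomial.coeff_C] at this
    exact hb this
  · exact hq0 (hev q hqd h1)

variable [X.Over (Spec (CommRingCat.of k))]

/-- On a geometrically integral scheme a rational function algebraic over `k` is a constant. -/
theorem exists_cst_of_root [IsIntegral X] [GeometricallyIntegral (X ↘ Spec (CommRingCat.of k))]
    {p : k[X]} (hp : Irreducible p) (hm : p.Monic) (t : X.functionField)
    (ht : p.eval₂ (cstStalk k (X ↘ Spec (CommRingCat.of k)) (genericPoint X)) t = 0) :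
    ∃ c : k, t = cstStalk k (X ↘ Spec (CommRingCat.of k)) (genericPoint X) c := by
  let κ : k →+* X.functionField := cstStalk k (X ↘ Spec (CommRingCat.of k)) (genericPoint X)
  suffices hd : p.natDegree ≤ 1 by
    have h1 : p.natDegree = 1 := le_antisymm hd hp.natDegree_pos
    refine ⟨-p.coeff 0, ?_⟩
    rw [Polynomial.eval₂_eq_sum_range, h1] at ht
    simp only [Finset.sum_range_succ, Finset.sum_range_zero, zero_add, pow_zero, mul_one, pow_one] at ht
    rw [show p.coeff 1 = 1 by rw [← h1]; exact hm.coeff_natDegree, map_one, one_mul] at ht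
    rw [map_neg]
    exact eq_neg_of_add_eq_zero_right ht
  obtain ⟨U, hU, hgU, -⟩ := exists_isAffineOpen_mem_and_subset (X := X) (x := genericPoint X) (U := ⊤) trivial
  haveI : Nonempty U := ⟨⟨_, hgU⟩⟩
  haveI := functionField_isFractionRing_of_isAffineOpen X U hU
  letI := (ZeroSch.cst k U).toAlgebra
  haveI := Fact.mk hp
  have hdom := CurveVA.isDomain_tensor (k := k) (X := X) hU (AdjoinRoot p)
  have hκ : κ = (algebraMap Γ(X, U) X.functionField).comp (algebraMap k Γ(X, U)) := by
    ext a
    exact (X.presheaf.germ_res_apply (homOfLE (le_top : U ≤ ⊤)) (genericPoint X) hgU _).symm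
  let P : X.functionField[X] := p.map κ
  have hP : P.Monic := hm.map κ
  have hroot : P.IsRoot t := by rw [Polynomial.IsRoot.def, Polynomial.eval_map]; exact ht
  obtain ⟨Q, hQ⟩ := Polynomial.dvd_iff_isRoot.2 hroot
  have hQ0 : Q ≠ 0 := fun h => hP.ne_zero (by rw [hQ, h, mul_zero])
  have hQd : Q.natDegree < p.natDegree := by
    have := congrArg Polynomial.natDegree hQ
    rw [Polynomial.natDegree_mul (Polynomial.X_sub_C_ne_zero t) hQ0, Polynomial.natDegree_X_sub_C,
      hm.natDegree_map] at this
    omega
  obtain ⟨d, hd⟩ := IsLocalization.integerNormalization_map_to_map (nonZeroDivisors Γ(X, U)) Q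
  obtain ⟨a, b, hb, hab⟩ := IsFractionRing.div_surjective (A := Γ(X, U)) t
  have hb' : algebraMap Γ(X, U) X.functionField b ≠ 0 :=
    IsFractionRing.to_map_ne_zero_of_mem_nonZeroDivisors hb
  let q := IsLocalization.integerNormalization (nonZeroDivisors Γ(X, U)) Q
  refine natDegree_eq_one_of_domain hm hdom a b (b * d) (nonZeroDivisors.ne_zero hb) q
    (fun h => hQ0 (IsFractionRing.integerNormalization_eq_zero_iff.1 h)) ?_ ?_
  · refine lt_of_le_of_lt ?_ hQd
    rw [← Polynomial.natDegree_map_eq_of_injective (IsFractionRing.injective Γ(X, U) X.functionField) q, hd]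
    exact Polynomial.natDegree_smul_le _ _
  · refine Polynomial.map_injective _ (IsFractionRing.injective Γ(X, U) X.functionField) ?_
    rw [Polynomial.map_mul, Polynomial.map_mul, hd, Polynomial.map_map, ← hκ, Polynomial.map_sub,
      Polynomial.map_mul, Polynomial.map_C, Polynomial.map_C, Polynomial.map_X, Polynomial.map_C, map_mul]
    change _ = C _ * P
    rw [hQ, Algebra.smul_def, IsScalarTower.algebraMap_apply Γ(X, U) X.functionField (X.functionField[X])]
    rw [show algebraMap Γ(X, U) X.functionField a = t * algebraMap Γ(X, U) X.functionField b by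
      rw [← hab, div_mul_cancel₀ _ hb']]
    simp only [Polynomial.algebraMap_eq, map_mul]
    ring

end Groth.Agent.TFOneLib
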